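import Cfsg.Agent.Lib.Perm.OddTransposition.Basic
import Cfsg.Agent.Lib.Solvable.Cores
import Mathlib.Data.Set.Card

/-!
# Odd transpositions: middle elements, odd components and the kernel of the action on classes

Elementary facts used for the structure of a connected class of odd transpositions: the member
exchanging two non-commuting members is unique among commuting ones and lies in every set they
normalise; a set invariant under its own members is normalised by the group it generates; and an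
element of the group of a class which fixes every class is trivial when there is no normal
2-subgroup.
-/

set_option autoImplicit false
set_option linter.style.haveILetI false

namespace CfsgLib.Perm.OddConnected

open Cfsg CfsgLib.Perm.RootInvolution CfsgLib.Perm.OddTransposition CfsgLib.Involution

variable {G : Type*} [Group G] {D : Set G}

/-- Non-commuting pairs of `S`. -/
def NC (S : Set G) (p q : G) : Prop := p ∈ S ∧ q ∈ S ∧ ¬ Commute p q

theorem NC.symm {S : Set G} {p q : G} (h : NC S p q) : NC S q p :=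
  ⟨h.2.1, h.1, fun e => h.2.2 e.symm⟩

theorem reach_symm {S : Set G} {p q : G} (h : Relation.ReflTransGen (NC S) p q) :
    Relation.ReflTransGen (NC S) q p := by
  induction h with
  | refl => exact .refl
  | tail _ h2 ih => exact ih.head h2.symm

/-- The component of `d` in the graph of non-commuting pairs of `A`. -/
def oddComp (A : Set G) (d : G) : Set G := {p | p ∈ A ∧ Relation.ReflTransGen (NC A) d p}

theorem oddComp_subset {A : Set G} {d : G} : oddComp A d ⊆ A := fun _ h => h.1

theorem self_mem_oddComp {A : Set G} {d : G} (hd : d ∈ A) : d ∈ oddComp A d := ⟨hd, .refl⟩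

theorem mem_oddComp_of_not_commute {A : Set G} {d p q : G} (hp : p ∈ oddComp A d) (hq : q ∈ A)
    (h : ¬ Commute p q) : q ∈ oddComp A d :=
  ⟨hq, hp.2.tail ⟨hp.1, hq, h⟩⟩

/-- A member outside a component commutes with all of it. -/
theorem commute_of_not_mem_oddComp {A : Set G} {d p q : G} (hp : p ∈ oddComp A d) (hq : q ∈ A)
    (hn : q ∉ oddComp A d) : Commute p q :=
  by_contra fun h => hn (mem_oddComp_of_not_commute hp hq h)

theorem oddComp_linked {A : Set G} {d p q : G} (hp : p ∈ oddComp A d) (hq : q ∈ oddComp A d) :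
    Relation.ReflTransGen (NC (oddComp A d)) p q := by
  have key : ∀ r, Relation.ReflTransGen (NC A) d r → d ∈ A →
      Relation.ReflTransGen (NC (oddComp A d)) d r := by
    intro r hr hdA
    induction hr with
    | refl => exact .refl
    | @tail b c hb hbc ih => exact ih.tail ⟨⟨hbc.1, hb⟩, ⟨hbc.2.1, hb.tail hbc⟩, hbc.2.2⟩
  have hdA : d ∈ A := by
    rcases hp.2.cases_head with rfl | ⟨r, hr, -⟩
    · exact hp.1
    · exact hr.1
  exact (reach_symm (key p hp.2 hdA)).trans (key q hq.2 hdA)

theorem oddComp_conj {A : Set G} (hA : ∀ g ∈ A, ∀ a ∈ A, g * a * g⁻¹ ∈ A) {d g a : G}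
    (hg : g ∈ oddComp A d) (ha : a ∈ oddComp A d) : g * a * g⁻¹ ∈ oddComp A d := by
  refine ⟨hA g hg.1 a ha.1, hg.2.trans ?_⟩
  have h := (reach_symm hg.2).trans ha.2
  clear ha
  induction h with
  | refl => rw [mul_inv_cancel_right]
  | @tail b c _ hbc ih =>
    refine ih.tail ⟨hA g hg.1 b hbc.1, hA g hg.1 c hbc.2.1, fun e => hbc.2.2 ?_⟩
    simpa [mul_assoc] using e.conj g⁻¹

theorem even_ncard_fixed {α : Type*} [Finite α] {s : Set α} (σ : α → α) (hmaps : ∀ a ∈ s, σ a ∈ s)
    (hinv : ∀ a ∈ s, σ (σ a) = a) : Even (s.ncard + {a ∈ s | σ a = a}.ncard) := by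
  classical
  haveI := Fintype.ofFinite α
  have hsum : ((s.ncard + {a ∈ s | σ a = a}.ncard : ℕ) : ZMod 2) = 0 := by
    rw [Set.ncard_eq_toFinset_card', Set.ncard_eq_toFinset_card', Nat.cast_add,
      Finset.card_eq_sum_ones, Finset.card_eq_sum_ones]
    push_cast
    rw [show ({a ∈ s | σ a = a}).toFinset = s.toFinset.filter (fun a => σ a = a) by ext; simp,
      Finset.sum_filter, ← Finset.sum_add_distrib]
    refine Finset.sum_involution (fun a _ => σ a) (fun a ha => ?_) (fun a ha hne e => hne ?_)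
      (fun a ha => by simpa using hmaps a (by simpa using ha))
      (fun a ha => hinv a (by simpa using ha))
    · have h2 := hinv a (by simpa using ha)
      by_cases hf : σ a = a
      · rw [if_pos hf, if_pos (by rw [h2, hf])]; decide
      · rw [if_neg hf, if_neg (fun e => hf (by rw [h2] at e; exact e.symm))]; decide
    · rw [if_pos e]; decide
  exact even_iff_two_dvd.2 ((ZMod.natCast_eq_zero_iff _ 2).1 hsum)

section Conj

variable (hD : IsRootInvolutionSet D)
include hD

theorem conj_conj_self {g : G} (hg : g ∈ D) (a : G) : g * (g * a * g⁻¹) * g⁻¹ = a := by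
  rw [inv_eq hD hg, ← mul_assoc, ← mul_assoc, sq_one hD hg, one_mul, mul_assoc, sq_one hD hg,
    mul_one]

/-- The group generated by a set invariant under its own members normalises it. -/
theorem closure_normalises {S : Set G} (hS : S ⊆ D) (hinv : ∀ g ∈ S, ∀ a ∈ S, g * a * g⁻¹ ∈ S)
    {g a : G} (hg : g ∈ Subgroup.closure S) (ha : a ∈ S) : g * a * g⁻¹ ∈ S := by
  suffices h : ∀ b ∈ S, g * b * g⁻¹ ∈ S ∧ g⁻¹ * b * g ∈ S from (h a ha).1
  induction hg using Subgroup.closure_induction with
  | mem x hx =>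
    intro b hb
    refine ⟨hinv x hx b hb, ?_⟩
    have := hinv x hx b hb
    rw [inv_eq hD (hS hx)] at this ⊢
    exact this
  | one => intro b hb; simpa using hb
  | mul x y _ _ ihx ihy =>
    intro b hb
    constructor
    · have := (ihx _ (ihy b hb).1).1
      simpa [mul_assoc] using this
    · have := (ihy _ (ihx b hb).2).2
      simpa [mul_assoc] using this
  | inv x _ ih => intro b hb; simpa using And.symm (ih b hb)

end Conj

variable (hD : IsOddTranspositionSet D)
include hD

theorem commute_of_conj_commute {c f : G} (hc : c ∈ D) (hf : f ∈ D)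
    (h : Commute (c * f * c⁻¹) f) : Commute c f := by
  by_contra hn
  obtain ⟨-, -, hne, hodd⟩ := adj_of_not_commute hD hc hf hn
  have h4 : (c * f) ^ 4 = 1 := by
    have e : (c * f) ^ 2 = (c * f * c⁻¹) * f := by rw [pow_two, inv_eq hD.1 hc]; group
    rw [show 4 = 2 * 2 from rfl, pow_mul, e, pow_two, h.symm.mul_mul_mul_comm, sq_one hD.1 hf,
      sq_one hD.1 (hD.1.conj_mem f hf c), one_mul]
  have h1 : orderOf (c * f) ∣ 1 := Nat.Coprime.dvd_of_dvd_mul_right
    (Nat.Coprime.pow_right 2 (Nat.coprime_two_right.2 hodd))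
    (show orderOf (c * f) ∣ 1 * 2 ^ 2 by simpa using orderOf_dvd_of_pow_eq_one h4)
  rw [Nat.dvd_one, orderOf_eq_one_iff] at h1
  exact hne (by rw [← mul_one c, ← sq_one hD.1 hf, ← mul_assoc, h1, one_mul])

/-- Two non-commuting members have a member exchanging them in every set they normalise; it commutes
with whatever commutes with both and with every involution exchanging them. -/
theorem exists_middle_in {S : Set G} (hS : S ⊆ D) (hinv : ∀ g ∈ S, ∀ a ∈ S, g * a * g⁻¹ ∈ S)
    {x x' : G} (hx : x ∈ S) (hx' : x' ∈ S) (hnc : ¬ Commute x x') :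
    ∃ m ∈ S, m * x * m⁻¹ = x' ∧ ¬ Commute m x ∧ (∀ g, Commute g x → Commute g x' → Commute g m) ∧
      ∀ w, w * w = 1 → w * x * w⁻¹ = x' → Commute w m := by
  obtain ⟨-, -, hne, j, hj⟩ := adj_of_not_commute hD (hS hx) (hS hx') hnc
  have hk : x * (x * x') * x⁻¹ = (x * x')⁻¹ :=
    Dihedral.conj_mul_left (hD.1.orderOf_eq x (hS hx)) (hD.1.orderOf_eq x' (hS hx'))
  have hn : (x * x') ^ (2 * (j : ℤ) + 1) = 1 := by
    rw [show (2 * (j : ℤ) + 1) = ((2 * j + 1 : ℕ) : ℤ) by push_cast; ring, zpow_natCast, ← hj,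
      pow_orderOf_eq_one]
  obtain ⟨m, hm⟩ : ∃ m, m = x * (x * x') ^ (-(j : ℤ)) := ⟨_, rfl⟩
  have hmS : m ∈ S := by
    have h1 := closure_normalises hD.1 hS hinv
      (zpow_mem (mul_mem (Subgroup.subset_closure hx) (Subgroup.subset_closure hx'))
        ((j : ℤ) * (j + 1))) hx
    rwa [Dihedral.conj_zpow_reflection hk,
      show -(2 * ((j : ℤ) * (j + 1))) = -(j : ℤ) + (2 * (j : ℤ) + 1) * (-j) by ring, zpow_add,
      zpow_mul (x * x') (2 * (j : ℤ) + 1), hn, one_zpow, mul_one, ← hm] at h1
  have hmx : m * x * m⁻¹ = x' := by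
    have h2 := Dihedral.conj_zpow_reflection hk (-(j : ℤ))
    calc m * x * m⁻¹ = x * ((x * x') ^ (-(j : ℤ)) * x * ((x * x') ^ (-(j : ℤ)))⁻¹) * x⁻¹ := by
          rw [hm]; group
      _ = x * (x * (x * x') ^ (2 * (j : ℤ))) * x⁻¹ := by rw [h2]; congr 4; ring
      _ = (x * x') ^ (2 * (j : ℤ)) * x⁻¹ := by rw [cancel hD.1 (hS hx)]
      _ = (x * x')⁻¹ * x⁻¹ := by
        rw [eq_inv_of_mul_eq_one_left (a := (x * x') ^ (2 * (j : ℤ))) (b := x * x')
          (by rw [← zpow_add_one, hn])]
      _ = x' := by rw [mul_inv_rev, inv_eq hD.1 (hS hx'), inv_eq hD.1 (hS hx), mul_assoc,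
          sq_one hD.1 (hS hx), mul_one]
  refine ⟨m, hmS, hmx, fun e => hne (by rw [← hmx, e.eq, mul_inv_cancel_right]), fun g h1 h2 =>
    hm ▸ h1.mul_right ((h1.mul_right h2).zpow_right _), fun w hw hwx => ?_⟩
  have hwi : w⁻¹ = w := inv_eq_of_mul_eq_one_left hw
  have hwx' : w * x' * w⁻¹ = x := by
    rw [← hwx, hwi]
    calc w * (w * x * w) * w = w * w * x * (w * w) := by group
      _ = x := by rw [hw, one_mul, mul_one]
  have hwk : w * (x * x') * w⁻¹ = (x * x')⁻¹ := by
    rw [mul_inv_rev, inv_eq hD.1 (hS hx), inv_eq hD.1 (hS hx')]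
    calc w * (x * x') * w⁻¹ = (w * x * w⁻¹) * (w * x' * w⁻¹) := by group
      _ = x' * x := by rw [hwx, hwx']
  refine mul_inv_eq_iff_eq_mul.1 ?_
  calc w * m * w⁻¹ = (w * x * w⁻¹) * (w * (x * x') ^ (-(j : ℤ)) * w⁻¹) := by rw [hm]; group
    _ = x * ((x * x') * (x * x') ^ (j : ℤ)) := by
        rw [hwx, Dihedral.conj_zpow hwk, neg_neg, ← mul_assoc x, cancel hD.1 (hS hx)]
    _ = m := by
      rw [hm, ← zpow_one_add,
        show 1 + (j : ℤ) = -(j : ℤ) + (2 * (j : ℤ) + 1) by ring, zpow_add, hn, mul_one]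

/-- A member moving `x` to a non-commuting member is the only one among the members commuting with it. -/
theorem eq_of_conj_eq {m c x : G} (hm : m ∈ D) (hc : c ∈ D) (hx : x ∈ D) (hmc : Commute m c)
    (hcx : ¬ Commute c x) (h : m * x * m⁻¹ = c * x * c⁻¹) : m = c := by
  by_contra hne
  refine hcx ((commute_of_commute_mul hD hc hm hx hmc.symm (Ne.symm hne) ?_).symm)
  show x * (c * m) = c * m * x
  have h2 : m * x * m = c * x * c := by rwa [inv_eq hD.1 hm, inv_eq hD.1 hc] at h
  calc x * (c * m) = c * c * x * c * m := by rw [sq_one hD.1 hc, one_mul, mul_assoc]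
    _ = c * (c * x * c) * m := by group
    _ = c * (m * x * m) * m := by rw [h2]
    _ = c * m * x := by
      rw [show c * (m * x * m) * m = c * m * x * (m * m) by group, sq_one hD.1 hm, mul_one]

/-- For a product triple at `z` and a member `b` commuting with `z` but not in its class, one of the
two products with `b` moves `d` to a non-commuting member. -/
theorem exists_moving {d a a' b : G} (hd : d ∈ D) (hb : b ∈ D) (htri : Tri D a a')
    (hab : Commute a b) (hda : ¬ Commute d a) :
    ¬ Commute d (a * b * d * (a * b)⁻¹) ∨ ¬ Commute d (a' * b * d * (a' * b)⁻¹) := by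
  by_contra hcon
  push Not at hcon
  obtain ⟨h1, h2⟩ := hcon
  have ha := htri.left
  have ha' := htri.right
  have hsame := Tri.same hD htri
  have ha'b : Commute a' b := ((hsame.iff hb).1 hab.symm).symm
  -- the conjugates of `d` by `a`, `a'` commute with the conjugate by `b`
  have key : ∀ {w : G}, w ∈ D → Commute w b → Commute d (w * b * d * (w * b)⁻¹) →
      Commute (b * d * b⁻¹) (w * d * w⁻¹) := fun {w} hw hwb hc => by
    have h3 := hc.conj b
    rwa [show b * (w * b * d * (w * b)⁻¹) * b⁻¹ = w * d * w⁻¹ by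
      rw [hwb.eq, inv_eq hD.1 hw, mul_inv_rev, inv_eq hD.1 hb, inv_eq hD.1 hw]
      calc b * (b * w * d * (w * b)) * b = b * b * w * d * w * (b * b) := by group
        _ = w * d * w := by rw [sq_one hD.1 hb, one_mul, mul_one]] at h3
  have hp := key ha hab h1
  have hq := key ha' ha'b h2
  have hw2 := sq_one hD.1 htri.mem
  have hmove : a * a' * (a * d * a⁻¹) * (a * a')⁻¹ = a' * d * a'⁻¹ := by
    rw [inv_eq hD.1 htri.mem, htri.comm.eq, inv_eq hD.1 ha, inv_eq hD.1 ha']
    calc a' * a * (a * d * a) * (a' * a) = a' * (a * a) * d * a * (a' * a) := by group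
      _ = a' * d * a * (a * a') := by rw [sq_one hD.1 ha, mul_one, htri.comm.eq]
      _ = a' * d * (a * a) * a' := by group
      _ = a' * d * a' := by rw [sq_one hD.1 ha, mul_one]
  have hnc : ¬ Commute (a * d * a⁻¹) (a' * d * a'⁻¹) := by
    intro hc
    rw [← hmove] at hc
    have h4 := commute_of_conj_commute hD htri.mem (hD.1.conj_mem d hd a) hc.symm
    have h5 : Commute (a * d * a⁻¹) a :=
      ((Tri.same hD (htri.third' hD.1)).iff (hD.1.conj_mem d hd a)).1 h4.symm
    have h6 := h5.conj a⁻¹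
    simp [mul_assoc] at h6
    exact hda h6
  obtain ⟨m, hm, hmx, -, hmc, hsw⟩ :=
    exists_middle hD (hD.1.conj_mem d hd a) (hD.1.conj_mem d hd a') hnc
  have heq : a * a' = m := (eq_of_conj_eq hD hm htri.mem (hD.1.conj_mem d hd a)
    (hsw _ hw2 hmove).symm
    (fun e => hnc (by rw [← hmove, e.eq, mul_inv_cancel_right]))
    (hmx.trans hmove.symm)).symm
  have hbm : Commute (b * d * b⁻¹) (a * a') := heq ▸ hmc _ hp hq
  have h7 := ((Tri.same hD (htri.third' hD.1)).iff (hD.1.conj_mem d hd b)).1 hbm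
  have h8 := h7.conj b⁻¹
  rw [show b⁻¹ * (b * d * b⁻¹) * b⁻¹⁻¹ = d by group,
    show b⁻¹ * a * b⁻¹⁻¹ = a by rw [inv_inv, mul_assoc, hab.eq, inv_mul_cancel_left]] at h8
  exact hda h8

/-- In a linked set, a neighbourhood containing another one is equal to it. -/
theorem same_of_subset [Finite G] {S : Set G} (hS : S ⊆ D)
    (hinv : ∀ g ∈ S, ∀ a ∈ S, g * a * g⁻¹ ∈ S)
    (hlink : ∀ a ∈ S, ∀ b ∈ S, Relation.ReflTransGen (NC S) a b) {a b : G} (ha : a ∈ S) (hb : b ∈ S)
    (hsub : ∀ f ∈ S, Commute f a → Commute f b) : Same S a b := by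
  have key : ∀ r, Relation.ReflTransGen (NC S) a r →
      (commutingMembers S r).ncard = (commutingMembers S a).ncard := by
    intro r hr
    induction hr with
    | refl => rfl
    | @tail p q _ hpq ih =>
      obtain ⟨m, hm, hmx, -, -, -⟩ := exists_middle_in hD hS hinv hpq.1 hpq.2.1 hpq.2.2
      rw [← ih, ← Set.ncard_image_of_injective (commutingMembers S p) (MulAut.conj m).injective]
      congr 1
      ext f
      constructor
      · intro hf
        refine ⟨m⁻¹ * f * m, ⟨?_, ?_⟩, by simp [mul_assoc]⟩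
        · have := hinv m hm f hf.1
          rwa [inv_eq hD.1 (hS hm)] at this ⊢
        · have h1 := (show Commute f q from hf.2).conj m⁻¹
          rw [← hmx] at h1
          simpa [mul_assoc, Commute, SemiconjBy] using h1
      · rintro ⟨g, hg, rfl⟩
        refine ⟨hinv m hm g hg.1, ?_⟩
        rw [← hmx]
        exact ((show Commute g p from hg.2).conj m).eq
  exact Set.eq_of_subset_of_ncard_le (fun f hf => ⟨hf.1, (hsub f hf.1 hf.2).eq⟩)
    (key b (hlink a ha b hb)).le (Set.toFinite _)

omit hD in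
theorem exists_odd_multiple [Finite G] :
    ∃ N : ℕ, Odd N ∧ ∀ g : G, Odd (orderOf g) → g ^ N = 1 := by
  obtain ⟨k, N, hN, e⟩ := Nat.exists_eq_two_pow_mul_odd (Nat.card_pos (α := G)).ne'
  refine ⟨N, hN, fun g hg => orderOf_dvd_iff_pow_eq_one.1
    (Nat.Coprime.dvd_of_dvd_mul_left (Nat.Coprime.pow_right k (Nat.coprime_two_right.2 hg)) ?_)⟩
  rw [← e]
  exact orderOf_dvd_natCard g

/-- A conjugating element for a non-commuting pair, given by a power of the product with an exponent
that serves for every pair. -/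
theorem conj_pow_half {a b : G} (ha : a ∈ D) (hb : b ∈ D) {N : ℕ} (hN : Odd N)
    (h : (b * a) ^ N = 1) : (b * a) ^ ((N + 1) / 2) * a * ((b * a) ^ ((N + 1) / 2))⁻¹ = b := by
  obtain ⟨j, rfl⟩ := hN
  rw [show (2 * j + 1 + 1) / 2 = j + 1 by omega]
  have hk : a * (b * a) * a⁻¹ = (b * a)⁻¹ := by
    rw [mul_inv_rev, inv_eq hD.1 ha, inv_eq hD.1 hb, mul_assoc, mul_assoc, sq_one hD.1 ha, mul_one]
  have h2 := Dihedral.conj_pow hk (j + 1)
  have h3 : a * ((b * a) ^ (j + 1))⁻¹ = (b * a) ^ (j + 1) * a := by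
    rw [← h2, inv_eq hD.1 ha, ← mul_assoc, ← mul_assoc, sq_one hD.1 ha, one_mul]
  rw [mul_assoc, h3, ← mul_assoc, ← pow_add, show j + 1 + (j + 1) = 2 * j + 1 + 1 by omega,
    pow_succ, h, one_mul, mul_assoc, sq_one hD.1 ha, mul_one]

/-- An element of the group of a class fixing every class is trivial. -/
theorem eq_one_of_fixes_all [Finite G] (hO : Cfsg.pCore 2 G = ⊥) {d v : G} (hd : d ∈ D)
    (hv : v ∈ sameCommutingSubgroup D d) (hfix : ∀ p ∈ D, Fixes D v p) : v = 1 := by
  haveI : Fact (Nat.Prime 2) := ⟨Nat.prime_two⟩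
  let K : Subgroup G :=
    { carrier := {g | ∀ p ∈ D, Fixes D g p}
      one_mem' := fun p _ => Fixes.one hD.1 p
      mul_mem' := fun ha hb p hp => (ha p hp).mul hD.1 (hb p hp)
      inv_mem' := fun ha p hp => (ha p hp).inv hD.1 }
  haveI hK : K.Normal := ⟨fun g hg k p hp => by
    have h1 := (hg (k⁻¹ * p * k) (by simpa using hD.1.conj_mem p hp k⁻¹)).conj hD.1 k
    rwa [show k * (k⁻¹ * p * k) * k⁻¹ = p by group] at h1⟩
  let A : Subgroup K := (sameCommutingSubgroup D d).subgroupOf K
  haveI hAn : A.Normal := ⟨fun a ha k => by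
    rw [Subgroup.mem_subgroupOf] at ha ⊢
    have hle : sameCommutingSubgroup D d ≤
        (sameCommutingSubgroup D d).comap (MulAut.conj (k : G)).toMonoidHom :=
      (Subgroup.closure_le _).2 fun a ha =>
        Subgroup.subset_closure (class_conj_mem hD.1 ha (k.2 d hd))
    simpa using hle ha⟩
  have hsq : ∀ g ∈ sameCommutingSubgroup D d, g * g = 1 := by
    intro g hg
    induction hg using Subgroup.closure_induction with
    | mem y hy => exact sq_one hD.1 hy.1
    | one => exact one_mul 1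
    | mul y z hy hz ihy ihz =>
      have hyz : Commute z y := congrArg Subtype.val
        ((Subgroup.isMulCommutative_closure (fun a ha b hb => (class_commute ha hb).eq)).1.comm
          ⟨z, hz⟩ ⟨y, hy⟩)
      rw [hyz.mul_mul_mul_comm, ihy, ihz, one_mul]
    | inv y _ ih => rw [← mul_inv_rev, ih, inv_one]
  have hA2 : IsPGroup 2 A := fun a => ⟨1, Subtype.ext (Subtype.ext (by
    rw [pow_one, pow_two]
    exact hsq _ a.2))⟩
  have h1 : (⟨v, hfix⟩ : K) ∈ Cfsg.pCore 2 K := Solvable.Cores.le_pCore (hn := hAn) hA2 hv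
  have hbot : (Cfsg.pCore 2 K).map K.subtype = ⊥ := by
    rw [eq_bot_iff, ← hO]
    exact Solvable.Cores.le_pCore ((Solvable.Cores.isPGroup_pCore 2).map _)
  rw [Subgroup.map_eq_bot_iff_of_injective _ K.subtype_injective] at hbot
  rw [hbot, Subgroup.mem_bot] at h1
  exact congrArg Subtype.val h1

end CfsgLib.Perm.OddConnected
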