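import Cfsg.Agent.Lib.Perm.OddConnected.Local

/-!
# The number of members of a line

In a local subset the members with the same neighbours as a given one number `2^i (2^n - 1)` with
`n ≥ 2` and `i ≠ 1`: modulo the core they form, with `1`, an elementary abelian group, the fibres
are orbits of the core, and fibres of two members are impossible.
-/

set_option autoImplicit false
set_option linter.style.haveILetI false

namespace CfsgLib.Perm.OddConnected

open Cfsg CfsgLib.Perm.RootInvolution CfsgLib.Perm.OddTransposition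

universe u

variable {G : Type u} [Group G] [Finite G] {D : Set G}

/-- The members congruent to `p` modulo the core. -/
def fiber (S : Set G) (p : G) : Set G := {q | q ∈ S ∧ p * q ∈ coreOf S}

namespace Local

variable {S : Set G} (h : Local D S) (hD : IsOddTranspositionSet D)
include h hD

omit [Finite G] in
theorem mem_fiber {p q : G} (hp : p ∈ S) (hq : q ∈ S) :
    q ∈ fiber S p ↔ proj S (el hp) = proj S (el hq) := by
  rw [proj_eq_iff, show ((el hp : ↥(Subgroup.closure S)) : G) = p from rfl,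
    inv_eq hD.1 (h.subset hp)]
  exact ⟨fun e => e.2, fun e => ⟨hq, e⟩⟩

theorem self_mem_fiber {p : G} (hp : p ∈ S) : p ∈ fiber S p :=
  (h.mem_fiber hD hp hp).2 rfl

/-- A fibre is an orbit of the core. -/
theorem fiber_eq_range {p : G} (hp : p ∈ S) :
    fiber S p = Set.range fun n : ↥(coreOf S) => (n : G) * p * (n : G)⁻¹ := by
  ext q
  constructor
  · rintro ⟨hq, hpq⟩
    have hsame := h.same_of_rel hD hp hq hpq
    obtain ⟨e, he, hne⟩ := h.exists_nc hD hp
    have hne' : ¬ Commute q e := fun hc => hne ((hsame.iff he).2 hc.symm).symm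
    obtain ⟨N, hN, hpow⟩ := exists_odd_multiple (G := G)
    have h1 : (e * p) ^ N = 1 := hpow _
      (adj_of_not_commute hD (h.subset he) (h.subset hp) fun e' => hne e'.symm).2.2.2
    have h2 : (e * q) ^ N = 1 := hpow _
      (adj_of_not_commute hD (h.subset he) (h.subset hq) fun e' => hne' e'.symm).2.2.2
    set k := (el he * el hq) ^ ((N + 1) / 2) with hk
    set l := (el he * el hp) ^ ((N + 1) / 2) with hl
    have hkl : proj S (k⁻¹ * l) = 1 := by
      rw [map_mul, map_inv, hk, hl, map_pow, map_pow, map_mul, map_mul,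
        ← (h.mem_fiber hD hp hq).1 ⟨hq, hpq⟩, inv_mul_cancel]
    refine ⟨⟨_, proj_eq_one_iff.1 hkl⟩, ?_⟩
    have e1 := conj_pow_half hD (h.subset hp) (h.subset he) hN h1
    have e2 := conj_pow_half hD (h.subset hq) (h.subset he) hN h2
    simp only [hk, hl, el, Subgroup.coe_mul, Subgroup.coe_inv, SubgroupClass.coe_pow]
    generalize (e * p) ^ ((N + 1) / 2) = A at e1
    generalize (e * q) ^ ((N + 1) / 2) = B at e2
    rw [show B⁻¹ * A * p * (B⁻¹ * A)⁻¹ = B⁻¹ * (A * p * A⁻¹) * B by group, e1, ← e2]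
    group
  · rintro ⟨⟨n, hn⟩, rfl⟩
    have hnH : n ∈ Subgroup.closure S := Subgroup.map_subtype_le _ hn
    have hq := closure_normalises hD.1 h.subset h.conj hnH hp
    refine (h.mem_fiber hD hp hq).2 ?_
    rw [show el hq = (⟨n, hnH⟩ : ↥(Subgroup.closure S)) * el hp * ⟨n, hnH⟩⁻¹ from rfl, map_mul,
      map_mul, map_inv, (proj_eq_one_iff (x := ⟨n, hnH⟩)).2 hn, one_mul, inv_one, mul_one]

theorem exists_two_pow_fiber {p : G} (hp : p ∈ S) : ∃ i, (fiber S p).ncard = 2 ^ i := by
  haveI : Fact (Nat.Prime 2) := ⟨Nat.prime_two⟩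
  letI : MulAction ↥(coreOf S) G :=
    MulAction.compHom G ((MulAut.conj).comp (coreOf S).subtype)
  have horb : MulAction.orbit ↥(coreOf S) p = fiber S p := by
    rw [h.fiber_eq_range hD hp]
    rfl
  obtain ⟨k, hk⟩ := IsPGroup.iff_card.1 (isPGroup_coreOf S)
  have hdvd : (fiber S p).ncard ∣ 2 ^ k := by
    rw [← horb, ← hk, ← Nat.card_coe_set_eq,
      Nat.card_congr (MulAction.orbitEquivQuotientStabilizer ↥(coreOf S) p),
      ← Subgroup.index_eq_card]
    exact Subgroup.index_dvd_card _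
  obtain ⟨i, -, hi⟩ := (Nat.dvd_prime_pow Nat.prime_two).1 hdvd
  exact ⟨i, hi⟩

omit [Finite G] in
theorem exists_conj_member {p q : G} (hp : p ∈ S) (hq : q ∈ S) :
    ∃ g ∈ Subgroup.closure S, g * p * g⁻¹ = q := by
  have key : ∀ r, Relation.ReflTransGen (NC S) p r → ∃ g ∈ Subgroup.closure S, g * p * g⁻¹ = r := by
    intro r hr
    induction hr with
    | refl => exact ⟨1, one_mem _, by simp⟩
    | @tail a b _ hab ih =>
      obtain ⟨g, hg, he⟩ := ih
      obtain ⟨m, hm, hmx, -⟩ := exists_middle_in hD h.subset h.conj hab.1 hab.2.1 hab.2.2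
      refine ⟨m * g, mul_mem (Subgroup.subset_closure hm) hg, ?_⟩
      rw [show m * g * p * (m * g)⁻¹ = m * (g * p * g⁻¹) * m⁻¹ by group, he, hmx]
  exact key q (h.linked p hp q hq)

theorem ncard_fiber_eq {p q : G} (hp : p ∈ S) (hq : q ∈ S) :
    (fiber S q).ncard = (fiber S p).ncard := by
  obtain ⟨g, hg, rfl⟩ := h.exists_conj_member hD hp hq
  rw [h.fiber_eq_range hD hq, h.fiber_eq_range hD hp,
    ← Set.ncard_image_of_injective (Set.range fun n : ↥(coreOf S) => (n : G) * p * (n : G)⁻¹)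
      (MulAut.conj g).injective]
  congr 1
  have hn : ∀ {g n : G}, g ∈ Subgroup.closure S → n ∈ coreOf S → g * n * g⁻¹ ∈ coreOf S := by
    intro g n hg hn
    obtain ⟨y, hy, rfl⟩ := hn
    exact ⟨⟨g, hg⟩ * y * ⟨g, hg⟩⁻¹, (inferInstance :
      (Cfsg.pCore 2 ↥(Subgroup.closure S)).Normal).conj_mem y hy _, rfl⟩
  ext z
  constructor
  · rintro ⟨⟨n, hn'⟩, rfl⟩
    refine ⟨_, ⟨⟨g⁻¹ * n * g⁻¹⁻¹, hn (inv_mem hg) hn'⟩, rfl⟩, ?_⟩
    simp only [MulAut.conj_apply]
    group
  · rintro ⟨_, ⟨⟨n, hn'⟩, rfl⟩, rfl⟩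
    refine ⟨⟨g * n * g⁻¹, hn hg hn'⟩, ?_⟩
    simp only [MulAut.conj_apply]
    group

omit [Finite G] in
theorem exists_partner {p : G} (hp : p ∈ S) : ∃ q, Tri S p q := by
  obtain ⟨a, b, hab⟩ := h.tri
  obtain ⟨g, hg, rfl⟩ := h.exists_conj_member hD hab.left hp
  refine ⟨g * b * g⁻¹, hp, closure_normalises hD.1 h.subset h.conj hg hab.right, hab.comm.conj g, ?_⟩
  have := closure_normalises hD.1 h.subset h.conj hg hab.mem
  simpa [mul_assoc] using this

/-- No fibre has exactly two members. -/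
theorem ncard_fiber_ne_two {p : G} (hp : p ∈ S) : (fiber S p).ncard ≠ 2 := by
  intro h2
  -- the other member of a fibre
  have hex : ∀ q ∈ S, ∃ q' ∈ S, q * q' ∈ coreOf S ∧ q' ≠ q ∧
      ∀ n ∈ coreOf S, n * q * n⁻¹ = q ∨ n * q * n⁻¹ = q' := by
    intro q hq
    obtain ⟨x, y, hxy, e⟩ := Set.ncard_eq_two.1 ((h.ncard_fiber_eq hD hp hq).trans h2)
    have hself : q ∈ ({x, y} : Set G) := e ▸ h.self_mem_fiber hD hq
    have horb : ∀ n ∈ coreOf S, n * q * n⁻¹ ∈ ({x, y} : Set G) := fun n hn => by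
      rw [← e, h.fiber_eq_range hD hq]
      exact ⟨⟨n, hn⟩, rfl⟩
    have hm : ∀ z ∈ ({x, y} : Set G), z ∈ S ∧ q * z ∈ coreOf S := fun z hz => by
      rw [← e] at hz
      exact hz
    rcases hself with rfl | hqy
    · exact ⟨y, (hm y (Or.inr rfl)).1, (hm y (Or.inr rfl)).2, hxy.symm, horb⟩
    · rw [Set.mem_singleton_iff] at hqy
      subst hqy
      exact ⟨x, (hm x (Or.inl rfl)).1, (hm x (Or.inl rfl)).2, hxy, fun n hn => (horb n hn).symm⟩
  -- its two basic properties
  have hact : ∀ a ∈ S, ∀ b ∈ S, ¬ Commute a b → ∀ a' ∈ S, ∀ b' ∈ S, a * a' ∈ coreOf S → a' ≠ a →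
      (∀ n ∈ coreOf S, n * b * n⁻¹ = b ∨ n * b * n⁻¹ = b') →
      b * (a * a') * b = b * b' * (a * a') ∧ (a * a') * (a * a') = 1 := by
    intro a ha b hb hab a' ha' b' hb' hv hne hor
    have hc : Commute a a' := (h.same_of_rel hD ha ha' hv).commute ha
    have hv2 : a * a' * (a * a') = 1 := by
      rw [hc.symm.mul_mul_mul_comm, sq_one hD.1 (h.subset ha), sq_one hD.1 (h.subset ha'), one_mul]
    have hvi : (a * a')⁻¹ = a * a' := inv_eq_of_mul_eq_one_left hv2
    rcases hor _ hv with h1 | h1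
    · exact absurd (commute_of_commute_mul hD (h.subset ha) (h.subset ha') (h.subset hb) hc
        (Ne.symm hne) (mul_inv_eq_iff_eq_mul.1 h1).symm).symm hab
    · rw [hvi] at h1
      refine ⟨?_, hv2⟩
      calc b * (a * a') * b = b * (a * a' * b * (a * a')) * (a * a') := by
            rw [show b * (a * a' * b * (a * a')) * (a * a') = b * (a * a') * b * (a * a' * (a * a')) by
              group, hv2, mul_one]
        _ = b * b' * (a * a') := by rw [h1]
  obtain ⟨e, he, hpe⟩ := h.exists_nc hD hp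
  obtain ⟨q, ht⟩ := h.exists_partner hD hp
  have htD : Tri D p q := ⟨h.subset ht.left, h.subset ht.right, ht.comm, h.subset ht.mem⟩
  have hqe : ¬ Commute q e := fun hc =>
    hpe (((Tri.same hD htD).iff (h.subset he)).2 hc.symm).symm
  have hre : ¬ Commute (p * q) e := fun hc =>
    hpe (((Tri.same hD (htD.third' hD.1)).iff (h.subset he)).1 hc.symm).symm
  obtain ⟨e', he', hu, hne, hore⟩ := hex e he
  obtain ⟨p', hp', hv, hvne, horp⟩ := hex p hp
  obtain ⟨q', hq', hw, hwne, horq⟩ := hex q ht.right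
  obtain ⟨r', hr', hz, hzne, horr⟩ := hex (p * q) ht.mem
  obtain ⟨ev, -⟩ := hact p hp e he hpe p' hp' e' he' hv hvne hore
  obtain ⟨ew, -⟩ := hact q ht.right e he hqe q' hq' e' he' hw hwne hore
  obtain ⟨ez, -⟩ := hact (p * q) ht.mem e he hre r' hr' e' he' hz hzne hore
  obtain ⟨pu, u2⟩ := hact e he p hp (fun c => hpe c.symm) e' he' p' hp' hu hne horp
  obtain ⟨qu, -⟩ := hact e he q ht.right (fun c => hqe c.symm) e' he' q' hq' hu hne horq
  obtain ⟨ru, -⟩ := hact e he (p * q) ht.mem (fun c => hre c.symm) e' he' r' hr' hu hne horr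
  have hpw : p * (q * q') = q * q' * p :=
    ((ht.comm).mul_right ((h.same_of_rel hD ht.right hq' hw).iff hp |>.1 ht.comm)).eq
  generalize hU : e * e' = U at *
  generalize hV : p * p' = V at *
  generalize hW : q * q' = W at *
  generalize hZ : p * q * r' = Z at *
  have hp2 := sq_one hD.1 (h.subset hp)
  have he2 := sq_one hD.1 (h.subset he)
  have hzwv : Z = W * V := by
    have h1 : p * q * U * (p * q) = W * V * U := by
      calc p * q * U * (p * q) = p * (q * U * q) * p := by
            nth_rewrite 2 [show p * q = q * p from ht.comm.eq]; group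
        _ = p * W * (U * p) := by rw [qu]; group
        _ = W * (p * U * p) := by rw [hpw]; group
        _ = W * V * U := by rw [pu, mul_assoc]
    rw [ru] at h1
    exact mul_right_cancel h1
  have hcomm : U * W = W * U := by
    have h1 : U * W * (U * W) = 1 := by
      rw [← ew, show e * W * e * (e * W * e) = e * W * (e * e) * W * e by group, he2, mul_one,
        show e * W * W * e = e * (W * W) * e by group]
      have hw2 : W * W = 1 := by
        rw [← hW, ((h.same_of_rel hD ht.right hq' (hW.symm ▸ hw)).commute ht.right).symm.mul_mul_mul_comm,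
          sq_one hD.1 (h.subset ht.right), sq_one hD.1 (h.subset hq'), one_mul]
      rw [hw2, mul_one, he2]
    have hw2 : W * W = 1 := by
      rw [← hW, ((h.same_of_rel hD ht.right hq' (hW.symm ▸ hw)).commute ht.right).symm.mul_mul_mul_comm,
        sq_one hD.1 (h.subset ht.right), sq_one hD.1 (h.subset hq'), one_mul]
    calc U * W = (U * W)⁻¹ := eq_inv_of_mul_eq_one_left h1
      _ = W * U := by
        rw [mul_inv_rev, inv_eq_of_mul_eq_one_left hw2, inv_eq_of_mul_eq_one_left u2]
  have hfin : U * Z = Z := by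
    calc U * Z = e * (W * V) * e := by rw [← ez, hzwv]
      _ = (e * W * e) * (e * V * e) := by
          rw [show (e * W * e) * (e * V * e) = e * W * (e * e) * V * e by group, he2, mul_one,
            ← mul_assoc]
      _ = (W * U) * (U * V) := by rw [ew, ev, hcomm]
      _ = Z := by rw [hzwv, show W * U * (U * V) = W * (U * U) * V by group, u2, mul_one]
  refine hne ?_
  have h1 : e * e' = 1 := by
    rw [hU]
    exact mul_eq_right.1 hfin
  rw [mul_eq_one_iff_eq_inv, inv_eq hD.1 (h.subset he')] at h1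
  exact h1.symm

/-- The size of a line. -/
theorem line_card (ih : GoodBelow.{u} (Nat.card G)) {p : G} (hp : p ∈ S) :
    ∃ i n : ℕ, i ≠ 1 ∧ 2 ≤ n ∧ {q | q ∈ S ∧ Same S p q}.ncard = 2 ^ i * (2 ^ n - 1) := by
  classical
  haveI : Fact (Nat.Prime 2) := ⟨Nat.prime_two⟩
  have hI := h.odd_img hD
  set π := proj S with hπ
  set I : Set (Quot' S) := sameCommutingClass (img S) (π (el hp)) with hIdef
  let W : Subgroup (Quot' S) :=
    { carrier := {y | y = 1 ∨ y ∈ I}
      one_mem' := Or.inl rfl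
      mul_mem' := by
        rintro x y (rfl | hx) (rfl | hy)
        · exact Or.inl (one_mul _)
        · exact Or.inr (by rwa [one_mul])
        · exact Or.inr (by rwa [mul_one])
        · by_cases hxy : x = y
          · exact Or.inl (hxy ▸ sq_one hI.1 hx.1)
          · have hm := h.img_mul_mem hD ih x y hx.1 hy.1 (hx.2.symm.trans hy.2) hxy
            have ht : Tri (img S) x y := ⟨hx.1, hy.1, class_commute hx hy, hm⟩
            exact Or.inr ⟨hm, (hx.2.trans (Tri.same hI (ht.third' hI.1)).symm :)⟩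
      inv_mem' := by
        rintro x (rfl | hx)
        · exact Or.inl inv_one
        · exact Or.inr (by rwa [inv_eq hI.1 hx.1]) }
  have hW2 : IsPGroup 2 W := by
    rintro ⟨x, rfl | hx⟩ <;> refine ⟨1, Subtype.ext ?_⟩
    · simp
    · show x ^ 2 ^ 1 = 1
      rw [pow_one, pow_two, sq_one hI.1 hx.1]
  obtain ⟨n, hn⟩ := IsPGroup.iff_card.1 hW2
  have hIcard : I.ncard + 1 = 2 ^ n := by
    rw [← hn, ← SetLike.coe_sort_coe, Nat.card_coe_set_eq,
      show ((W : Set (Quot' S))) = insert 1 I from Set.ext fun y => Iff.rfl,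
      Set.ncard_insert_of_notMem (fun h1 => ne_one hI.1 h1.1 rfl) (Set.toFinite _)]
  have hn2 : 2 ≤ n := by
    obtain ⟨q, ht⟩ := h.exists_partner hD hp
    have htD : Tri D p q := ⟨h.subset ht.left, h.subset ht.right, ht.comm, h.subset ht.mem⟩
    have hmem : proj S (el ht.right) ∈ I := ⟨el_mem ht.right,
      (h.same_proj_iff hD hp ht.right).2 (same_iff.2 fun f hf =>
        (Tri.same hD htD).iff (h.subset hf))⟩
    have hne : π (el hp) ≠ proj S (el ht.right) := fun e => h.not_mem_core hD ht.mem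
      ((h.mem_fiber hD hp ht.right).2 e).2
    have h2 : 2 ≤ I.ncard := by
      rw [← Set.ncard_pair hne]
      refine Set.ncard_le_ncard ?_ (Set.toFinite _)
      rintro y (rfl | rfl)
      · exact ⟨el_mem hp, rfl⟩
      · exact hmem
    by_contra hcon
    have : 2 ^ n ≤ 2 := by
      calc 2 ^ n ≤ 2 ^ 1 := Nat.pow_le_pow_right (by norm_num) (by omega)
        _ = 2 := by norm_num
    omega
  obtain ⟨i, hi⟩ := h.exists_two_pow_fiber hD hp
  refine ⟨i, n, fun e => h.ncard_fiber_ne_two hD hp (by rw [hi, e, pow_one]), hn2, ?_⟩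
  haveI := Fintype.ofFinite G
  haveI := Fintype.ofFinite (Quot' S)
  let L : Finset G := {q | q ∈ S ∧ Same S p q}.toFinset
  let f : G → Quot' S := fun q => if hq : q ∈ S then π (el hq) else 1
  have hf : ∀ q (hq : q ∈ S), f q = π (el hq) := fun q hq => dif_pos hq
  have hmaps : ∀ q ∈ L, f q ∈ I.toFinset := by
    intro q hq
    obtain ⟨hqS, hs⟩ := Set.mem_toFinset.1 hq
    rw [Set.mem_toFinset, hf q hqS]
    exact ⟨el_mem hqS, (h.same_proj_iff hD hp hqS).2 hs⟩
  have hfib : ∀ y ∈ I.toFinset, (L.filter fun q => f q = y).card = 2 ^ i := by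
    intro y hy
    obtain ⟨⟨⟨z, hzc⟩, hz, rfl⟩, hs⟩ := Set.mem_toFinset.1 hy
    have hz' : z ∈ S := hz
    rw [← hi, ← h.ncard_fiber_eq hD hp hz', Set.ncard_eq_toFinset_card']
    congr 1
    ext q
    simp only [Finset.mem_filter, Set.mem_toFinset, L]
    constructor
    · rintro ⟨⟨hqS, -⟩, e⟩
      rw [hf q hqS] at e
      exact (h.mem_fiber hD hz' hqS).2 e.symm
    · intro hq
      refine ⟨⟨hq.1, ((h.same_proj_iff hD hp hz').1 hs).trans (h.same_of_rel hD hz' hq.1 hq.2)⟩, ?_⟩
      rw [hf q hq.1]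
      exact ((h.mem_fiber hD hz' hq.1).1 hq).symm
  rw [Set.ncard_eq_toFinset_card', show {q | q ∈ S ∧ Same S p q}.toFinset = L from rfl,
    Finset.card_eq_sum_card_fiberwise hmaps, Finset.sum_congr rfl hfib, Finset.sum_const,
    smul_eq_mul, ← Set.ncard_eq_toFinset_card', mul_comm]
  congr 1
  omega

end Local

end CfsgLib.Perm.OddConnected
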