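import Cfsg.Agent.Lib.LocalEven.RootReduction.Main
import Cfsg.Agent.Lib.LocalEven.RootReduction.Classes
import Cfsg.Agent.Lib.LocalEven.RootReduction.NoBad
import Cfsg.Agent.Lib.LocalEven.TIEndgame.Main
import Cfsg.Agent.Lib.LocalEven.TIEndgame.Line.Induced
import Cfsg.Agent.Lib.LocalEven.TIEndgame.Line.Split
import Cfsg.Agent.Lib.RankOne.Four

/-!
# 2-elements fixing a class centralise it

With Theorem T a setting is a rank one group on its classes, where the involutions at a point are
central in the translation group, which contains every 2-element fixing the point.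
-/

set_option autoImplicit false
set_option linter.style.haveILetI false

namespace CfsgLib.LocalEven.RootReduction

open Cfsg CfsgLib.Perm.RootInvolution CfsgLib.LocalEven.TIEndgame MulAction

universe u

variable {G : Type u} [Group G] [Finite G] {D : Set G} {R : G → G → Prop}

theorem Setup.commute_of_fix (h : Setup D R) {d g : G} (hd : d ∈ D) {k : ℕ} (hg : g ^ 2 ^ k = 1)
    (hfix : Fix R g d) : Commute g d := by
  letI := h.centralAction
  haveI := h.centralAction_faithful
  haveI hfin : Finite h.Point := inferInstance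
  have hW := h.tiSetting
  have hno := theorem_T hW h.closure_members
  obtain ⟨x, hx, y, hy, hxy⟩ := h.two
  obtain ⟨p, q, ht⟩ := h.tri
  haveI : IsPretransitive (G ⧸ Subgroup.center G) h.Point :=
    ⟨fun c e => hW.onePoint.exists_move hW.covers c e⟩
  haveI : Nontrivial h.Point := ⟨⟨Quotient.mk h.classSetoid ⟨x, hx⟩,
    Quotient.mk h.classSetoid ⟨y, hy⟩, fun e => hxy (Quotient.exact e)⟩⟩
  set π := QuotientGroup.mk' (Subgroup.center G) with hπ
  set a : h.Point := Quotient.mk h.classSetoid ⟨d, hd⟩ with ha
  have hd2 : π d * π d = 1 := by rw [← map_mul, sq_one h.root hd, map_one]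
  have hda : π d • a = a := (h.smul_mk d ⟨d, hd⟩).trans
    (Quotient.sound (h.fix_of_commute (Commute.refl d)))
  have hga : π g • a = a := (h.smul_mk g ⟨d, hd⟩).trans (Quotient.sound hfix)
  have hp2 : π p * π p = 1 := by rw [← map_mul, sq_one h.root ht.left, map_one]
  have hq2 : π q * π q = 1 := by rw [← map_mul, sq_one h.root ht.right, map_one]
  have hne : π p ≠ π q := fun e => h.mk_member_ne_one ht.mem (by rw [map_mul, e, hq2])
  have hpq : Commute (π p) (π q) := (show Commute p q from ht.comm).map π
  have hord : ∀ z : G ⧸ Subgroup.center G, z * z = 1 → z ≠ 1 → orderOf z = 2 := fun z hz hz1 =>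
    orderOf_eq_prime (by rw [pow_two, hz]) hz1
  obtain ⟨t, Q, hS⟩ := Line.exists_setup_of_noBad hno a (hord _ hd2 (h.mk_member_ne_one hd)) hda
    ⟨π p, π q, hord _ hp2 (h.mk_member_ne_one ht.left), hord _ hq2 (h.mk_member_ne_one ht.right),
      hne, hpq⟩
  have hgQ : π g ∈ Q := Line.mem_of_two_power hS (mem_stabilizer_iff.2 hga) (k := k)
    (by rw [← map_pow, hg, map_one])
  have hcom := (CfsgLib.RankOne.central_invol hS
    ⟨π p, π q, h.mk_member_ne_one ht.left, h.mk_member_ne_one ht.right, hne, hp2, hq2, hpq.eq⟩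
    ⟨mem_stabilizer_iff.2 hda, h.mk_member_ne_one hd, hd2⟩).2 _ hgQ
  -- the commutator is a central involution or trivial
  have hz : g * d * g⁻¹ * d ∈ Subgroup.center G := by
    rw [← QuotientGroup.eq_one_iff, ← QuotientGroup.mk'_apply, map_mul, map_mul, map_mul, map_inv,
      ← hcom, mul_inv_cancel_right, hd2]
  have hd' := h.root.conj_mem d hd g
  have hc : Commute (g * d * g⁻¹) d := by
    refine h.commutes _ hd' d hd ?_
    exact hfix
  have h1 := h.eq_one_of_central hz (by
    rw [hc.symm.mul_mul_mul_comm, sq_one h.root hd', sq_one h.root hd, one_mul])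
  exact mul_inv_eq_iff_eq_mul.1 ((mul_eq_one_iff_eq_inv.1 h1).trans (inv_eq h.root hd))

end CfsgLib.LocalEven.RootReduction
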