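import Cfsg.Agent.Lib.Perm.OddConnected.Fixes
import Cfsg.Agent.Lib.Perm.OddConnected.Line
import Cfsg.Agent.Lib.Perm.OddConnected.TwoElement
import Cfsg.Agent.Lib.Perm.OddTransposition.Classify

/-!
# A product of two members of a class fixes no class

For a partner `x` of `d` the products fixing the class of `x` split the class of `d` into an odd
number of blocks of equal 2-power size, so the partition is the same for every partner; a product in
a block then fixes all classes, so is trivial.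
-/

set_option autoImplicit false
set_option linter.style.haveILetI false

namespace CfsgLib.Perm.OddConnected

open Cfsg CfsgLib.Perm.RootInvolution CfsgLib.Perm.OddTransposition

universe u

/-- A finite action in which every 2-element fixes `p` gives `p` an orbit of odd size. -/
theorem odd_card_orbit {K α : Type*} [Group K] [Finite K] [MulAction K α] {p : α}
    (h : ∀ g : K, (∃ k : ℕ, g ^ 2 ^ k = 1) → g • p = p) :
    Odd (Nat.card (MulAction.orbit K p)) := by
  haveI : Fact (Nat.Prime 2) := ⟨Nat.prime_two⟩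
  obtain ⟨P⟩ := (inferInstance : Nonempty (Sylow 2 K))
  have hle : (P : Subgroup K) ≤ MulAction.stabilizer K p := fun g hg => by
    obtain ⟨k, hk⟩ := P.isPGroup' ⟨g, hg⟩
    exact h g ⟨k, congrArg Subtype.val hk⟩
  rw [Nat.card_congr (MulAction.orbitEquivQuotientStabilizer K p), ← Subgroup.index_eq_card,
    ← Nat.not_even_iff_odd, even_iff_two_dvd]
  exact fun h2 => P.not_dvd_index (h2.trans (Subgroup.index_dvd_of_le hle))

theorem two_pow_unique {i j m n : ℕ} (hm : Odd m) (hn : Odd n) (h : 2 ^ i * m = 2 ^ j * n) :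
    i = j :=
  le_antisymm
    ((Nat.pow_dvd_pow_iff_le_right (by norm_num)).1 ((Nat.Coprime.pow_left i
      (Nat.coprime_two_left.2 hn)).dvd_of_dvd_mul_right ⟨m, h.symm⟩))
    ((Nat.pow_dvd_pow_iff_le_right (by norm_num)).1 ((Nat.Coprime.pow_left j
      (Nat.coprime_two_left.2 hm)).dvd_of_dvd_mul_right ⟨n, h⟩))

variable {G : Type u} [Group G] [Finite G] {D : Set G}

/-- The members generated by the class of `d` and `x`, in the component of `d`. -/
def span (D : Set G) (d x : G) : Set G :=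
  oddComp {p | p ∈ D ∧ p ∈ Subgroup.closure (sameCommutingClass D d ∪ {x})} d

variable (hyp : Hyp D)
include hyp

theorem Hyp.mem_span {d x : G} (hd : d ∈ D) (hx : x ∈ D) (hdx : ¬ Commute d x) :
    x ∈ span D d x ∧ ∀ e ∈ sameCommutingClass D d, e ∈ span D d x := by
  have hE : ∀ e ∈ sameCommutingClass D d,
      e ∈ {p | p ∈ D ∧ p ∈ Subgroup.closure (sameCommutingClass D d ∪ {x})} := fun e he =>
    ⟨he.1, Subgroup.subset_closure (Or.inl he)⟩
  have hxA : x ∈ span D d x := mem_oddComp_of_not_commute (self_mem_oddComp (hE d ⟨hd, rfl⟩))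
    (show x ∈ {p | p ∈ D ∧ p ∈ Subgroup.closure (sameCommutingClass D d ∪ {x})} from
      ⟨hx, Subgroup.subset_closure (Or.inr rfl)⟩) hdx
  exact ⟨hxA, fun e he => mem_oddComp_of_not_commute hxA (hE e he)
    fun hc => hdx ((Same.iff he.2 hx).2 hc).symm⟩

theorem Hyp.local_span {d x : G} (hd : d ∈ D) (hx : x ∈ D) (hdx : ¬ Commute d x) :
    Local D (span D d x) := by
  obtain ⟨b, hb⟩ := hyp.exists_tri hd
  have hmem := (hyp.mem_span hd hx hdx).2
  have hA : ∀ g ∈ {p | p ∈ D ∧ p ∈ Subgroup.closure (sameCommutingClass D d ∪ {x})},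
      ∀ p ∈ {p | p ∈ D ∧ p ∈ Subgroup.closure (sameCommutingClass D d ∪ {x})},
      g * p * g⁻¹ ∈ {p | p ∈ D ∧ p ∈ Subgroup.closure (sameCommutingClass D d ∪ {x})} :=
    fun g hg p hp => ⟨hyp.odd.1.conj_mem p hp.1 g, mul_mem (mul_mem hg.2 hp.2) (inv_mem hg.2)⟩
  refine ⟨fun p hp => hp.1.1, fun g hg p hp => oddComp_conj hA hg hp,
    fun p hp q hq => oddComp_linked hp hq,
    ⟨d, b, hmem d ⟨hd, rfl⟩, hmem b ⟨hb.right, Tri.same hyp.odd hb⟩, hb.comm,
      hmem _ ⟨hb.mem, (Tri.same hyp.odd (hb.third' hyp.odd.1)).symm⟩⟩, fun htop => ?_⟩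
  have hgen : Subgroup.closure (sameCommutingClass D d ∪ {x}) = ⊤ :=
    top_le_iff.1 (htop ▸ (Subgroup.closure_le _).2 fun p hp => hp.1.2)
  exact Spanned.not_connected ⟨hyp.odd, hyp.o2, hd, hx, hdx, hgen⟩ hyp.class'
    (a := b) ⟨hb.right, Tri.same hyp.odd hb⟩ (hb.ne hyp.odd.1).symm hyp.conn

theorem Hyp.span_disconnected (ih : GoodBelow.{u} (Nat.card G)) {d x : G} (hd : d ∈ D) (hx : x ∈ D)
    (hdx : ¬ Commute d x) :
    ¬ IsConnectedSet (CommAdj (lift (span D d x))) (lift (span D d x)) := by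
  obtain ⟨hxS, hES⟩ := hyp.mem_span hd hx hdx
  have hdS := hES d ⟨hd, rfl⟩
  rcases (hyp.local_span hd hx hdx).dich hyp.odd ih with ht | ⟨-, hcom⟩
  · intro hcon
    have key : ∀ p, Relation.ReflTransGen (CommAdj (lift (span D d x))) (el hdS) p →
        Commute d (p : G) := by
      intro p hp
      induction hp with
      | refl => exact Commute.refl d
      | @tail q r _ hqr ihq => exact ht d hdS q hqr.1 r hqr.2.1 ihq (congrArg Subtype.val hqr.2.2.2)
    exact hdx (key (el hxS) (hcon _ hdS _ hxS))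
  · obtain ⟨e, he, e', he', hed, hex, -, -, hee⟩ := hcom d x hdS hxS hdx
    refine absurd ?_ hee
    have hle : Subgroup.closure (sameCommutingClass D d ∪ {x}) ≤
        Subgroup.centralizer ({e} : Set G) := by
      rw [Subgroup.closure_le]
      rintro y (hy | hy)
      · exact Subgroup.mem_centralizer_singleton_iff.2 ((Same.iff hy.2 he.1.1).1 hed).symm.eq
      · rw [Set.mem_singleton_iff.1 hy]
        exact Subgroup.mem_centralizer_singleton_iff.2 hex.symm.eq
    exact (Subgroup.mem_centralizer_singleton_iff.1 (hle he'.1.2) : e' * e = e * e').symm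

theorem Hyp.fixed_iff (ih : GoodBelow.{u} (Nat.card G)) {d a b x : G} (hd : d ∈ D) (hx : x ∈ D)
    (hdx : ¬ Commute d x) (ha : a ∈ sameCommutingClass D d) (hb : b ∈ sameCommutingClass D d) :
    Commute (a * b * x * (a * b)⁻¹) x ↔ a * b ∈ coreOf (span D d x) := by
  obtain ⟨hxS, hES⟩ := hyp.mem_span hd hx hdx
  have hloc := hyp.local_span hd hx hdx
  refine ⟨fun h => hloc.mem_core_of_fixed hyp.odd ih (hES a ha) (hES b hb) hxS
    (same_iff.2 fun f hf => (Same.iff ha.2 (hloc.subset hf)).symm.trans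
      (Same.iff hb.2 (hloc.subset hf))) (fun e => hdx ((Same.iff ha.2 hx).2 e).symm) h,
    fun h => (hloc.rel_of_mem_core hyp.odd hxS h).1⟩

/-- Blocks of the products fixing a class have one 2-power size, with an odd number of blocks. -/
theorem Hyp.block_card (ih : GoodBelow.{u} (Nat.card G)) {d x : G} (hd : d ∈ D) (hx : x ∈ D)
    (hdx : ¬ Commute d x) :
    ∃ i m : ℕ, Odd m ∧ (sameCommutingClass D d).ncard = 2 ^ i * m ∧
      ∀ a ∈ sameCommutingClass D d,
        {b | b ∈ sameCommutingClass D d ∧ Commute (a * b * x * (a * b)⁻¹) x}.ncard = 2 ^ i := by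
  classical
  haveI : Fact (Nat.Prime 2) := ⟨Nat.prime_two⟩
  obtain ⟨hxS, hES⟩ := hyp.mem_span hd hx hdx
  have hloc := hyp.local_span hd hx hdx
  have hdisc := hyp.span_disconnected ih hd hx hdx
  set S := span D d x with hSdef
  set E := sameCommutingClass D d with hEdef
  obtain ⟨R, hR⟩ := hloc.exists_setup hyp.odd hdisc
  have hdE : d ∈ E := ⟨hd, rfl⟩
  have hfixd : ∀ {a : G} {g : G}, a ∈ E → g * a * g⁻¹ ∈ E → Fixes D g d := fun {a g} ha hga => by
    have h1 : Same D (g * a * g⁻¹) a := (hga.2.symm.trans ha.2 : Same D _ a)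
    exact Fixes.congr hyp.odd.1 h1 (ha.2.symm : Same D a d)
  -- blocks are intersections of fibres with the class
  have hblock : ∀ a ∈ E, {b | b ∈ E ∧ Commute (a * b * x * (a * b)⁻¹) x} = fiber S a ∩ E := by
    intro a ha
    ext b
    exact ⟨fun hb => ⟨⟨hES b hb.1, (hyp.fixed_iff ih hd hx hdx ha hb.1).1 hb.2⟩, hb.1⟩,
      fun hb => ⟨hb.2, (hyp.fixed_iff ih hd hx hdx ha hb.2).2 hb.1.2⟩⟩
  -- they have equal size
  have heq : ∀ a ∈ E, ∀ a' ∈ E, (fiber S a ∩ E).ncard ≤ (fiber S a' ∩ E).ncard := by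
    intro a ha a' ha'
    obtain ⟨g, hg, hga⟩ := hloc.exists_conj_member hyp.odd (hES a ha) (hES a' ha')
    have hfix : Fixes D g d := hfixd ha (hga.symm ▸ ha')
    rw [← Set.ncard_image_of_injective (fiber S a ∩ E) (MulAut.conj g).injective]
    refine Set.ncard_le_ncard ?_ (Set.toFinite _)
    rintro _ ⟨q, ⟨⟨hq, hqa⟩, hqE⟩, rfl⟩
    refine ⟨?_, class_conj_mem hyp.odd.1 hqE hfix⟩
    have hq' := closure_normalises hyp.odd.1 hloc.subset hloc.conj hg hq
    refine (hloc.mem_fiber hyp.odd (hES a' ha') hq').2 ?_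
    have e : ∀ {y z : G} (hy : y ∈ S) (hz : z ∈ S), g * y * g⁻¹ = z →
        proj S (el hz) = proj S ⟨g, hg⟩ * proj S (el hy) * (proj S ⟨g, hg⟩)⁻¹ := by
      intro y z hy hz he
      rw [← map_inv, ← map_mul, ← map_mul]
      exact congrArg _ (Subtype.ext he.symm)
    rw [e (hES a ha) (hES a' ha') hga, e hq hq' rfl,
      (hloc.mem_fiber hyp.odd (hES a ha) hq).1 ⟨hq, hqa⟩]
  -- it is a power of two
  obtain ⟨i, hi⟩ : ∃ i, (fiber S d ∩ E).ncard = 2 ^ i := by
    let P : Subgroup G :=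
      { carrier := {n | n ∈ coreOf S ∧ Fixes D n d}
        one_mem' := ⟨one_mem _, Fixes.one hyp.odd.1 d⟩
        mul_mem' := fun h h' => ⟨mul_mem h.1 h'.1, h.2.mul hyp.odd.1 h'.2⟩
        inv_mem' := fun h => ⟨inv_mem h.1, h.2.inv hyp.odd.1⟩ }
    have hP : IsPGroup 2 ↥P := (isPGroup_coreOf S).to_le fun n hn => hn.1
    letI : MulAction ↥P G := MulAction.compHom G ((MulAut.conj).comp P.subtype)
    have horb : MulAction.orbit ↥P d = fiber S d ∩ E := by
      rw [hloc.fiber_eq_range hyp.odd (hES d hdE)]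
      ext q
      constructor
      · rintro ⟨⟨n, hn⟩, rfl⟩
        exact ⟨⟨⟨n, hn.1⟩, rfl⟩, class_conj_mem hyp.odd.1 hdE hn.2⟩
      · rintro ⟨⟨⟨n, hn⟩, rfl⟩, hqE⟩
        exact ⟨⟨n, hn, hfixd hdE hqE⟩, rfl⟩
    obtain ⟨k, hk⟩ := IsPGroup.iff_card.1 hP
    have hdvd : (fiber S d ∩ E).ncard ∣ 2 ^ k := by
      rw [← horb, ← hk, ← Nat.card_coe_set_eq,
        Nat.card_congr (MulAction.orbitEquivQuotientStabilizer ↥P d), ← Subgroup.index_eq_card]
      exact Subgroup.index_dvd_card _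
    obtain ⟨i, -, hi⟩ := (Nat.dvd_prime_pow Nat.prime_two).1 hdvd
    exact ⟨i, hi⟩
  have hsize : ∀ a ∈ E, (fiber S a ∩ E).ncard = 2 ^ i := fun a ha =>
    hi ▸ le_antisymm (heq a ha d hdE) (heq d hdE a ha)
  -- the blocks are an orbit of odd size
  let K : Subgroup ↥(Subgroup.closure S) :=
    { carrier := {g | Fixes D (g : G) d}
      one_mem' := Fixes.one hyp.odd.1 d
      mul_mem' := fun h h' => h.mul hyp.odd.1 h'
      inv_mem' := fun h => h.inv hyp.odd.1 }
  letI : MulAction ↥K (Quot' S) :=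
    MulAction.compHom (Quot' S) ((MulAut.conj).comp ((proj S).comp K.subtype))
  let f : G → Quot' S := fun q => if hq : q ∈ S then proj S (el hq) else 1
  have hf : ∀ q (hq : q ∈ S), f q = proj S (el hq) := fun q hq => dif_pos hq
  have horb : MulAction.orbit ↥K (proj S (el (hES d hdE))) = f '' E := by
    ext y
    constructor
    · rintro ⟨⟨⟨g, hg⟩, hgK⟩, rfl⟩
      have hq := class_conj_mem hyp.odd.1 hdE hgK
      refine ⟨_, hq, ?_⟩
      rw [hf _ (hES _ hq)]
      show _ = proj S ⟨g, hg⟩ * proj S (el (hES d hdE)) * (proj S ⟨g, hg⟩)⁻¹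
      rw [← map_inv, ← map_mul, ← map_mul]
      rfl
    · rintro ⟨q, hq, rfl⟩
      obtain ⟨g, hg, hgq⟩ := hloc.exists_conj_member hyp.odd (hES d hdE) (hES q hq)
      refine ⟨⟨⟨g, hg⟩, hfixd hdE (hgq.symm ▸ hq)⟩, ?_⟩
      rw [hf _ (hES q hq)]
      show proj S ⟨g, hg⟩ * proj S (el (hES d hdE)) * (proj S ⟨g, hg⟩)⁻¹ = _
      rw [← map_inv, ← map_mul, ← map_mul]
      exact congrArg _ (Subtype.ext hgq)
  have hodd : Odd (f '' E).ncard := by
    rw [← horb, ← Nat.card_coe_set_eq]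
    refine odd_card_orbit ?_
    rintro ⟨⟨g, hg⟩, hgK⟩ ⟨k, hk⟩
    have hgd := closure_normalises hyp.odd.1 hloc.subset hloc.conj hg (hES d hdE)
    have hfix : LocalEven.RootReduction.Fix R (proj S ⟨g, hg⟩) (proj S (el (hES d hdE))) := by
      show R (proj S ⟨g, hg⟩ * proj S (el (hES d hdE)) * (proj S ⟨g, hg⟩)⁻¹) _
      rw [← map_inv, ← map_mul, ← map_mul]
      exact hR.of_commute (el_mem hgd) (el_mem _) ((hloc.commute_proj_iff hyp.odd hgd (hES d hdE)).2
        (Same.commute hgK (hloc.subset hgd)))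
    have hk' : proj S ⟨g, hg⟩ ^ 2 ^ k = 1 := by
      rw [← map_pow]
      exact congrArg (fun z : ↥K => proj S (z : ↥(Subgroup.closure S))) hk |>.trans (map_one _)
    have hc := hR.commute_of_fix (el_mem (hES d hdE)) hk' hfix
    show proj S ⟨g, hg⟩ * proj S (el (hES d hdE)) * (proj S ⟨g, hg⟩)⁻¹ = _
    rw [hc.eq, mul_inv_cancel_right]
  refine ⟨i, (f '' E).ncard, hodd, ?_, fun a ha => by rw [hblock a ha, hsize a ha]⟩
  haveI := Fintype.ofFinite G
  haveI := Fintype.ofFinite (Quot' S)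
  have hfib : ∀ y ∈ (f '' E).toFinset, (E.toFinset.filter fun q => f q = y).card = 2 ^ i := by
    intro y hy
    obtain ⟨a, ha, rfl⟩ := Set.mem_toFinset.1 hy
    rw [← hsize a ha, Set.ncard_eq_toFinset_card']
    congr 1
    ext q
    simp only [Finset.mem_filter, Set.mem_toFinset, Set.mem_inter_iff]
    constructor
    · rintro ⟨hq, he⟩
      rw [hf q (hES q hq), hf a (hES a ha)] at he
      exact ⟨(hloc.mem_fiber hyp.odd (hES a ha) (hES q hq)).2 he.symm, hq⟩
    · rintro ⟨hq, hqE⟩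
      refine ⟨hqE, ?_⟩
      rw [hf q (hES q hqE), hf a (hES a ha)]
      exact ((hloc.mem_fiber hyp.odd (hES a ha) (hES q hqE)).1 hq).symm
  rw [Set.ncard_eq_toFinset_card', Finset.card_eq_sum_card_fiberwise (s := E.toFinset)
    (t := (f '' E).toFinset) (f := f) (fun q hq => Set.mem_toFinset.2
      ⟨q, Set.mem_toFinset.1 hq, rfl⟩), Finset.sum_congr rfl hfib, Finset.sum_const, smul_eq_mul,
    ← Set.ncard_eq_toFinset_card', mul_comm]

/-- No product of two different members of a class moves an outside member to a commuting one. -/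
theorem Hyp.eq_of_fixed (ih : GoodBelow.{u} (Nat.card G)) {d a b x : G} (hd : d ∈ D)
    (ha : a ∈ sameCommutingClass D d) (hb : b ∈ sameCommutingClass D d) (hx : x ∈ D)
    (hdx : ¬ Commute d x) (hfix : Commute (a * b * x * (a * b)⁻¹) x) : a = b := by
  by_contra hne
  -- a second neighbour
  obtain ⟨c0, hc0⟩ : (Nbr D d).Nonempty := by
    obtain ⟨e, he, hde⟩ := hyp.exists_nc hd
    have key : ∀ p, Relation.ReflTransGen (CommAdj D) d p → Same D p d ∨ (Nbr D d).Nonempty := by
      intro p hp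
      induction hp with
      | refl => exact Or.inl (Same.refl _ _)
      | @tail q r _ hqr ihq =>
        rcases ihq with hs | h
        · by_cases hrs : Same D r d
          · exact Or.inl hrs
          · exact Or.inr ⟨r, hqr.2.1, (hs.iff hqr.2.1).1 hqr.2.2.2.symm, hrs⟩
        · exact Or.inr h
    rcases key e (hyp.conn d hd e he) with h | h
    · exact absurd (h.commute he).symm hde
    · exact h
  obtain ⟨f0, hf0, hf0c, hf0d⟩ : ∃ f ∈ D, Commute f c0 ∧ ¬ Commute f d := by
    by_contra hcon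
    push Not at hcon
    exact hc0.2.2 (hyp.same_of_subset hc0.1 hd hcon)
  let B : G → G → Set G := fun y a' =>
    {b' | b' ∈ sameCommutingClass D d ∧ Commute (a' * b' * y * (a' * b')⁻¹) y}
  have hBeq : ∀ y ∈ D, ¬ Commute d y → B y a = B f0 a := by
    intro y hy hdy
    obtain ⟨i, m, hm, hcard, hB⟩ := hyp.block_card ih hd hy hdy
    obtain ⟨j, n, hn, hcard', hB'⟩ := hyp.block_card ih hd hf0 fun e => hf0d e.symm
    refine Set.eq_of_subset_of_ncard_le ?_ ?_ (Set.toFinite _)
    · rintro b' ⟨hb', hfix'⟩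
      refine ⟨hb', ?_⟩
      by_cases hab : a = b'
      · rw [← hab, sq_one hyp.odd.1 ha.1]
        simp
      · exact hyp.quiet_all ih hd ha hb' hab hy hdy hfix' c0 hc0 f0 hf0 hf0c
    · rw [show (B y a).ncard = 2 ^ i from hB a ha, show (B f0 a).ncard = 2 ^ j from hB' a ha,
        two_pow_unique hm hn (hcard.symm.trans hcard')]
  have hbf : b ∈ B f0 a := hBeq x hx hdx ▸ (show b ∈ B x a from ⟨hb, hfix⟩)
  refine hne ?_
  have h1 : a * b = 1 := by
    refine eq_one_of_fixes_all hyp.odd hyp.o2 hd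
      (mul_mem (Subgroup.subset_closure ha) (Subgroup.subset_closure hb)) fun p hp => ?_
    by_cases hpd : Commute d p
    · exact Fixes.of_commute hyp.odd.1
        (((Same.iff ha.2 hp).1 hpd.symm).symm.mul_left ((Same.iff hb.2 hp).1 hpd.symm).symm)
    · have hbp : b ∈ B p a := hBeq p hp hpd ▸ hbf
      exact fixes_of_commute hyp.odd hd hp hpd ha hb hbp.2.symm
  rw [mul_eq_one_iff_eq_inv, inv_eq hyp.odd.1 hb.1] at h1
  exact h1

/-- Classes are of odd size. -/
theorem Hyp.odd_class (ih : GoodBelow.{u} (Nat.card G)) {d : G} (hd : d ∈ D) :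
    Odd (sameCommutingClass D d).ncard := by
  obtain ⟨x, hx, hdx⟩ := hyp.exists_nc hd
  obtain ⟨i, m, hm, hcard, hB⟩ := hyp.block_card ih hd hx hdx
  have h1 := hB d ⟨hd, rfl⟩
  rw [show {b | b ∈ sameCommutingClass D d ∧ Commute (d * b * x * (d * b)⁻¹) x} = {d} from
    Set.Subset.antisymm (fun b hb => (hyp.eq_of_fixed ih hd ⟨hd, rfl⟩ hb.1 hx hdx hb.2).symm)
      (by rintro b rfl; exact ⟨⟨hd, rfl⟩, by rw [sq_one hyp.odd.1 hd]; simp⟩),
    Set.ncard_singleton] at h1
  rw [hcard, ← h1, one_mul]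
  exact hm

end CfsgLib.Perm.OddConnected
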