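import Cfsg.Agent.Lib.Perm.OddConnected.Pair

/-!
# Non-commuting members have a common neighbour

In a configuration `d, y, z, x` of consecutive commuting members with no common neighbour of `d` and
`x`, counting the members commuting with `z`, `x` and a member `m` exchanging `d` and a conjugate
gives a contradiction modulo 4.
-/

set_option autoImplicit false
set_option linter.style.haveILetI false

namespace CfsgLib.Perm.OddConnected

open Cfsg CfsgLib.Perm.RootInvolution CfsgLib.Perm.OddTransposition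

universe u

/-- A finite set split by an equivalence in classes of one size. -/
theorem dvd_ncard_of_classes {α : Type*} [Finite α] {s : Set α} {r : α → α → Prop}
    (hrefl : ∀ p ∈ s, r p p) (hsymm : ∀ p ∈ s, ∀ q ∈ s, r p q → r q p)
    (htrans : ∀ p ∈ s, ∀ q ∈ s, ∀ t ∈ s, r p q → r q t → r p t) {l : ℕ}
    (hl : ∀ p ∈ s, {q | q ∈ s ∧ r p q}.ncard = l) : l ∣ s.ncard := by
  classical
  haveI := Fintype.ofFinite α
  rw [Set.ncard_eq_toFinset_card', Finset.card_eq_sum_card_fiberwise (s := s.toFinset)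
    (t := s.toFinset.image fun p => ({q | q ∈ s ∧ r p q} : Set α))
    (f := fun p => ({q | q ∈ s ∧ r p q} : Set α)) (fun p hp => Finset.mem_image_of_mem _ hp)]
  refine Finset.dvd_sum fun C hC => ?_
  obtain ⟨p, hp, rfl⟩ := Finset.mem_image.1 hC
  rw [Set.mem_toFinset] at hp
  refine dvd_of_eq ?_
  rw [← hl p hp, Set.ncard_eq_toFinset_card']
  congr 1
  ext q
  simp only [Finset.mem_filter, Set.mem_toFinset]
  refine ⟨fun h => ⟨h.1, ?_⟩, fun h => ⟨h.1, ?_⟩⟩
  · ext t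
    exact ⟨fun ht => ⟨ht.1, htrans p hp q h.1 t ht.1 h.2 ht.2⟩,
      fun ht => ⟨ht.1, htrans q h.1 p hp t ht.1 (hsymm p hp q h.1 h.2) ht.2⟩⟩
  · exact ((Set.ext_iff.1 h.2 q).1 ⟨h.1, hrefl q h.1⟩).2

variable {G : Type u} [Group G] {D : Set G}

theorem class_commute_of_commute {d p : G} (hp : p ∈ sameCommutingClass D d) {c : G} (hc : c ∈ D)
    (hdc : Commute d c) : p ∈ D ∧ Commute p c :=
  ⟨hp.1, ((Same.iff hp.2 hc).1 hdc.symm).symm⟩

variable [Finite G]

theorem Local.line_mod_four {S : Set G} (h : Local D S) (hD : IsOddTranspositionSet D)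
    (ih : GoodBelow.{u} (Nat.card G)) {p : G} (hp : p ∈ S) :
    {q | q ∈ S ∧ Same S p q}.ncard % 4 = 0 ∨ {q | q ∈ S ∧ Same S p q}.ncard % 4 = 3 := by
  obtain ⟨i, n, hi, hn, he⟩ := h.line_card hD ih hp
  rw [he]
  obtain ⟨m, rfl⟩ : ∃ m, n = m + 2 := ⟨n - 2, by omega⟩
  rcases Nat.lt_or_ge i 2 with h2 | h2
  · right
    obtain rfl : i = 0 := by omega
    rw [pow_zero, one_mul, pow_add]
    have := Nat.one_le_two_pow (n := m)
    omega
  · left
    obtain ⟨j, rfl⟩ : ∃ j, i = j + 2 := ⟨i - 2, by omega⟩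
    rw [pow_add, mul_comm (2 ^ j), mul_assoc]
    exact Nat.mul_mod_right _ _

variable (hyp : Hyp D)
include hyp

/-- The lines of all neighbourhoods have one size. -/
theorem Hyp.line_size (ih : GoodBelow.{u} (Nat.card G)) {c c' p p' : G} (hc : c ∈ D) (hc' : c' ∈ D)
    (hp : p ∈ Nbr D c) (hp' : p' ∈ Nbr D c') :
    {q | q ∈ Nbr D c' ∧ Same (Nbr D c') p' q}.ncard =
      {q | q ∈ Nbr D c ∧ Same (Nbr D c) p q}.ncard := by
  obtain ⟨g, hg⟩ := isConj_iff.1 (hyp.class' c hc c' hc')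
  have hgp : g * p * g⁻¹ ∈ Nbr D c' := hg ▸ nbr_conj_mem hyp.odd.1 g hp
  obtain ⟨k, hk, hkp⟩ := (hyp.nbr_local ih hc' hp').exists_conj_member hyp.odd hgp hp'
  have hkc : Commute k c' := by
    have hle : Subgroup.closure (Nbr D c') ≤ Subgroup.centralizer ({c'} : Set G) :=
      (Subgroup.closure_le _).2 fun s hs => Subgroup.mem_centralizer_singleton_iff.2 hs.2.1.eq
    exact Subgroup.mem_centralizer_singleton_iff.1 (hle hk)
  have hw : k * g * c * (k * g)⁻¹ = c' := by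
    rw [show k * g * c * (k * g)⁻¹ = k * (g * c * g⁻¹) * k⁻¹ by group, hg, hkc.eq,
      mul_inv_cancel_right]
  have hwp : k * g * p * (k * g)⁻¹ = p' := by
    rw [← hkp]
    group
  generalize k * g = w at hw hwp
  subst hw hwp
  have himg : ∀ q ∈ Nbr D (w * c * w⁻¹), w⁻¹ * q * w ∈ Nbr D c := fun q hq => by
    have := nbr_conj_mem hyp.odd.1 w⁻¹ hq
    simpa [mul_assoc] using this
  have hcomm : ∀ r s : G, Commute (w * r * w⁻¹) (w * s * w⁻¹) ↔ Commute r s := fun r s =>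
    ⟨fun h => by simpa [mul_assoc] using h.conj w⁻¹, fun h => h.conj w⟩
  have hback : ∀ q : G, w * (w⁻¹ * q * w) * w⁻¹ = q := fun q => by group
  rw [← Set.ncard_image_of_injective {q | q ∈ Nbr D c ∧ Same (Nbr D c) p q}
    (MulAut.conj w).injective]
  congr 1
  ext q
  constructor
  · rintro ⟨hq, hs⟩
    refine ⟨w⁻¹ * q * w, ⟨himg q hq, same_iff.2 fun f hf => ?_⟩, hback q⟩
    rw [← hcomm f p, ← hcomm f (w⁻¹ * q * w), hback]
    exact hs.iff (nbr_conj_mem hyp.odd.1 w hf)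
  · rintro ⟨r, ⟨hr, hs⟩, rfl⟩
    refine ⟨nbr_conj_mem hyp.odd.1 w hr, same_iff.2 fun f hf => ?_⟩
    obtain ⟨f', rfl⟩ : ∃ f', f = w * f' * w⁻¹ := ⟨_, (hback f).symm⟩
    rw [MulAut.conj_apply, hcomm, hcomm]
    exact hs.iff (by simpa [mul_assoc] using himg _ hf)

omit [Finite G] in
theorem Hyp.commTrans_nbr {c c' : G} (hc : c ∈ D) (hc' : c' ∈ D) (h : CommTrans (Nbr D c)) :
    CommTrans (Nbr D c') := by
  obtain ⟨g, rfl⟩ := isConj_iff.1 (hyp.class' c' hc' c hc)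
  intro p hp q hq r hr h1 h2
  have h3 := (h _ (nbr_conj_mem hyp.odd.1 g hp) _ (nbr_conj_mem hyp.odd.1 g hq) _
    (nbr_conj_mem hyp.odd.1 g hr) (h1.conj g) (h2.conj g)).conj g⁻¹
  simpa [mul_assoc] using h3

/-- There is no configuration of three steps without a shortcut. -/
theorem Hyp.no_far (ih : GoodBelow.{u} (Nat.card G)) {d y z x : G} (hd : d ∈ D) (hy : y ∈ D)
    (hz : z ∈ D) (hx : x ∈ D) (hyd : Commute y d) (hyz : Commute y z) (hzx : Commute z x)
    (hdz : ¬ Commute d z) (hdx : ¬ Commute d x)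
    (hnone : ∀ f ∈ D, Commute f d → ¬ Commute f x) : False := by
  have hD := hyp.odd
  have hns : ¬ Same D z x := fun hs => hnone y hy hyd ((hs.iff hy).1 hyz)
  have hxN : x ∈ Nbr D z := ⟨hx, hzx.symm, fun hs => hns hs.symm⟩
  obtain ⟨z', htri⟩ := hyp.exists_tri hz
  obtain ⟨m, hm, hmz, hmx, hmd, g, hg2, hg1, hgd, hgm, hgc⟩ :=
    exists_fixer hD hd hx htri hzx hdz hns
  have hgi : g⁻¹ = g := inv_eq_of_mul_eq_one_left hg2
  have hxg : Commute x g := hgc x hx hzx.symm (Commute.refl x) hmx.symm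
  have hzg : Commute z g := hgc z hz (Commute.refl z) hzx hmz.symm
  -- the component of the centraliser of `g`
  have hcl : ∀ p ∈ {p | p ∈ D ∧ Commute p g}, ∀ q ∈ {p | p ∈ D ∧ Commute p g},
      p * q * p⁻¹ ∈ {p | p ∈ D ∧ Commute p g} := fun p hp q hq =>
    ⟨hD.1.conj_mem q hq.1 p, (hp.2.mul_left hq.2).mul_left hp.2.inv_left⟩
  have hloc := hyp.local_oddComp (A := {p | p ∈ D ∧ Commute p g}) (fun p hp => hp.1) hcl hg2 hg1
    (fun p hp => hp.2) (a := x) ⟨hx, hxg⟩ (e := d) ⟨hd, hgd.symm⟩ (fun hc => hdx hc.symm)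
    fun b hb hbD => ⟨hbD, hgc b hbD ((hb.iff hz).1 hzx).symm ((hb.iff hx).1 (Commute.refl x)).symm
      ((hb.iff hm).1 hmx).symm⟩
  set S := oddComp {p | p ∈ D ∧ Commute p g} x with hS
  have hxS : x ∈ S := self_mem_oddComp ⟨hx, hxg⟩
  have hdS : d ∈ S := mem_oddComp_of_not_commute hxS ⟨hd, hgd.symm⟩ fun hc => hdx hc.symm
  have hzS : z ∈ S := mem_oddComp_of_not_commute hdS ⟨hz, hzg⟩ hdz
  have hmS : m ∈ S := mem_oddComp_of_not_commute hdS ⟨hm, hgm.symm⟩ fun hc => hmd hc.symm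
  have ht : CommTrans S := by
    rcases hloc.dich hD ih with ht | ⟨-, hcom⟩
    · exact ht
    · obtain ⟨f, hf, f', -, h1, h2, -⟩ := hcom d x hdS hxS hdx
      exact absurd h2 (hnone f hf.1.1 h1)
  -- the common neighbours of `d` and `z`
  set M : Set G := {p | p ∈ D ∧ Commute p d ∧ Commute p z} with hM
  have hMconj : ∀ w : G, Commute w d → Commute w z → ∀ p ∈ M, w * p * w⁻¹ ∈ M := by
    rintro w hwd hwz p ⟨hp, h1, h2⟩
    exact ⟨hD.1.conj_mem p hp w, (hwd.mul_left h1).mul_left hwd.inv_left,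
      (hwz.mul_left h2).mul_left hwz.inv_left⟩
  have hpar : ∀ w : G, w * w = 1 → Commute w d → Commute w z →
      Even (M.ncard + {p | p ∈ M ∧ Commute p w}.ncard) := by
    intro w hw hwd hwz
    have hwi : w⁻¹ = w := inv_eq_of_mul_eq_one_left hw
    have h := even_ncard_fixed (s := M) (fun p => w * p * w⁻¹) (hMconj w hwd hwz) fun p _ => by
      rw [hwi]
      calc w * (w * p * w) * w = w * w * p * (w * w) := by group
        _ = p := by rw [hw, one_mul, mul_one]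
    rwa [show {p ∈ M | w * p * w⁻¹ = p} = {p | p ∈ M ∧ Commute p w} from Set.ext fun p =>
      and_congr_right fun _ => ⟨fun e => Commute.symm (mul_inv_eq_iff_eq_mul.1 e),
        fun e => by rw [e.symm.eq, mul_inv_cancel_right]⟩] at h
  have hMeven : Even M.ncard := by
    have h := hpar g hg2 hgd hzg.symm
    rwa [show {p | p ∈ M ∧ Commute p g} = ∅ from Set.eq_empty_of_forall_notMem fun p hp =>
      hdz (ht d hdS p (mem_oddComp_of_not_commute hxS ⟨hp.1.1, hp.2⟩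
        fun hc => hnone p hp.1.1 hp.1.2.1 hc.symm) z hzS hp.1.2.1.symm hp.1.2.2),
      Set.ncard_empty, add_zero] at h
  -- the lines in the neighbourhood of `y`
  have hdN : d ∈ Nbr D y := ⟨hd, hyd.symm, fun hs => hdz ((hs.iff hz).2 hyz.symm).symm⟩
  have hzN : z ∈ Nbr D y := ⟨hz, hyz.symm, fun hs => hdz ((hs.iff hd).2 hyd.symm)⟩
  set U : Set G := {p | p ∈ Nbr D y ∧ Commute p d ∧ Commute p z} with hU
  have hsplit : {p | p ∈ M ∧ Commute p y} = sameCommutingClass D y ∪ U := by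
    ext p
    constructor
    · rintro ⟨⟨hp, h1, h2⟩, h3⟩
      by_cases hs : Same D p y
      · exact Or.inl ⟨hp, hs.symm⟩
      · exact Or.inr ⟨⟨hp, h3, hs⟩, h1, h2⟩
    · rintro (h | h)
      · exact ⟨⟨h.1, (class_commute_of_commute h hd hyd).2, (class_commute_of_commute h hz hyz).2⟩,
          (class_commute_of_commute h hy (Commute.refl y)).2⟩
      · exact ⟨⟨h.1.1, h.2.1, h.2.2⟩, h.1.2.1⟩
  have hUodd : Odd U.ncard := by
    have h := hpar y (sq_one hD.1 hy) hyd hyz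
    rw [hsplit, Set.ncard_union_eq (Set.disjoint_left.2 fun p h1 h2 => h2.1.2.2 h1.2.symm)
      (Set.toFinite _) (Set.toFinite _)] at h
    have ho := hyp.odd_class ih hy
    rw [Nat.even_iff] at h hMeven
    rw [Nat.odd_iff] at ho ⊢
    omega
  obtain ⟨p0, hp0⟩ : U.Nonempty := Set.nonempty_of_ncard_ne_zero hUodd.pos.ne'
  have hnct : ¬ CommTrans (Nbr D z) := fun h =>
    hdz (hyp.commTrans_nbr hz hy h d hdN p0 hp0.1 z hzN hp0.2.1.symm hp0.2.2)
  have hNloc := hyp.nbr_local ih hz hxN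
  obtain ⟨hlink, hcom⟩ := (hNloc.dich hD ih).resolve_left hnct
  set lam := {q | q ∈ Nbr D z ∧ Same (Nbr D z) x q}.ncard with hlam
  have hlamodd : Odd lam := by
    refine hUodd.of_dvd_nat (dvd_ncard_of_classes (r := fun p q => Same (Nbr D y) p q)
      (fun p _ => Same.refl _ _) (fun _ _ _ _ h => h.symm) (fun _ _ _ _ _ _ h h' => h.trans h') ?_)
    intro p hp
    rw [hlam, ← hyp.line_size ih hz hy hxN hp.1]
    congr 1
    ext q
    exact ⟨fun h => ⟨h.1.1, h.2⟩, fun h => ⟨⟨h.1, ((h.2.iff hdN).1 hp.2.1.symm).symm,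
      ((h.2.iff hzN).1 hp.2.2.symm).symm⟩, h.2⟩⟩
  have hlam4 : lam % 4 = 3 := by
    rw [Nat.odd_iff] at hlamodd
    rcases hNloc.line_mod_four hD ih hxN with h | h <;> omega
  have hE4 : (sameCommutingClass D z).ncard % 4 = 3 :=
    hyp.class_mod_four ih hz hd (fun hc => hdz hc.symm) hy hyz hyd
  -- the line at `m` in `S`
  set K : Set G := {q | q ∈ D ∧ Commute q z ∧ Commute q x ∧ Commute q m} with hK
  have hKS : ∀ q ∈ K, q ∈ S := fun q hq =>
    mem_oddComp_of_not_commute hdS ⟨hq.1, hgc q hq.1 hq.2.1 hq.2.2.1 hq.2.2.2⟩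
      fun hc => hnone q hq.1 hc.symm hq.2.2.1
  have hKline : {q | q ∈ S ∧ Same S m q} = K := by
    ext q
    constructor
    · rintro ⟨hq, hs⟩
      have hqm : Commute q m := (hs.commute hmS).symm
      exact ⟨hq.1.1, ht q hq m hmS z hzS hqm hmz, ht q hq m hmS x hxS hqm hmx, hqm⟩
    · exact fun hq => ⟨hKS q hq, ht.same hmS (hKS q hq) hq.2.2.2.symm⟩
  have hK4 : K.ncard % 4 = 0 ∨ K.ncard % 4 = 3 := hKline ▸ hloc.line_mod_four hD ih hmS
  have hKK : ∀ q ∈ K, ∀ q' ∈ K, Commute q q' := fun q hq q' hq' =>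
    ht q (hKS q hq) m hmS q' (hKS q' hq') hq.2.2.2 hq'.2.2.2.symm
  obtain ⟨f, hf, hfz, hfx, hfm⟩ : ∃ f ∈ D, Commute f z ∧ Commute f x ∧ ¬ Commute f m := by
    by_contra hcon
    push Not at hcon
    obtain ⟨t, htN, hxt⟩ := hyp.exists_nc_nbr hz hxN
    obtain ⟨e, he, e', he', h1, -, h3, -, h5⟩ := hcom x t hxN htN hxt
    exact h5 (hKK e ⟨he.1, he.2.1, h1, hcon e he.1 he.2.1 h1⟩
      e' ⟨he'.1, he'.2.1, h3, hcon e' he'.1 he'.2.1 h3⟩)
  -- the component of `m` among the members commuting with `z` and `x`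
  set A : Set G := {q | q ∈ D ∧ Commute q z ∧ Commute q x} with hA
  have hAcl : ∀ p ∈ A, ∀ q ∈ A, p * q * p⁻¹ ∈ A := fun p hp q hq =>
    ⟨hD.1.conj_mem q hq.1 p, (hp.2.1.mul_left hq.2.1).mul_left hp.2.1.inv_left,
      (hp.2.2.mul_left hq.2.2).mul_left hp.2.2.inv_left⟩
  have hmA : m ∈ A := ⟨hm, hmz, hmx⟩
  have hfA : f ∈ A := ⟨hf, hfz, hfx⟩
  have hloc' := hyp.local_oddComp (A := A) (fun p hp => hp.1) hAcl (sq_one hD.1 hz)
    (ne_one hD.1 hz) (fun p hp => hp.2.1) hmA hfA (fun hc => hfm hc.symm)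
    fun b hb hbD => ⟨hbD, ((hb.iff hz).1 hmz.symm).symm, ((hb.iff hx).1 hmx.symm).symm⟩
  set T := oddComp A m with hT
  have hmT : m ∈ T := self_mem_oddComp hmA
  have hfT : f ∈ T := mem_oddComp_of_not_commute hmT hfA fun hc => hfm hc.symm
  have htT : CommTrans T := by
    rcases hloc'.dich hD ih with h | ⟨-, hcom'⟩
    · exact h
    · obtain ⟨e, he, e', he', h1, -, h3, -, h5⟩ := hcom' m f hmT hfT fun hc => hfm hc.symm
      exact absurd (hKK e ⟨he.1.1, he.1.2.1, he.1.2.2, h1⟩ e' ⟨he'.1.1, he'.1.2.1, he'.1.2.2, h3⟩)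
        h5
  have hTline : {q | q ∈ T ∧ Same T m q} = K ∩ T := by
    ext q
    exact ⟨fun h => ⟨⟨h.1.1.1, h.1.1.2.1, h.1.1.2.2, (h.2.commute hmT).symm⟩, h.1⟩,
      fun h => ⟨h.2, htT.same hmT h.2 h.1.2.2.2.symm⟩⟩
  have hT4 : (K ∩ T).ncard % 4 = 0 ∨ (K ∩ T).ncard % 4 = 3 :=
    hTline ▸ hloc'.line_mod_four hD ih hmT
  -- what lies outside the component
  set L : Set G := {q | q ∈ Nbr D z ∧ Same (Nbr D z) x q} with hL
  have houter : ∀ q ∈ sameCommutingClass D z ∪ L, q ∈ A ∧ ∀ p ∈ A, Commute p q := by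
    rintro q (hq | hq)
    · exact ⟨⟨hq.1, (class_commute_of_commute hq hz (Commute.refl z)).2, (class_commute_of_commute hq hx hzx).2⟩,
        fun p hp => (Same.iff hq.2 hp.1).1 hp.2.1⟩
    · have hqx : Commute q x := (hq.2.commute hxN).symm
      refine ⟨⟨hq.1.1, hq.1.2.1, hqx⟩, fun p hp => ?_⟩
      by_cases hs : Same D p z
      · exact ((hs.iff hq.1.1).2 hq.1.2.1).symm
      · exact (hq.2.iff (show p ∈ Nbr D z from ⟨hp.1, hp.2.1, hs⟩)).1 hp.2.2
  have hinA : ∀ q ∈ A, q ∉ sameCommutingClass D z ∪ L →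
      q ∈ Nbr D z ∧ ¬ Same (Nbr D z) q x := fun q hq hn =>
    ⟨⟨hq.1, hq.2.1, fun hs => hn (Or.inl ⟨hq.1, hs.symm⟩)⟩,
      fun hs => hn (Or.inr ⟨⟨hq.1, hq.2.1, fun hs' => hn (Or.inl ⟨hq.1, hs'.symm⟩)⟩, hs.symm⟩)⟩
  have hmn : m ∉ sameCommutingClass D z ∪ L := fun h => hfm ((houter m h).2 f hfA)
  have hrest : ∀ q ∈ A, q ∉ sameCommutingClass D z ∪ L → q ∈ T := by
    intro q hq hn
    obtain ⟨hqN, hqs⟩ := hinA q hq hn
    obtain ⟨hmN, hms⟩ := hinA m hmA hmn
    exact ⟨hq, linked_of_subset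
      (fun p (hp : p ∈ {p | p ∈ Nbr D z ∧ Commute p x}) =>
        (⟨hp.1.1, hp.1.2.1, hp.2⟩ : p ∈ D ∧ Commute p z ∧ Commute p x))
      (hlink x m q hxN hmN hqN hmx hq.2.2 hms hqs)⟩
  have hKdiff : K \ T = sameCommutingClass D z ∪ L := by
    ext q
    constructor
    · rintro ⟨hq, hqT⟩
      by_contra hn
      exact hqT (hrest q ⟨hq.1, hq.2.1, hq.2.2.1⟩ hn)
    · intro hq
      obtain ⟨hqA, hall⟩ := houter q hq
      refine ⟨⟨hqA.1, hqA.2.1, hqA.2.2, (hall m hmA).symm⟩, fun hqT => ?_⟩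
      rcases (reach_symm hqT.2).cases_head with e | ⟨r, hr, -⟩
      · exact hfm (e ▸ hall f hfA)
      · exact hr.2.2 (hall r hr.2.1).symm
  have hsum : K.ncard = (K ∩ T).ncard + ((sameCommutingClass D z).ncard + lam) := by
    rw [← Set.ncard_inter_add_ncard_sdiff_eq_ncard K T (Set.toFinite _), hKdiff,
      Set.ncard_union_eq (Set.disjoint_left.2 fun p h1 h2 => h2.1.2.2 h1.2.symm)
        (Set.toFinite _) (Set.toFinite _)]
  omega

/-- Non-commuting members have a common neighbour. -/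
theorem Hyp.one_common (ih : GoodBelow.{u} (Nat.card G)) {d x : G} (hd : d ∈ D) (hx : x ∈ D)
    (hdx : ¬ Commute d x) : ∃ e ∈ D, Commute e d ∧ Commute e x := by
  suffices key : ∀ p, Relation.ReflTransGen (CommAdj D) d p → Commute d p ∨
      ∃ e ∈ D, Commute e d ∧ Commute e p from (key x (hyp.conn d hd x hx)).resolve_left hdx
  intro p hp
  induction hp with
  | refl => exact Or.inl (Commute.refl d)
  | @tail q r _ hqr ihq =>
    obtain ⟨hq, hr, -, hc⟩ := hqr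
    have hqr' : Commute q r := hc
    by_cases hdr : Commute d r
    · exact Or.inl hdr
    rcases ihq with h | ⟨e, he, h1, h2⟩
    · exact Or.inr ⟨q, hq, h.symm, hqr'⟩
    by_cases hdq : Commute d q
    · exact Or.inr ⟨q, hq, hdq.symm, hqr'⟩
    by_contra hno
    push Not at hno
    exact hyp.no_far ih hd he hq hr h1 h2 hqr' hdq hdr hno.2

end CfsgLib.Perm.OddConnected
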