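import Cfsg.Agent.Lib.Perm.OddConnected.Rank
import Cfsg.Agent.Lib.Perm.OddConnected.Distance

/-!
# No pair generates a Suzuki group

Suppose the group of `d` and `x` has a 2-element of non-central square. By induction every
neighbourhood is then disconnected with a Suzuki quotient. A line has a third class, and the Sylow
subgroups of two commuting pairs fix a member `p` of it; at `p` they act by inner automorphisms,
giving two commuting non-abelian subgroups of one Sylow 2-subgroup of a Suzuki group.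
-/

set_option autoImplicit false
set_option linter.style.haveILetI false

namespace CfsgLib.Perm.OddConnected

open Cfsg CfsgLib.Perm.RootInvolution CfsgLib.Perm.OddTransposition
open scoped commutatorElement

universe u

/-- No bad pair below a given order. -/
def FlatBelow (n : ℕ) : Prop :=
  ∀ (X : Type u) [Group X] [Finite X] (E : Set X), Nat.card X < n → Hyp E →
    ∀ a b, a ∈ E → b ∈ E → ¬ Commute a b → ¬ Bad E a b

/-- Elements of 2-power order lift to such elements. -/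
theorem exists_two_lift {A B : Type*} [Group A] [Finite A] [Group B] {f : A →* B}
    (hf : Function.Surjective f) {b : B} {k : ℕ} (hb : b ^ 2 ^ k = 1) :
    ∃ a : A, f a = b ∧ ∃ j : ℕ, a ^ 2 ^ j = 1 := by
  obtain ⟨a, rfl⟩ := hf b
  obtain ⟨i, m, hm, hi⟩ := Nat.exists_eq_two_pow_mul_odd (orderOf_pos a).ne'
  obtain ⟨u, hu1, hu2⟩ := Nat.chineseRemainder
    (Nat.Coprime.pow_left k (Nat.coprime_two_left.2 hm) : Nat.Coprime (2 ^ k) m) 1 0
  refine ⟨a ^ u, ?_, i, ?_⟩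
  · rw [map_pow]
    calc f a ^ u = f a ^ 1 := pow_eq_pow_iff_modEq.2
          (hu1.of_dvd (orderOf_dvd_of_pow_eq_one hb))
      _ = f a := pow_one _
  · obtain ⟨l, hl⟩ := Nat.modEq_zero_iff_dvd.1 hu2
    rw [← pow_mul, show u * 2 ^ i = 2 ^ i * m * l by rw [hl]; ring, ← hi, pow_mul, pow_orderOf_eq_one,
      one_pow]

variable {G : Type u} [Group G] [Finite G] {D : Set G} (hyp : Hyp D)
include hyp

theorem Hyp.ncard_class_eq {d f : G} (hd : d ∈ D) (hf : f ∈ D) :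
    (sameCommutingClass D f).ncard = (sameCommutingClass D d).ncard := by
  obtain ⟨w, rfl⟩ := isConj_iff.1 (hyp.class' d hd f hf)
  rw [← Set.ncard_image_of_injective (sameCommutingClass D d) (MulAut.conj w).injective]
  congr 1
  ext a
  constructor
  · intro ha
    refine ⟨w⁻¹ * a * w, ?_, by simp [mul_assoc]⟩
    have := class_conj hyp.odd.1 w⁻¹ ha
    simpa [mul_assoc] using this
  · rintro ⟨b, hb, rfl⟩
    exact class_conj hyp.odd.1 w hb

/-- A bad pair makes the neighbourhood of a common neighbour disconnected of Suzuki type. -/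
theorem Hyp.type_of_bad (ihB : FlatBelow.{u} (Nat.card G)) {d x e : G} (hd : d ∈ D) (hx : x ∈ D)
    (hdx : ¬ Commute d x) (he : e ∈ D) (hed : Commute e d) (hex : Commute e x) (hb : Bad D d x) :
    CommTrans (Nbr D e) ∧ Lie.IsoSuzuki (Quot0 (Nbr D e)) := by
  obtain ⟨g, hg, ⟨k, hk⟩, hgn⟩ := (hyp.bad_iff hd hx hdx).1 hb
  obtain ⟨hxN, hEN⟩ := hyp.mem_nbr_of_common hd hx hdx he hed hex
  have hdN := hEN d ⟨hd, rfl⟩
  have hloc := hyp.nbr_local hyp.below he hdN
  have hcl : ∀ f ∈ pairGroup D d x, f ∈ Subgroup.closure (Nbr D e) := fun f hf =>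
    (hloc.pairGroup_image hyp.odd hdN hEN hxN hf).1
  have hcap : ∀ n ∈ pairGroup D d x, n ∈ coreOf (Nbr D e) → n ∈ coreOf (span D d x) := by
    intro n hn hn'
    refine mem_core_of_normal (P := coreOf (Nbr D e) ⊓ pairGroup D d x)
      ((isPGroup_coreOf _).to_le inf_le_left) (hyp.closure_span hd hx hdx ▸ inf_le_right) ?_
      ⟨hn', hn⟩
    intro w hw m hm
    rw [hyp.closure_span hd hx hdx] at hw
    exact Subgroup.mem_inf.2 ⟨core_conj (hcl w hw) (Subgroup.mem_inf.1 hm).1,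
      mul_mem (mul_mem hw (Subgroup.mem_inf.1 hm).2) (inv_mem hw)⟩
  by_cases hcon : IsConnectedSet (CommAdj (lift (Nbr D e))) (lift (Nbr D e))
  · exfalso
    refine hgn (hyp.sq_mem_core hd hx hdx hg hk fun f hf => hcap _ ?_ ?_)
    · exact mul_mem (mul_mem (mul_mem (mul_mem hg hg) hf) (inv_mem (mul_mem hg hg))) (inv_mem hf)
    obtain ⟨hgS, hgi⟩ := hloc.pairGroup_image hyp.odd hdN hEN hxN hg
    obtain ⟨hfS, hfi⟩ := hloc.pairGroup_image hyp.odd hdN hEN hxN hf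
    have hnb := ihB _ _ (card_quot_lt hloc.proper) (hloc.hyp_img hyp.odd hcon) _ _ (el_mem hdN)
      (el_mem hxN) fun h => hdx ((hloc.commute_proj_iff hyp.odd hdN hxN).1 h)
    have hc : Commute (proj (Nbr D e) ⟨g, hgS⟩ * proj (Nbr D e) ⟨g, hgS⟩)
        (proj (Nbr D e) ⟨f, hfS⟩) := by
      by_contra hc
      refine hnb ⟨_, hgi, ⟨k, ?_⟩, _, hfi, hc⟩
      rw [← map_pow, show (⟨g, hgS⟩ : ↥(Subgroup.closure (Nbr D e))) ^ 2 ^ k = 1 from
        Subtype.ext (by simpa using hk), map_one]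
    refine (proj_eq_one_iff (x := (⟨g, hgS⟩ * ⟨g, hgS⟩ * ⟨f, hfS⟩ *
      (⟨g, hgS⟩ * ⟨g, hgS⟩)⁻¹ * ⟨f, hfS⟩⁻¹ : ↥(Subgroup.closure (Nbr D e))))).1 ?_
    rw [map_mul, map_mul, map_mul, map_inv, map_inv, map_mul, hc.eq, mul_inv_cancel_right,
      mul_inv_cancel]
  refine ⟨hloc.commTrans_of_disconnected hyp.odd hcon, ?_⟩
  set y : ↥(Subgroup.closure (Nbr D e)) := ⟨g, hcl g hg⟩ with hy
  have hyk : y ^ 2 ^ k = 1 := Subtype.ext (by simpa [hy] using hk)
  have hno : proj0 (Nbr D e) y * proj0 (Nbr D e) y ≠ 1 := fun h1 => hgn (hcap _ (mul_mem hg hg)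
    (mem_core_of_proj0 (y := y * y) (k := k)
      (by rw [(Commute.refl y).mul_pow, hyk, one_mul]) (by rw [map_mul, h1])))
  have hy2 : proj0 (Nbr D e) y ^ 2 ^ k = 1 := by rw [← map_pow, hyk, map_one]
  rcases hloc.structure0 hyp.odd hcon with ⟨F, iF, iF', hch, h4, ⟨φ⟩⟩ | hsz |
    ⟨F, iF, iF', q, hch, hF, h4, ⟨φ⟩⟩
  · exfalso
    haveI := hch
    obtain ⟨ψ⟩ := LTwo.exists_equiv (F := F)
    refine hno ((φ.trans ψ).injective ?_)
    rw [map_mul, map_one]
    exact LTwo.sq_eq_one (k := k) (by rw [← map_pow, hy2, map_one])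
  · exact hsz
  · exfalso
    haveI := hch
    haveI : Fact (Fintype.card F = q ^ 2) := ⟨hF⟩
    obtain ⟨θ, hθ, hconj⟩ := Classical.exists_frob hF
    haveI := KnownC.AutPSU.uctx (n := 3) hθ hconj le_rfl (by omega)
    set e' := φ.trans (KnownC.AutPSU.pgEquiv (n := 3) (F := F) (q := q) hθ) with he'
    have hd3 : Module.finrank F (Fin 3 → F) = 3 := Module.finrank_fin_fun F
    set ψ : ↥(Subgroup.closure (Nbr D e)) →* KnownC.AutPSU.PG (Classical.stdHerm θ 3) :=
      e'.toMonoidHom.comp (proj0 (Nbr D e)) with hψ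
    have hsq : ∀ {q} (hq : q ∈ Nbr D e), ψ (el hq) * ψ (el hq) = 1 := fun {q} hq => by
      rw [← map_mul, show el hq * el hq = (1 : ↥(Subgroup.closure (Nbr D e))) from
        Subtype.ext (sq_one hyp.odd.1 hq.1), map_one]
    set T : Set (KnownC.AutPSU.PG (Classical.stdHerm θ 3)) :=
      {w | ∃ a, ∃ ha : a ∈ sameCommutingClass D d, ψ (el (hEN a ha)) = w} with hT
    have hmem : ψ y ∈ Subgroup.closure (T ∪ {ψ (el hxN)}) := by
      have hle : pairGroup D d x ≤ ((Subgroup.closure (T ∪ {ψ (el hxN)})).comap ψ).map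
          (Subgroup.closure (Nbr D e)).subtype := by
        rw [Subgroup.closure_le]
        rintro w (hw | hw)
        · exact ⟨el (hEN w hw), Subgroup.subset_closure (Or.inl ⟨w, hw, rfl⟩), rfl⟩
        · obtain rfl := Set.mem_singleton_iff.1 hw
          exact ⟨el hxN, Subgroup.subset_closure (Or.inr rfl), rfl⟩
      obtain ⟨w, hw, hwe⟩ := hle hg
      rwa [show w = y from Subtype.ext hwe] at hw
    refine hno (e'.injective ?_)
    rw [map_mul, map_one]
    refine Unitary.sq_eq_one (B := Classical.stdHerm θ 3) hd3 T ?_ ?_ (d := ψ (el hdN))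
      ⟨d, ⟨hd, rfl⟩, rfl⟩ (hsq hxN) ?_ hmem (n := k) ?_
    · rintro _ ⟨a, ha, rfl⟩
      exact hsq _
    · rintro _ ⟨a, ha, rfl⟩ _ ⟨b, hb', rfl⟩
      exact (show Commute (el (hEN a ha)) (el (hEN b hb')) from
        Subtype.ext (class_commute ha hb').eq).map ψ
    · intro hc
      refine hdx ((hloc.commute_proj0_iff hyp.odd hdN hxN).1 ?_)
      have := hc.map e'.symm.toMonoidHom
      simpa [hψ] using this
    · show (ψ y) ^ 2 ^ k = 1
      rw [← map_pow, hyk, map_one]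

/-- A Suzuki pair is bad. -/
theorem Hyp.bad_of_suzuki {d x : G} (hd : d ∈ D) (hx : x ∈ D) (hdx : ¬ Commute d x)
    (hsz : Lie.IsoSuzuki (Quot' (span D d x))) : Bad D d x := by
  obtain ⟨F, iF, iF', m, hm, hF, ⟨φ⟩⟩ := hsz
  have he := CfsgLib.KnownB.SzElem.twist_of_card hF
  set g₀ := φ.symm (KnownB.Suzuki.P he 1 0) with hg₀
  have h4 : g₀ ^ 2 ^ 2 = 1 := by
    rw [hg₀, ← map_pow, show 2 ^ 2 = 4 from rfl,
      KnownB.Suzuki.pow_four he (KnownB.Suzuki.P_mem_uGroup he 1 0), map_one]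
  obtain ⟨⟨g, hg⟩, hgi, j, hj⟩ := exists_two_lift (proj_surjective (span D d x)) h4
  refine (hyp.bad_iff hd hx hdx).2 ⟨g, hyp.closure_span hd hx hdx ▸ hg,
    ⟨j, by simpa using congrArg Subtype.val hj⟩, fun h => ?_⟩
  have h1 : g₀ * g₀ = 1 := by
    rw [← hgi, ← map_mul]
    exact proj_eq_one_iff.2 h
  rw [hg₀, ← map_mul, map_eq_one_iff _ φ.symm.injective, KnownB.Suzuki.P_mul,
    ← KnownB.Suzuki.P_zero he] at h1
  have h2 := (KnownB.Suzuki.P_injective he h1).2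
  exact one_ne_zero (show (1 : F) = 0 by simpa using h2)

/-- The other pair of a bad quadrangle is bad. -/
theorem Hyp.bad_opposite (ihB : FlatBelow.{u} (Nat.card G)) {d x e e' : G} (hd : d ∈ D) (hx : x ∈ D)
    (hdx : ¬ Commute d x) (he : e ∈ D) (he' : e' ∈ D) (hee : ¬ Commute e e') (hed : Commute e d)
    (hex : Commute e x) (he'd : Commute e' d) (he'x : Commute e' x) (hb : Bad D d x) :
    Bad D e e' := by
  obtain ⟨w, hw⟩ := isConj_iff.1 (hyp.class' e he d hd)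
  have hsz : Lie.IsoSuzuki (Quot0 (Nbr D d)) := by
    have h1 : ¬ Commute (w * d * w⁻¹) (w * x * w⁻¹) := fun h => hdx (by
      simpa [mul_assoc] using h.conj w⁻¹)
    exact (hyp.type_of_bad ihB (hyp.odd.1.conj_mem d hd w) (hyp.odd.1.conj_mem x hx w) h1 hd
      (hw ▸ hed.conj w) (hw ▸ hex.conj w) (hb.conj hyp.odd.1 w)).2
  rcases hyp.span_type he he' hee with ⟨F, iF, iF', hch, h4, ⟨φ⟩⟩ | hs
  swap
  · exact hyp.bad_of_suzuki he he' hee hs
  exfalso
  haveI := hch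
  obtain ⟨ψ⟩ := LTwo.exists_equiv (F := F)
  set χ := φ.trans ψ with hχ
  obtain ⟨a₀, b₀, ha, ha1, hb0, hb1, hab, h3⟩ := LTwo.exists_three (F := F)
  have hloc := hyp.local_span he he' hee
  obtain ⟨he'S, hES⟩ := hyp.mem_span he he' hee
  have heS := hES e ⟨he, rfl⟩
  have hmem : ∀ {c : Matrix.SpecialLinearGroup (Fin 2) F}, c * c = 1 → c ≠ 1 →
      ∃ p, ∃ hp : p ∈ span D e e', χ (proj _ (el hp)) = c := by
    intro c hc hc1
    obtain ⟨z, hz⟩ := isConj_iff.1 (LTwo.isConj_of_invol (a := χ (proj _ (el heS))) (b := c)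
      (by rw [← map_mul, ← map_mul, show el heS * el heS = (1 : ↥(Subgroup.closure (span D e e')))
        from Subtype.ext (sq_one hyp.odd.1 he), map_one, map_one])
      (fun h => hloc.not_mem_core hyp.odd heS (proj_eq_one_iff (x := el heS) |>.1
        (χ.injective (h.trans (map_one χ).symm)))) hc hc1)
    obtain ⟨z', rfl⟩ := χ.surjective z
    obtain ⟨⟨s, hs⟩, rfl⟩ := proj_surjective (span D e e') z'
    refine ⟨s * e * s⁻¹, closure_normalises hyp.odd.1 hloc.subset hloc.conj hs heS, ?_⟩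
    rw [← hz, ← map_inv, ← map_inv, ← map_mul, ← map_mul, ← map_mul, ← map_mul]
    rfl
  obtain ⟨p, hp, rfl⟩ := hmem ha ha1
  obtain ⟨q, hq, rfl⟩ := hmem hb0 hb1
  have hpq : ¬ Commute p q := fun h => hab
    (((hloc.commute_proj_iff hyp.odd hp hq).2 h).map χ.toMonoidHom)
  have h3' : (p * q) ^ 3 = 1 := by
    have h1 : proj (span D e e') ((el hp * el hq) ^ 3) = 1 := by
      refine χ.injective ?_
      rw [map_pow, map_mul, map_pow, map_mul, h3, map_one]
    have h2 : (p * q) ^ 3 ∈ coreOf (span D e e') := by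
      simpa [el] using proj_eq_one_iff.1 h1
    obtain ⟨j, hj⟩ := isPGroup_coreOf (span D e e') ⟨_, h2⟩
    obtain ⟨-, -, -, hodd⟩ := adj_of_not_commute hyp.odd (hloc.subset hp) (hloc.subset hq) hpq
    rw [← orderOf_eq_one_iff]
    refine Nat.eq_one_of_dvd_coprimes
      ((Nat.coprime_two_right.2 hodd).pow_right j) (orderOf_pow_dvd 3) (orderOf_dvd_of_pow_eq_one ?_)
    simpa using congrArg Subtype.val hj
  have hN : ∀ {c : G}, c ∈ span D e e' → c ∈ Nbr D d := fun {c} hc =>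
    ⟨hc.1.1, pairGroup_commute hd hed.symm he'd.symm hc.1.2, fun hs => hdx
      ((hs.iff hx).1 (pairGroup_commute hx hex.symm he'x.symm hc.1.2).symm).symm⟩
  have hl := hyp.nbr_local hyp.below hd (hN hp)
  obtain ⟨F', iF2, iF2', m, hm, hF, ⟨φ'⟩⟩ := hsz
  refine hpq ((hl.commute_proj0_iff hyp.odd (hN hp) (hN hq)).1 ?_)
  have h5 : φ' (proj0 (Nbr D d) (el (hN hp) * el (hN hq))) = 1 := by
    refine SzTwo.eq_one_of_pow_three (CfsgLib.KnownB.SzElem.twist_of_card hF) hm hF ?_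
    rw [← map_pow, ← map_pow, show (el (hN hp) * el (hN hq)) ^ 3 = 1 from
      Subtype.ext (by simpa [el] using h3'), map_one, map_one]
  rw [map_eq_one_iff _ φ'.injective, map_mul, mul_eq_one_iff_eq_inv] at h5
  rw [h5]
  exact Commute.inv_left (Commute.refl _)

/-- If every neighbourhood is disconnected, every line has a third class. -/
theorem Hyp.line_third (hct : ∀ c ∈ D, CommTrans (Nbr D c)) {d e : G} (he : e ∈ D)
    (hdN : d ∈ Nbr D e) : ∃ p ∈ Nbr D e, Same (Nbr D e) d p ∧ ¬ Same D d p := by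
  by_contra hno
  push Not at hno
  have hD := hyp.odd
  have hline : ∀ c ∈ D, ∀ f ∈ Nbr D c, ∀ f' ∈ Nbr D c, Commute f f' → Same D f f' := by
    intro c hc f hf f' hf' hff
    have hfe : ∀ {c f : G}, c ∈ D → f ∈ Nbr D c →
        sameCommutingClass D f ⊆ {q | q ∈ Nbr D c ∧ Same (Nbr D c) f q} := fun {c f} hc hf q hq =>
      ⟨⟨hq.1, ((Same.iff hq.2 hc).1 hf.2.1.symm).symm,
        fun hs => hf.2.2 (Eq.trans hq.2 hs)⟩, same_iff.2 fun k hk => Same.iff hq.2 hk.1⟩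
    have h0 : {q | q ∈ Nbr D e ∧ Same (Nbr D e) d q} = sameCommutingClass D d :=
      Set.Subset.antisymm (fun q hq => ⟨hq.1.1, hno q hq.1 hq.2⟩) (hfe he hdN)
    have h1 := Set.eq_of_subset_of_ncard_le (hfe hc hf)
      (by rw [hyp.line_size hyp.below he hc hdN hf, h0, hyp.ncard_class_eq hdN.1 hf.1])
      (Set.toFinite _)
    exact (h1.symm.subset ⟨hf', (hct c hc).same hf hf' hff⟩).2
  -- neighbours of `x` are neighbours of `d`
  have hsub : ∀ {d x : G}, d ∈ D → x ∈ D → ¬ Commute d x → Nbr D x ⊆ Nbr D d := by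
    intro d x hd hx hdx z hz
    refine ⟨hz.1, by_contra fun hzd => ?_, fun hs => hdx ((hs.iff hx).1 hz.2.1.symm).symm⟩
    have hns : ¬ Same D z x := hz.2.2
    have hxN : x ∈ Nbr D z := ⟨hx, hz.2.1.symm, fun hs => hns hs.symm⟩
    obtain ⟨z', htri⟩ := hyp.exists_tri hz.1
    obtain ⟨a, ha, hza, hmv⟩ : ∃ a ∈ D, Same D z a ∧ ¬ Commute d (a * x * d * (a * x)⁻¹) := by
      rcases exists_moving hD hd hx htri hz.2.1 (fun h => hzd h.symm) with h | h
      · exact ⟨z, hz.1, Same.refl _ _, h⟩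
      · exact ⟨z', htri.right, Tri.same hD htri, h⟩
    have hax : Commute a x := ((hza.iff hx).1 hz.2.1.symm).symm
    have hne : a ≠ x := fun h => hns (h ▸ hza)
    obtain ⟨m, hm, hmd, hmnd, -, hsw⟩ := exists_middle hD hd (hD.1.conj_mem d hd (a * x)) hmv
    have hu2 : a * x * (a * x) = 1 := by
      rw [hax.symm.mul_mul_mul_comm, sq_one hD.1 ha, sq_one hD.1 hx, one_mul]
    have hum : Commute (a * x) m := hsw _ hu2 rfl
    have hma : Commute m a := commute_of_commute_mul hD ha hx hm hax hne hum.symm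
    have hmx : Commute m x := commute_of_commute_mul hD hx ha hm hax.symm (Ne.symm hne)
      (by rw [← hax.eq]; exact hum.symm)
    have hmz : Commute m z := (hza.iff hm).2 hma
    have hnd : ∀ {y}, y ∈ D → Same D z y → ¬ Commute y d := fun {y} hy hs h =>
      hzd (((hs.iff hd).2 h.symm).symm)
    -- two commuting members of different classes conjugate `d` in the same way
    have key : ∀ {a x m : G}, a ∈ D → x ∈ D → m ∈ D → Same D a m → Commute a x → Commute m x →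
        ¬ Same D a x → ¬ Commute x d → a * x * d * (a * x)⁻¹ = m * d * m⁻¹ → False := by
      intro a x m ha hx hm ham hax hmx hne hxd heq
      have h1 : x * d * x⁻¹ = a * m * d * (a * m)⁻¹ := by
        calc x * d * x⁻¹ = a * a * x * d * x⁻¹ * (a * a)⁻¹ := by rw [sq_one hD.1 ha]; group
          _ = a * (a * x * d * (a * x)⁻¹) * a⁻¹ := by group
          _ = _ := by rw [heq]; group
      by_cases he : a = m
      · rw [he, sq_one hD.1 hm, one_mul, inv_one, mul_one] at h1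
        exact hxd (mul_inv_eq_iff_eq_mul.1 h1)
      · have hq := hyp.good.mulMem a m ha hm ham he
        have hqx := eq_of_conj_eq hD hq hx hd (hax.mul_left hmx) hxd h1.symm
        have ht : Tri D a m := ⟨ha, hm, ham.commute ha, hq⟩
        exact hne (hqx ▸ (Tri.same hD (ht.third' hD.1)).symm)
    by_cases hmE : Same D z m
    · exact key ha hx hm (hza.symm.trans hmE) hax hmx (fun h => hns (hza.trans h))
        (fun h => hdx h.symm) hmd.symm
    · have hxm : Same D x m := hline z hz.1 x hxN m ⟨hm, hmz, fun h => hmE h.symm⟩ hmx.symm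
      refine key hx ha hm hxm hax.symm hma (fun h => hns (hza.trans h.symm)) (hnd ha hza) ?_
      rw [← hax.eq]
      exact hmd.symm
  have hall : ∀ r, Relation.ReflTransGen (NC D) d r → Nbr D r = Nbr D d := by
    intro r hr
    induction hr with
    | refl => rfl
    | @tail q r _ hqr ih =>
      rw [← ih]
      exact Set.Subset.antisymm (hsub hqr.1 hqr.2.1 hqr.2.2)
        (hsub hqr.2.1 hqr.1 fun h => hqr.2.2 h.symm)
  have h := hall e (hyp.linkedAll d hdN.1 e he) ▸ hdN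
  exact h.2.2 (Same.refl _ _)

/-- The Sylow data of a bad pair. -/
theorem Hyp.exists_sylow_data {d x : G} (hd : d ∈ D) (hx : x ∈ D) (hdx : ¬ Commute d x)
    (hb : Bad D d x) :
    ∃ P : Subgroup G, IsPGroup 2 ↥P ∧ P ≤ pairGroup D d x ∧ (∀ g ∈ P, Commute g d) ∧
      ∃ g₁ ∈ P, ∃ g₂ ∈ P, ∃ g₃ ∈ P, ∃ g₄ ∈ P,
        ⁅g₃, g₄⁆ * ⁅g₁, g₂⁆⁻¹ ∈ sameCommutingClass D d := by
  obtain ⟨hxS, hES⟩ := hyp.mem_span hd hx hdx
  have hdS := hES d ⟨hd, rfl⟩
  have hloc := hyp.local_span hd hx hdx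
  rcases hyp.span_type hd hx hdx with ⟨F, iF, iF', hch, h4, ⟨φ⟩⟩ | ⟨F, iF, iF', m, hm, hF, ⟨φ₀⟩⟩
  · exfalso
    haveI := hch
    obtain ⟨ψ⟩ := LTwo.exists_equiv (F := F)
    obtain ⟨g, hg, ⟨k, hk⟩, hgn⟩ := (hyp.bad_iff hd hx hdx).1 hb
    rw [← hyp.closure_span hd hx hdx] at hg
    refine hgn ((proj_eq_one_iff (x := (⟨g, hg⟩ * ⟨g, hg⟩ : ↥(Subgroup.closure (span D d x))))).1
      ((φ.trans ψ).injective ?_))
    rw [map_mul, map_mul, map_one]
    refine LTwo.sq_eq_one (k := k) ?_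
    rw [← map_pow, ← map_pow, show (⟨g, hg⟩ : ↥(Subgroup.closure (span D d x))) ^ 2 ^ k = 1 from
      Subtype.ext (by simpa using hk), map_one, map_one]
  have he := CfsgLib.KnownB.SzElem.twist_of_card hF
  have hd2 : φ₀ (proj _ (el hdS)) * φ₀ (proj _ (el hdS)) = 1 := by
    rw [← map_mul, ← map_mul, show el hdS * el hdS = (1 : ↥(Subgroup.closure (span D d x))) from
      Subtype.ext (sq_one hyp.odd.1 hd), map_one, map_one]
  obtain ⟨s, b₀, hb₀, hs⟩ := SzTwo.exists_conj_centre he hd2 fun h =>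
    hloc.not_mem_core hyp.odd hdS ((proj_eq_one_iff (x := el hdS)).1
      (φ₀.injective (h.trans (map_one φ₀).symm)))
  set φ := φ₀.trans (MulAut.conj s) with hφ
  set π : ↥(Subgroup.closure (span D d x)) →* Cfsg.Lie.Sz F (2 ^ (m + 1)) :=
    φ.toMonoidHom.comp (proj _) with hπ
  have hπd : π (el hdS) = KnownB.Suzuki.P he 0 b₀ := hs
  have hπs : Function.Surjective π := φ.surjective.comp (proj_surjective _)
  have hπk : ∀ {y z : ↥(Subgroup.closure (span D d x))}, π y = π z →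
      proj (span D d x) y = proj (span D d x) z := fun h => φ.injective h
  set P0 := (KnownB.Suzuki.uGroup he).comap π with hP0
  haveI : Fact (Nat.Prime 2) := ⟨Nat.prime_two⟩
  have hker : IsPGroup 2 ↥π.ker := by
    refine (ker_isPGroup (span D d x)).to_le fun y hy => ?_
    exact MonoidHom.mem_ker.2 ((hπk (hy.trans (map_one π).symm)).trans (map_one _))
  have hfix : ∀ y ∈ P0, Commute ((y : ↥(Subgroup.closure (span D d x))) : G) d := by
    intro y hy
    have hq : (y : G) * d * (y : G)⁻¹ ∈ span D d x :=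
      closure_normalises hyp.odd.1 hloc.subset hloc.conj y.2 hdS
    refine mul_inv_eq_iff_eq_mul.1 (hyp.eq_of_congr hd hx hdx hq hdS ?_)
    refine ((hloc.mem_fiber hyp.odd hq hdS).2 (hπk ?_)).2
    rw [show el hq = y * el hdS * y⁻¹ from rfl, map_mul, map_mul, map_inv, hπd,
      (SzTwo.centre_commute he b₀ hy).symm.eq, mul_inv_cancel_right]
  obtain ⟨u₁, hu₁, u₂, hu₂, t₀, β, β', hβ, hβ', hββ, ht₀, hcomm, htc⟩ :=
    SzTwo.exists_moved_commutator he hm hF
  obtain ⟨y₁, hy₁⟩ := hπs u₁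
  obtain ⟨y₂, hy₂⟩ := hπs u₂
  obtain ⟨t, rfl⟩ := hπs t₀
  obtain ⟨s₁, hs₁⟩ := SzTwo.exists_conj_eq he hb₀ hβ
  obtain ⟨σ, rfl⟩ := hπs s₁
  -- the member congruent to the commutator
  set q₀ : G := σ * d * (σ : G)⁻¹ with hq₀
  have hq₀S : q₀ ∈ span D d x := closure_normalises hyp.odd.1 hloc.subset hloc.conj σ.2 hdS
  have hq₀π : π (el hq₀S) = KnownB.Suzuki.P he 0 β := by
    rw [show el hq₀S = σ * el hdS * σ⁻¹ from rfl, map_mul, map_mul, map_inv, hπd, hs₁]
  set q₁ : G := t * q₀ * (t : G)⁻¹ with hq₁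
  have hq₁S : q₁ ∈ span D d x := closure_normalises hyp.odd.1 hloc.subset hloc.conj t.2 hq₀S
  have hq₁π : π (el hq₁S) = KnownB.Suzuki.P he 0 β' := by
    rw [show el hq₁S = t * el hq₀S * t⁻¹ from rfl, map_mul, map_mul, map_inv, hq₀π, htc]
  have hclass : ∀ {q : G} (hq : q ∈ span D d x) {b : F}, π (el hq) = KnownB.Suzuki.P he 0 b →
      q ∈ sameCommutingClass D d := by
    intro q hq b hqb
    refine ⟨hq.1.1, hyp.spanProp d x q hd hx hdx hq.1.1 hq.1.2
      ((hloc.commute_proj_iff hyp.odd hq hdS).1 ?_)⟩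
    have h := SzTwo.centre_commute he b (KnownB.Suzuki.P_mem_uGroup he 0 b₀)
    rw [← hπd, ← hqb] at h
    have := h.map φ.symm.toMonoidHom
    simpa [hπ] using this
  have hne : q₁ ≠ q₀ := fun h => hββ (by
    have h1 : KnownB.Suzuki.P he 0 β' = KnownB.Suzuki.P he 0 β := by
      rw [← hq₁π, ← hq₀π]; exact congrArg π (Subtype.ext h)
    exact (KnownB.Suzuki.P_injective he h1).2)
  have hq0E := hclass hq₀S hq₀π
  have hq1E := hclass hq₁S hq₁π
  -- the central factor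
  set c : ↥(Subgroup.closure (span D d x)) := ⁅y₁, y₂⁆ with hc
  have hcore : q₀⁻¹ * (c : G) ∈ coreOf (span D d x) := by
    refine (proj_eq_iff (x := el hq₀S) (y := c)).1 (hπk ?_)
    rw [hq₀π, hc, map_commutatorElement, hy₁, hy₂, hcomm]
  have hcen : Commute (q₀⁻¹ * (c : G)) t :=
    hyp.core_central hd hx hdx hcore (hyp.closure_span hd hx hdx ▸ t.2)
  refine ⟨P0.map (Subgroup.closure (span D d x)).subtype,
    ((KnownB.Suzuki.uGroup_isPGroup he).comap_of_ker_isPGroup π hker).map _,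
    (Subgroup.map_subtype_le P0).trans (hyp.closure_span hd hx hdx).le, ?_, (y₁ : G),
    ⟨y₁, show π y₁ ∈ _ from hy₁ ▸ hu₁, rfl⟩, (y₂ : G), ⟨y₂, show π y₂ ∈ _ from hy₂ ▸ hu₂, rfl⟩,
    t * y₁ * (t : G)⁻¹, ⟨t * y₁ * t⁻¹, show π (t * y₁ * t⁻¹) ∈ KnownB.Suzuki.uGroup he by
      rw [map_mul, map_mul, map_inv, hy₁]; exact ht₀ _ hu₁, rfl⟩,
    t * y₂ * (t : G)⁻¹, ⟨t * y₂ * t⁻¹, show π (t * y₂ * t⁻¹) ∈ KnownB.Suzuki.uGroup he by
      rw [map_mul, map_mul, map_inv, hy₂]; exact ht₀ _ hu₂, rfl⟩, ?_⟩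
  · rintro _ ⟨y, hy, rfl⟩
    exact hfix y hy
  have hm2 := hyp.good.mulMem q₁ q₀ hq1E.1 hq0E.1 (hq1E.2.symm.trans hq0E.2) hne
  have ht : Tri D q₁ q₀ := ⟨hq1E.1, hq0E.1, class_commute hq1E hq0E, hm2⟩
  have heq : ⁅(t : G) * y₁ * (t : G)⁻¹, (t : G) * y₂ * (t : G)⁻¹⁆ *
      ⁅(y₁ : G), (y₂ : G)⁆⁻¹ = q₁ * q₀ := by
    have h1 : (t : G) * (q₀⁻¹ * (c : G)) * (t : G)⁻¹ = q₀⁻¹ * c := by
      rw [← hcen.eq, mul_inv_cancel_right]
    have h2 : ⁅(t : G) * y₁ * (t : G)⁻¹, (t : G) * y₂ * (t : G)⁻¹⁆ = t * (c : G) * (t : G)⁻¹ := by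
      simp only [hc, commutatorElement_def, Subgroup.coe_mul, Subgroup.coe_inv]
      group
    have h3 : (c : G) = ⁅(y₁ : G), (y₂ : G)⁆ := by
      simp only [hc, commutatorElement_def, Subgroup.coe_mul, Subgroup.coe_inv]
    rw [h2, ← h3]
    calc (t : G) * c * (t : G)⁻¹ * (c : G)⁻¹ =
          q₁ * ((t : G) * (q₀⁻¹ * c) * (t : G)⁻¹) * (c : G)⁻¹ := by rw [hq₁]; group
      _ = q₁ * q₀⁻¹ := by rw [h1]; group
      _ = q₁ * q₀ := by rw [inv_eq hyp.odd.1 hq0E.1]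
  rw [heq]
  exact ⟨hm2, (hq1E.2.trans (Tri.same hyp.odd (ht.third' hyp.odd.1)).symm : Same D d (q₁ * q₀))⟩

/-- A 2-group centralising two neighbours fixes a member of a third class of their line. -/
theorem Hyp.exists_fixed (hct : ∀ c ∈ D, CommTrans (Nbr D c)) {d x e : G} (hd : d ∈ D) (hx : x ∈ D)
    (hdx : ¬ Commute d x) (he : e ∈ D) (hed : Commute e d) (hex : Commute e x)
    (hsz : Lie.IsoSuzuki (Quot0 (Nbr D e))) {K : Subgroup G} (hK : IsPGroup 2 ↥K)
    (hKd : ∀ k ∈ K, Commute k d) (hKe : ∀ k ∈ K, Commute k e) :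
    ∃ p ∈ Nbr D e, Same (Nbr D e) d p ∧ ¬ Same D d p ∧ ∀ k ∈ K, Commute k p := by
  haveI : Fact (Nat.Prime 2) := ⟨Nat.prime_two⟩
  obtain ⟨hxN, hEN⟩ := hyp.mem_nbr_of_common hd hx hdx he hed hex
  have hdN := hEN d ⟨hd, rfl⟩
  have hloc := hyp.nbr_local hyp.below he hdN
  have hKS : K ≤ stab (Nbr D e) := fun k hk => mem_stab_nbr hyp.odd.1 (hKe k hk)
  obtain ⟨i, hi⟩ := hloc.exists_two_pow_fiber hyp.odd hdN
  rcases Nat.eq_zero_or_pos i with rfl | hi0
  · obtain ⟨p, hpN, hps, hpn⟩ := hyp.line_third hct he hdN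
    refine ⟨p, hpN, hps, hpn, fun k hk => ?_⟩
    obtain ⟨F, iF, iF', m, hm, hF, ⟨φ⟩⟩ := hsz
    have hs2 : CfsgLib.KnownB.SzElem.Twist F (2 ^ (m + 1)) := CfsgLib.KnownB.SzElem.twist_of_card hF
    obtain ⟨γ, hγ, -⟩ := exists_inner hm hF φ hK hKS
    obtain ⟨j, hj⟩ := hK ⟨k, hk⟩
    have hq := (hKS hk).1 p hpN
    have hsq : ∀ {c : G} (hc : c ∈ Nbr D e),
        φ (proj0 _ (el hc)) * φ (proj0 _ (el hc)) = 1 := fun hc => by
      rw [← map_mul, ← map_mul, show el hc * el hc = (1 : ↥(Subgroup.closure (Nbr D e))) from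
        Subtype.ext (sq_one hyp.odd.1 hc.1), map_one, map_one]
    have hkd : Commute (γ ⟨k, hk⟩) (φ (proj0 _ (el hdN))) := by
      refine mul_inv_eq_iff_eq_mul.1 ((hγ ⟨k, hk⟩ (el hdN)).symm.trans ?_)
      exact congrArg (fun z => φ (proj0 _ z))
        (Subtype.ext (show k * d * k⁻¹ = d by rw [(hKd k hk).eq, mul_inv_cancel_right]))
    have hkp := SzTwo.commute_of_commute hs2 (hsq hdN)
      (fun h => hloc.proj0_ne_one hyp.odd hdN (φ.injective (h.trans (map_one φ).symm))) (hsq hpN)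
      (((hloc.commute_proj0_iff hyp.odd hdN hpN).2 (hps.commute hdN)).map φ.toMonoidHom) (k := j)
      (by rw [← map_pow, hj, map_one]) hkd
    have he0 : proj0 _ (el hq) = proj0 _ (el hpN) := by
      refine φ.injective ?_
      rw [show el hq = (⟨k * p * k⁻¹, conj_mem_closure (hKS hk) (el hpN).2⟩ :
        ↥(Subgroup.closure (Nbr D e))) from rfl]
      refine (hγ ⟨k, hk⟩ (el hpN)).trans ?_
      rw [hkp.eq, mul_inv_cancel_right]
    have hcd : Commute (k * p * k⁻¹) d := by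
      have h := (hps.commute hdN).symm.conj k
      rwa [(hKd k hk).eq, mul_inv_cancel_right] at h
    have hcp := hct e he _ hq d hdN p hpN hcd (hps.commute hdN)
    have hfib := (hloc.mem_fiber hyp.odd hq hpN).2 (hloc.eq_of_proj0 hyp.odd hq hpN hcp he0)
    obtain ⟨r, hr⟩ := Set.ncard_eq_one.1
      ((hloc.ncard_fiber_eq hyp.odd hdN hq).trans (hi.trans (pow_zero 2)))
    exact mul_inv_eq_iff_eq_mul.1
      ((hr.subset (hloc.self_mem_fiber hyp.odd hq)).trans (hr.subset hfib).symm)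
  · have hinv : ∀ k ∈ K, ∀ q ∈ fiber (Nbr D e) d, k * q * k⁻¹ ∈ fiber (Nbr D e) d := by
      rintro k hk q ⟨hqN, hq⟩
      refine ⟨(hKS hk).1 q hqN, ?_⟩
      have h := conj_coreOf (hKS hk).1 (hKS hk).2 hq
      rwa [show k * (d * q) * k⁻¹ = k * d * k⁻¹ * (k * q * k⁻¹) by group, (hKd k hk).eq,
        mul_inv_cancel_right] at h
    letI : MulAction ↥K ↥(fiber (Nbr D e) d) :=
      { smul := fun k q => ⟨(k : G) * q * (k : G)⁻¹, hinv k k.2 q q.2⟩
        one_smul := fun q => Subtype.ext (by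
          show ((1 : ↥K) : G) * q * ((1 : ↥K) : G)⁻¹ = q
          simp)
        mul_smul := fun k l q => Subtype.ext (by
          show ((k * l : ↥K) : G) * q * ((k * l : ↥K) : G)⁻¹ = k * (l * q * (l : G)⁻¹) * (k : G)⁻¹
          simp [mul_assoc]) }
    have hmod := hK.card_modEq_card_fixedPoints (α := ↥(fiber (Nbr D e) d))
    obtain ⟨i', rfl⟩ : ∃ i', i = i' + 1 := ⟨i - 1, by omega⟩
    rw [Nat.card_coe_set_eq (fiber (Nbr D e) d), hi] at hmod
    set d' : ↥(fiber (Nbr D e) d) := ⟨d, hloc.self_mem_fiber hyp.odd hdN⟩ with hd'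
    have hd'fix : d' ∈ MulAction.fixedPoints ↥K ↥(fiber (Nbr D e) d) := fun k =>
      Subtype.ext (show (k : G) * d * (k : G)⁻¹ = d by rw [(hKd k k.2).eq, mul_inv_cancel_right])
    obtain ⟨q, hq, hne⟩ : ∃ q ∈ MulAction.fixedPoints ↥K ↥(fiber (Nbr D e) d), q ≠ d' := by
      by_contra hcon
      push Not at hcon
      rw [Nat.card_coe_set_eq, show MulAction.fixedPoints ↥K ↥(fiber (Nbr D e) d) = {d'} from
        Set.Subset.antisymm (fun z hz => hcon z hz) (Set.singleton_subset_iff.2 hd'fix),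
        Set.ncard_singleton, Nat.ModEq, pow_succ, Nat.mul_mod_left] at hmod
      exact absurd hmod (by norm_num)
    have hsame := hloc.same_of_rel hyp.odd hdN q.2.1 q.2.2
    refine ⟨q, q.2.1, hsame, fun hs => hne (Subtype.ext ?_),
      fun k hk => mul_inv_eq_iff_eq_mul.1 (congrArg Subtype.val (hq ⟨k, hk⟩))⟩
    exact (hyp.eq_of_fixed hyp.below hd ⟨hd, rfl⟩ ⟨q.2.1.1, hs⟩ hx hdx
      (hloc.rel_of_mem_core hyp.odd hxN q.2.2).1).symm

/-- No pair is bad. -/
theorem Hyp.not_bad_step (ihB : FlatBelow.{u} (Nat.card G)) {d x : G} (hd : d ∈ D) (hx : x ∈ D)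
    (hdx : ¬ Commute d x) : ¬ Bad D d x := by
  intro hb
  obtain ⟨e, he, e', he', hed, hex, he'd, he'x, hee⟩ := hyp.good.common d x hd hx hdx
  have hall : ∀ c ∈ D, CommTrans (Nbr D c) ∧ Lie.IsoSuzuki (Quot0 (Nbr D c)) := by
    intro c hc
    obtain ⟨w, rfl⟩ := isConj_iff.1 (hyp.class' e he c hc)
    exact hyp.type_of_bad ihB (hyp.odd.1.conj_mem d hd w) (hyp.odd.1.conj_mem x hx w)
      (fun h => hdx (by simpa [mul_assoc] using h.conj w⁻¹)) hc (hed.conj w) (hex.conj w)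
      (hb.conj hyp.odd.1 w)
  obtain ⟨P, hP, hPX, hPd, g₁, hg₁, g₂, hg₂, g₃, hg₃, g₄, hg₄, hga⟩ :=
    hyp.exists_sylow_data hd hx hdx hb
  obtain ⟨P', hP', hPY, hPe, h₁, hh₁, h₂, hh₂, h₃, hh₃, h₄, hh₄, hhb⟩ :=
    hyp.exists_sylow_data he he' hee
      (hyp.bad_opposite ihB hd hx hdx he he' hee hed hex he'd he'x hb)
  have hXY : ∀ g ∈ pairGroup D d x, ∀ h ∈ pairGroup D e e', Commute g h := by
    intro g hg h hh
    have hle : pairGroup D d x ≤ Subgroup.centralizer ({h} : Set G) := by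
      rw [Subgroup.closure_le]
      rintro y (hy | hy)
      · exact Subgroup.mem_centralizer_singleton_iff.2 (pairGroup_commute hy.1
          ((Same.iff hy.2 he).1 hed).symm ((Same.iff hy.2 he').1 he'd).symm hh).symm.eq
      · exact Subgroup.mem_centralizer_singleton_iff.2 (Set.mem_singleton_iff.1 hy ▸
          (pairGroup_commute hx hex.symm he'x.symm hh).symm).eq
    exact Subgroup.mem_centralizer_singleton_iff.1 (hle hg)
  have hPP : P' ≤ Subgroup.normalizer (P : Set G) := fun h hh => by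
    rw [Subgroup.mem_normalizer_iff]
    refine fun g => ⟨fun hg => ?_, fun hg => ?_⟩
    · rwa [← (hXY g (hPX hg) h (hPY hh)).eq, mul_inv_cancel_right]
    · have h1 : Commute (h * g * h⁻¹) h := hXY _ (hPX hg) h (hPY hh)
      rwa [show g = h * g * h⁻¹ from
        calc g = h⁻¹ * (h * g * h⁻¹ * h) := by group
          _ = h⁻¹ * (h * (h * g * h⁻¹)) := by rw [h1.eq]
          _ = h * g * h⁻¹ := by group]
  set K := P ⊔ P' with hK
  have hK2 : IsPGroup 2 ↥K := hP.to_sup_of_normal_left' hP' hPP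
  have hKd : ∀ k ∈ K, Commute k d := by
    intro k hk
    have hle : K ≤ Subgroup.centralizer ({d} : Set G) := sup_le
      (fun g hg => Subgroup.mem_centralizer_singleton_iff.2 (hPd g hg).eq)
      fun g hg => Subgroup.mem_centralizer_singleton_iff.2
        (pairGroup_commute hd hed.symm he'd.symm (hPY hg)).eq
    exact Subgroup.mem_centralizer_singleton_iff.1 (hle hk)
  have hKe : ∀ k ∈ K, Commute k e := by
    intro k hk
    have hle : K ≤ Subgroup.centralizer ({e} : Set G) := sup_le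
      (fun g hg => Subgroup.mem_centralizer_singleton_iff.2 (pairGroup_commute he hed hex (hPX hg)).eq)
      fun g hg => Subgroup.mem_centralizer_singleton_iff.2 (hPe g hg).eq
    exact Subgroup.mem_centralizer_singleton_iff.1 (hle hk)
  obtain ⟨p, hpN, hps, hpn, hKp⟩ :=
    hyp.exists_fixed (fun c hc => (hall c hc).1) hd hx hdx he hed hex (hall e he).2 hK2 hKd hKe
  have hdN := (hyp.mem_nbr_of_common hd hx hdx he hed hex).2 d ⟨hd, rfl⟩
  have hdp : Commute d p := hps.commute hdN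
  have hNp : ∀ {c a : G}, c ∈ D → Commute c p → ¬ Same D c p → a ∈ sameCommutingClass D c →
      a ∈ Nbr D p := fun {c a} hc hcp hn ha =>
    ⟨ha.1, ((Same.iff ha.2 hpN.1).1 hcp.symm).symm, fun hs => hn (Eq.trans ha.2 hs)⟩
  have hEd : ∀ a ∈ sameCommutingClass D d, a ∈ Nbr D p := fun a ha => hNp hd hdp hpn ha
  have hEe : ∀ a ∈ sameCommutingClass D e, a ∈ Nbr D p := fun a ha =>
    hNp he hpN.2.1.symm (fun hs => hpN.2.2 hs.symm) ha
  obtain ⟨F, iF, iF', m, hm, hF, ⟨φ⟩⟩ := (hall p hpN.1).2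
  have hlp := hyp.nbr_local hyp.below hpN.1 (hEd d ⟨hd, rfl⟩)
  obtain ⟨γ, -, hγ⟩ := exists_inner hm hF φ hK2 (fun k hk => mem_stab_nbr hyp.odd.1 (hKp k hk))
  -- one of two commutators is not killed
  have hpair : ∀ {a : G} {u v u' v' : ↥K}, a ∈ Nbr D p →
      ((⁅u', v'⁆ * ⁅u, v⁆⁻¹ : ↥K) : G) = a →
      (¬ Commute (γ u) (γ v)) ∨ ¬ Commute (γ u') (γ v') := by
    intro a u v u' v' ha hae
    by_contra hcon
    push Not at hcon
    refine hlp.proj0_ne_one hyp.odd ha (φ.injective ?_)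
    have hmem : ((⁅u', v'⁆ * ⁅u, v⁆⁻¹ : ↥K) : G) ∈ Subgroup.closure (Nbr D p) :=
      hae ▸ Subgroup.subset_closure ha
    rw [map_one, ← show (⟨_, hmem⟩ : ↥(Subgroup.closure (Nbr D p))) = el ha from Subtype.ext hae,
      ← hγ _ hmem, map_mul, map_inv, map_commutatorElement, map_commutatorElement,
      commutatorElement_eq_one_iff_mul_comm.2 hcon.1.eq,
      commutatorElement_eq_one_iff_mul_comm.2 hcon.2.eq, inv_one, mul_one]
  have hPK : P ≤ K := le_sup_left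
  have hPK' : P' ≤ K := le_sup_right
  obtain ⟨u, hu, v, hv, huv⟩ : ∃ u : ↥K, (u : G) ∈ P ∧ ∃ v : ↥K, (v : G) ∈ P ∧
      ¬ Commute (γ u) (γ v) := by
    rcases hpair (u := ⟨g₁, hPK hg₁⟩) (v := ⟨g₂, hPK hg₂⟩) (u' := ⟨g₃, hPK hg₃⟩)
      (v' := ⟨g₄, hPK hg₄⟩) (hEd _ hga) (by simp [commutatorElement_def]) with h | h
    · exact ⟨_, hg₁, _, hg₂, h⟩
    · exact ⟨_, hg₃, _, hg₄, h⟩
  obtain ⟨u', hu', v', hv', huv'⟩ : ∃ u : ↥K, (u : G) ∈ P' ∧ ∃ v : ↥K, (v : G) ∈ P' ∧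
      ¬ Commute (γ u) (γ v) := by
    rcases hpair (u := ⟨h₁, hPK' hh₁⟩) (v := ⟨h₂, hPK' hh₂⟩) (u' := ⟨h₃, hPK' hh₃⟩)
      (v' := ⟨h₄, hPK' hh₄⟩) (hEe _ hhb) (by simp [commutatorElement_def]) with h | h
    · exact ⟨_, hh₁, _, hh₂, h⟩
    · exact ⟨_, hh₃, _, hh₄, h⟩
  have hcr : ∀ {w z : ↥K}, (w : G) ∈ P → (z : G) ∈ P' → Commute (γ w) (γ z) := fun {w z} hw hz =>
    (show Commute w z from Subtype.ext (hXY _ (hPX hw) _ (hPY hz)).eq).map γ
  exact SzTwo.not_two_pairs (CfsgLib.KnownB.SzElem.twist_of_card hF)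
    (hK2.of_surjective γ.rangeRestrict γ.rangeRestrict_surjective)
    ⟨u, rfl⟩ ⟨v, rfl⟩ ⟨u', rfl⟩ ⟨v', rfl⟩ (hcr hu hu') (hcr hv hu') huv huv'

omit hyp in
theorem flat_of_hyp : ∀ (n : ℕ) (X : Type u) [Group X] [Finite X] (E : Set X),
    Nat.card X < n → Hyp E → ∀ a b, a ∈ E → b ∈ E → ¬ Commute a b → ¬ Bad E a b := by
  intro n
  induction n with
  | zero => exact fun X _ _ E h => absurd h (Nat.not_lt_zero _)
  | succ n ihn =>
    intro X _ _ E hlt hE a b ha hb hab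
    exact hE.not_bad_step (fun Y _ _ F hF => ihn Y F (by omega)) ha hb hab

theorem Hyp.not_bad {d x : G} (hd : d ∈ D) (hx : x ∈ D) (hdx : ¬ Commute d x) : ¬ Bad D d x :=
  flat_of_hyp _ G D (Nat.lt_succ_self _) hyp d x hd hx hdx

end CfsgLib.Perm.OddConnected
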