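import Cfsg.Agent.Lib.Perm.OddConnected.Neighbours
import Cfsg.Agent.Lib.Perm.OddTransposition.Line

/-!
# A product fixing one class fixes every neighbourhood

If the product `u` of two members of the class of `d` fixes the class of one member not commuting
with `d`, then it moves the members commuting with any neighbour of `d` only to members commuting
with them.
-/

set_option autoImplicit false
set_option linter.style.haveILetI false

namespace CfsgLib.Perm.OddConnected

open Cfsg CfsgLib.Perm.RootInvolution CfsgLib.Perm.OddTransposition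

universe u

variable {G : Type u} [Group G] [Finite G] {D : Set G}

/-- `u` moves every neighbour of `c` to a member commuting with it. -/
def Quiet (D : Set G) (u c : G) : Prop :=
  ∀ f ∈ D, Commute f c → Commute (u * f * u⁻¹) f

variable (hyp : Hyp D)
include hyp

theorem Hyp.quiet_of_fixed (ih : GoodBelow.{u} (Nat.card G)) {d a b c f : G} (hd : d ∈ D)
    (ha : a ∈ sameCommutingClass D d) (hb : b ∈ sameCommutingClass D d) (hc : c ∈ Nbr D d)
    (hf : f ∈ D) (hfc : Commute f c) (hfd : ¬ Commute f d)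
    (hfix : Commute (a * b * f * (a * b)⁻¹) f) : Quiet D (a * b) c := by
  have hmemd : ∀ e ∈ sameCommutingClass D d, e ∈ Nbr D c := fun e he =>
    ⟨he.1, (Same.iff he.2 hc.1).1 hc.2.1 |>.symm,
      fun hs => hc.2.2 (he.2.trans hs : Same D d c).symm⟩
  have hdN : d ∈ Nbr D c := hmemd d ⟨hd, rfl⟩
  have hfN : f ∈ Nbr D c := ⟨hf, hfc, fun hs => hfd ((hs.iff hd).2 hdN.2.1).symm⟩
  have hloc := hyp.nbr_local ih hc.1 hdN
  have hsame : Same (Nbr D c) a b := same_iff.2 fun g hg =>
    ((Same.iff ha.2 hg.1).symm.trans (Same.iff hb.2 hg.1))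
  have hu := hloc.mem_core_of_fixed hyp.odd ih (hmemd a ha) (hmemd b hb) hfN hsame
    (fun e => hfd ((Same.iff ha.2 hf).2 e)) hfix
  intro p hp hpc
  by_cases hs : Same D p c
  · have hpd : Commute p d := ((hs.iff hd).2 hdN.2.1).symm
    have h1 : Commute (a * b) p :=
      ((Same.iff ha.2 hp).1 hpd).symm.mul_left ((Same.iff hb.2 hp).1 hpd).symm
    rw [h1.eq, mul_inv_cancel_right]
  · exact (hloc.rel_of_mem_core hyp.odd ⟨hp, hpc, hs⟩ hu).1

theorem Hyp.quiet_spread (ih : GoodBelow.{u} (Nat.card G)) {d u c : G} (hd : d ∈ D)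
    (hu : ∀ m ∈ D, Commute m d → Commute u m) (hc : c ∈ Nbr D d) (hq : Quiet D u c) :
    ∀ c' ∈ Nbr D d, Quiet D u c' := by
  intro c' hc'
  have hchain := hyp.nbr_linked ih hd c hc c' hc'
  clear hc'
  induction hchain with
  | refl => exact hq
  | @tail p q _ hpq ihq =>
    obtain ⟨m, hm, hmx, -⟩ := exists_middle_in hyp.odd nbr_subset (nbr_inv hyp.odd.1) hpq.1
      hpq.2.1 hpq.2.2
    intro f hf hfq
    have hf' : m⁻¹ * f * m ∈ D := by simpa using hyp.odd.1.conj_mem f hf m⁻¹
    have h1 : Commute (m⁻¹ * f * m) p := by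
      have := hfq.conj m⁻¹
      rw [← hmx] at this
      simpa [mul_assoc] using this
    have h2 := (ihq _ hf' h1).conj m
    have hum : Commute u m := hu m hm.1 hm.2.1
    rwa [show m * (u * (m⁻¹ * f * m) * u⁻¹) * m⁻¹ = u * f * u⁻¹ by
      rw [show m * (u * (m⁻¹ * f * m) * u⁻¹) * m⁻¹ = (m * u * m⁻¹) * f * (m * u * m⁻¹)⁻¹ by group,
        hum.symm.eq, mul_inv_cancel_right],
      show m * (m⁻¹ * f * m) * m⁻¹ = f by group] at h2

/-- A product fixing some class moves all second neighbours to commuting members. -/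
theorem Hyp.quiet_all (ih : GoodBelow.{u} (Nat.card G)) {d a b x : G} (hd : d ∈ D)
    (ha : a ∈ sameCommutingClass D d) (hb : b ∈ sameCommutingClass D d) (hne : a ≠ b) (hx : x ∈ D)
    (hdx : ¬ Commute d x) (hfix : Commute (a * b * x * (a * b)⁻¹) x) :
    ∀ c ∈ Nbr D d, Quiet D (a * b) c := by
  have hu : ∀ m ∈ D, Commute m d → Commute (a * b) m := fun m hm hmd =>
    ((Same.iff ha.2 hm).1 hmd).symm.mul_left ((Same.iff hb.2 hm).1 hmd).symm
  suffices key : ∀ p, Relation.ReflTransGen (CommAdj D) d p → ¬ Commute p d →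
      Commute (a * b * p * (a * b)⁻¹) p → ∃ c ∈ Nbr D d, Quiet D (a * b) c by
    obtain ⟨c, hc, hq⟩ := key x (hyp.conn d hd x hx) (fun e => hdx e.symm) hfix
    exact hyp.quiet_spread ih hd hu hc hq
  intro p hp
  induction hp with
  | refl => exact fun h => absurd (Commute.refl d) h
  | @tail r p _ hrp ihp =>
    intro hpd hfp
    obtain ⟨hr, hp, -, hrpc⟩ := hrp
    have hrp' : Commute r p := hrpc
    have hNbr : ∀ n ∈ D, Commute n d → Commute p n → n ∈ Nbr D d := fun n hn hnd hpn =>
      ⟨hn, hnd, fun e => hpd ((e.iff hp).1 hpn)⟩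
    by_cases hrd : Commute r d
    · have hrN := hNbr r hr hrd hrp'.symm
      exact ⟨r, hrN, hyp.quiet_of_fixed ih hd ha hb hrN hp hrp'.symm hpd hfp⟩
    · by_cases hru : Commute (a * b * r * (a * b)⁻¹) r
      · exact ihp hrd hru
      have hu2 : a * b * (a * b) = 1 := by
        rw [(class_commute ha hb).symm.mul_mul_mul_comm, sq_one hyp.odd.1 ha.1,
          sq_one hyp.odd.1 hb.1, one_mul]
      have hr' := hyp.odd.1.conj_mem r hr (a * b)
      obtain ⟨n, hn, -, -, hc, hsw⟩ :=
        exists_middle hyp.odd hr hr' fun e => hru e.symm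
      have hund : Commute n d := (commute_mul_iff hyp.odd ha hb hne hn).1 (hsw _ hu2 rfl).symm
      have hpn : Commute p n := by
        refine hc p hrp'.symm ?_
        have hfx : Fixes D (a * b) p := fixes_of_commute hyp.odd hd hp (fun e => hpd e.symm) ha hb
          hfp.symm
        refine ((hfx.iff hr').1 ?_).symm
        exact hrp'.conj (a * b)
      have hnN := hNbr n hn hund hpn
      exact ⟨n, hnN, hyp.quiet_of_fixed ih hd ha hb hnN hp hpn hpd hfp⟩

end CfsgLib.Perm.OddConnected
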