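import Cfsg.Agent.Lib.Classical.SL2Sylow

/-!
# `L₂(q)` in characteristic two

The centre of `SL₂` is trivial, the 2-elements square to `1`, the centraliser of an involution is
the unitriangular group and the involutions are conjugate.
-/

set_option autoImplicit false
set_option linter.style.haveILetI false

namespace CfsgLib.Perm.OddConnected.LTwo

open Matrix CfsgLib.Classical
open scoped MatrixGroups Pointwise

variable {F : Type*} [Field F] [Fintype F] [CharP F 2]

/-- A matrix of determinant one. -/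
def mk2 (a b c d : F) (h : a * d - b * c = 1) : SL(2, F) :=
  ⟨!![a, b; c, d], by rw [Matrix.det_fin_two]; simpa using h⟩

omit [Fintype F] [CharP F 2] in
theorem coe_mk2 (a b c d : F) (h : a * d - b * c = 1) :
    (mk2 a b c d h : Matrix (Fin 2) (Fin 2) F) = !![a, b; c, d] := rfl

theorem exists_equiv :
    Nonempty (Matrix.ProjectiveSpecialLinearGroup (Fin 2) F ≃* SL(2, F)) := by
  have h : Subgroup.center SL(2, F) = ⊥ := by
    refine (Subgroup.eq_bot_iff_forall _).2 fun z hz => ?_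
    obtain ⟨r, hr, hrz⟩ := Matrix.SpecialLinearGroup.mem_center_iff.1 hz
    have hr1 : r = 1 := by
      rw [Fintype.card_fin, pow_two] at hr
      have h2 : (r + 1) * (r + 1) = 0 := by
        linear_combination hr + (r + 1) * CharTwo.two_eq_zero (R := F)
      linear_combination mul_self_eq_zero.1 h2 - CharTwo.two_eq_zero (R := F)
    refine Subtype.ext ?_
    rw [← hrz, hr1, map_one]
    rfl
  exact ⟨(QuotientGroup.quotientMulEquivOfEq h).trans QuotientGroup.quotientBot⟩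

omit [Fintype F] [CharP F 2] in
theorem mem_u_iff {g : SL(2, F)} :
    g ∈ unipSL F ↔ ∃ c, uSL (Multiplicative.ofAdd c) = g :=
  ⟨fun ⟨c, hc⟩ => ⟨c.toAdd, hc⟩, fun ⟨c, hc⟩ => ⟨_, hc⟩⟩

omit [Fintype F] in
theorem u_sq {g : SL(2, F)} (hg : g ∈ unipSL F) : g * g = 1 := by
  obtain ⟨c, rfl⟩ := mem_u_iff.1 hg
  rw [← map_mul, ← ofAdd_add, CharTwo.add_self_eq_zero, ofAdd_zero, map_one]

omit [Fintype F] [CharP F 2] in
theorem u_commute {g k : SL(2, F)} (hg : g ∈ unipSL F) (hk : k ∈ unipSL F) : Commute g k := by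
  obtain ⟨c, rfl⟩ := mem_u_iff.1 hg
  obtain ⟨d, rfl⟩ := mem_u_iff.1 hk
  exact (Commute.all _ _).map _

theorem exists_conj_u {g : SL(2, F)} {k : ℕ} (hk : g ^ 2 ^ k = 1) :
    ∃ x : SL(2, F), x * g * x⁻¹ ∈ unipSL F := by
  haveI : Fact (Nat.Prime 2) := ⟨Nat.prime_two⟩
  have hP : IsPGroup 2 ↥(Subgroup.zpowers g) := by
    obtain ⟨j, -, hj⟩ := (Nat.dvd_prime_pow Nat.prime_two).1 (orderOf_dvd_of_pow_eq_one hk)
    exact IsPGroup.of_card (n := j) (by rw [Nat.card_zpowers, hj])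
  obtain ⟨P, hP⟩ := hP.exists_le_sylow
  obtain ⟨x, hx⟩ := sylowSL2_exists_conj P
  have h := hP (Subgroup.mem_zpowers g)
  rw [hx, Subgroup.mem_pointwise_smul_iff_inv_smul_mem] at h
  refine ⟨x⁻¹, ?_⟩
  simpa [MulAut.smul_def, mul_assoc] using h

theorem sq_eq_one {g : SL(2, F)} {k : ℕ} (hk : g ^ 2 ^ k = 1) : g * g = 1 := by
  obtain ⟨x, hx⟩ := exists_conj_u hk
  have := u_sq hx
  rwa [show x * g * x⁻¹ * (x * g * x⁻¹) = x * (g * g) * x⁻¹ by group, conj_eq_one_iff] at this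

theorem exists_conj_ne {a : SL(2, F)} (ha : a * a = 1) (ha1 : a ≠ 1) :
    ∃ (x : SL(2, F)) (c : F), c ≠ 0 ∧ x * a * x⁻¹ = uSL (Multiplicative.ofAdd c) := by
  obtain ⟨x, hx⟩ := exists_conj_u (g := a) (k := 1) (by rw [pow_one, pow_two, ha])
  obtain ⟨c, hc⟩ := mem_u_iff.1 hx
  refine ⟨x, c, fun e => ha1 ?_, hc.symm⟩
  rw [e, ofAdd_zero, map_one] at hc
  exact conj_eq_one_iff.1 hc.symm

omit [Fintype F] in
theorem mem_u_of_commute {c : F} (hc : c ≠ 0) {g : SL(2, F)}
    (h : Commute g (uSL (Multiplicative.ofAdd c))) : g ∈ unipSL F := by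
  have h1 := congrArg Subtype.val h.eq
  simp only [Matrix.SpecialLinearGroup.coe_mul, uSL_coe] at h1
  have h00 := congrFun (congrFun h1 0) 0
  have h01 := congrFun (congrFun h1 0) 1
  simp [Matrix.mul_apply, Fin.sum_univ_two] at h00 h01
  set M : Matrix (Fin 2) (Fin 2) F := (g : Matrix (Fin 2) (Fin 2) F) with hM
  have hr : M 1 0 = 0 := h00.resolve_left hc
  have hps : M 0 0 = M 1 1 := mul_right_cancel₀ hc (by linear_combination h01)
  have hdet : M.det = 1 := g.2
  rw [Matrix.det_fin_two, hr, ← hps, mul_zero, sub_zero] at hdet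
  have h1' : M 0 0 = 1 := by
    have h2 : (M 0 0 + 1) * (M 0 0 + 1) = 0 := by
      linear_combination hdet + (M 0 0 + 1) * CharTwo.two_eq_zero (R := F)
    linear_combination mul_self_eq_zero.1 h2 - CharTwo.two_eq_zero (R := F)
  refine mem_u_iff.2 ⟨M 0 1, Subtype.ext ?_⟩
  rw [uSL_coe, ← hM]
  ext i j
  fin_cases i <;> fin_cases j <;> simp [hr, ← hps, h1']

theorem isConj_u {c d : F} (hc : c ≠ 0) (hd : d ≠ 0) :
    IsConj (uSL (Multiplicative.ofAdd c)) (uSL (Multiplicative.ofAdd d)) := by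
  obtain ⟨s, hs⟩ : ∃ s : F, s * s = d / c := by
    obtain ⟨s, hs⟩ := FiniteField.isSquare_of_char_two
      (ringChar.eq F 2 : ringChar F = 2) (d / c)
    exact ⟨s, hs.symm⟩
  have hs0 : s ≠ 0 := by
    rintro rfl
    rw [mul_zero] at hs
    exact div_ne_zero hd hc hs.symm
  refine isConj_iff.2 ⟨mk2 s 0 0 s⁻¹ (by simp [hs0]), ?_⟩
  rw [mul_inv_eq_iff_eq_mul]
  refine Subtype.ext ?_
  simp only [Matrix.SpecialLinearGroup.coe_mul, uSL_coe, coe_mk2]
  ext i j
  fin_cases i <;> fin_cases j <;> simp [Matrix.mul_apply, Fin.sum_univ_two]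
  field_simp
  field_simp at hs
  linear_combination hs

theorem isConj_of_invol {a b : SL(2, F)} (ha : a * a = 1) (ha1 : a ≠ 1) (hb : b * b = 1)
    (hb1 : b ≠ 1) : IsConj a b := by
  obtain ⟨x, c, hc, h1⟩ := exists_conj_ne ha ha1
  obtain ⟨y, d, hd, h2⟩ := exists_conj_ne hb hb1
  exact ((isConj_iff.2 ⟨x, h1⟩ : IsConj a _).trans (isConj_u hc hd)).trans
    (isConj_iff.2 ⟨y, h2⟩ : IsConj b _).symm

omit [Fintype F] in
theorem exists_three :
    ∃ a b : SL(2, F), a * a = 1 ∧ a ≠ 1 ∧ b * b = 1 ∧ b ≠ 1 ∧ ¬ Commute a b ∧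
      (a * b) ^ 3 = 1 := by
  refine ⟨mk2 1 1 0 1 (by simp), mk2 1 0 1 1 (by simp), ?_, fun h => ?_, ?_, fun h => ?_, fun h => ?_, ?_⟩
  · refine Subtype.ext ?_
    simp only [Matrix.SpecialLinearGroup.coe_mul, coe_mk2, Matrix.SpecialLinearGroup.coe_one]
    ext i j
    fin_cases i <;> fin_cases j <;> simp [Matrix.mul_apply, Fin.sum_univ_two, CharTwo.add_self_eq_zero]
  · simpa [coe_mk2] using congrFun (congrFun (congrArg Subtype.val h) 0) 1
  · refine Subtype.ext ?_
    simp only [Matrix.SpecialLinearGroup.coe_mul, coe_mk2, Matrix.SpecialLinearGroup.coe_one]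
    ext i j
    fin_cases i <;> fin_cases j <;> simp [Matrix.mul_apply, Fin.sum_univ_two, CharTwo.add_self_eq_zero]
  · simpa [coe_mk2] using congrFun (congrFun (congrArg Subtype.val h) 1) 0
  · have h1 := congrFun (congrFun (congrArg Subtype.val h.eq) 0) 0
    simp [coe_mk2, Matrix.mul_apply, Fin.sum_univ_two, CharTwo.add_self_eq_zero] at h1
  · refine Subtype.ext ?_
    simp only [Matrix.SpecialLinearGroup.coe_mul, Matrix.SpecialLinearGroup.coe_pow, coe_mk2,
      Matrix.SpecialLinearGroup.coe_one]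
    ext i j
    fin_cases i <;> fin_cases j <;>
      simp [pow_succ, Matrix.mul_apply, Fin.sum_univ_two, CharTwo.add_self_eq_zero]

theorem index_odd : Odd (unipSL F).index := by
  have h := (unipSL F).card_mul_index
  rw [card_sl2 rfl, card_unipSL, Nat.card_eq_fintype_card] at h
  rw [Nat.eq_of_mul_eq_mul_left Fintype.card_pos h]
  have h2 : 2 ∣ Fintype.card F := by
    obtain ⟨f, -, h⟩ := FiniteField.card F 2
    rw [h]
    exact dvd_pow_self 2 f.ne_zero
  obtain ⟨r, hr⟩ := h2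
  have h3 : Fintype.card F ^ 2 = 4 * r ^ 2 := by rw [hr]; ring
  have h4 : 0 < r ^ 2 := by
    have := Fintype.card_pos (α := F)
    have hr0 : 0 < r := by omega
    positivity
  exact ⟨2 * r ^ 2 - 1, by omega⟩

end CfsgLib.Perm.OddConnected.LTwo
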