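import Cfsg.Agent.Lib.Perm.OddConnected.Basic
import Cfsg.Agent.Lib.Perm.OddTransposition.Reduce
import Cfsg.Agent.Lib.LocalEven.RootReduction.Main
import Cfsg.Agent.Lib.LocalEven.RootReduction.Products
import Cfsg.Agent.Lib.LocalEven.RootReduction.Structure
import Cfsg.Agent.Lib.Components.SFT.Criterion

/-!
# Local subsets of a class of odd transpositions

A local subset is invariant under its members, connected by non-commuting pairs, contains a product
triple and generates a proper subgroup. Modulo the 2-core of that subgroup it is either a smaller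
instance of the connected case, or commutation is transitive on it.
-/

set_option autoImplicit false
set_option linter.style.haveILetI false

namespace CfsgLib.Perm.OddConnected

open Cfsg CfsgLib.Perm.RootInvolution CfsgLib.Perm.OddTransposition

universe u

variable {G : Type u} [Group G] {D : Set G}

/-- The standing hypothesis: a connected class of odd transpositions with a product triple. -/
structure Hyp (D : Set G) : Prop where
  odd : IsOddTranspositionSet D
  class' : ∀ a ∈ D, ∀ b ∈ D, IsConj a b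
  conn : IsConnectedSet (CommAdj D) D
  tri : ∃ a b, Tri D a b
  o2 : Cfsg.pCore 2 G = ⊥

/-- The neighbours of a member outside its class are joined by non-commuting pairs among them. -/
def Linked (S : Set G) : Prop :=
  ∀ d k k', d ∈ S → k ∈ S → k' ∈ S → Commute k d → Commute k' d → ¬ Same S k d → ¬ Same S k' d →
    Relation.ReflTransGen (NC {p | p ∈ S ∧ Commute p d}) k k'

/-- Two non-commuting members have two non-commuting common neighbours. -/
def Common (S : Set G) : Prop :=
  ∀ d x, d ∈ S → x ∈ S → ¬ Commute d x →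
    ∃ e ∈ S, ∃ e' ∈ S, Commute e d ∧ Commute e x ∧ Commute e' d ∧ Commute e' x ∧ ¬ Commute e e'

/-- The product of two members with the same neighbours is a member. -/
def MulMem (S : Set G) : Prop := ∀ a b, a ∈ S → b ∈ S → Same S a b → a ≠ b → a * b ∈ S

/-- The conclusion proved by induction. -/
structure Good (D : Set G) : Prop where
  linked : Linked D
  common : Common D
  mulMem : MulMem D

/-- The conclusion holds below a given order. -/
def GoodBelow (n : ℕ) : Prop :=
  ∀ (X : Type u) [Group X] [Finite X] (E : Set X), Nat.card X < n → Hyp E → Good E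

/-- Commutation is transitive on `S`. -/
def CommTrans (S : Set G) : Prop :=
  ∀ a ∈ S, ∀ b ∈ S, ∀ c ∈ S, Commute a b → Commute b c → Commute a c

theorem CommTrans.same {S : Set G} (h : CommTrans S) {a b : G} (ha : a ∈ S) (hb : b ∈ S)
    (hab : Commute a b) : Same S a b :=
  same_iff.2 fun f hf => ⟨fun hc => h f hf a ha b hb hc hab,
    fun hc => h f hf b hb a ha hc hab.symm⟩

/-- The data of a local subset. -/
structure Local (D S : Set G) : Prop where
  subset : S ⊆ D
  conj : ∀ g ∈ S, ∀ a ∈ S, g * a * g⁻¹ ∈ S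
  linked : ∀ a ∈ S, ∀ b ∈ S, Relation.ReflTransGen (NC S) a b
  tri : ∃ a b, Tri S a b
  proper : Subgroup.closure S ≠ ⊤

/-- The 2-core of the group generated by `S`. -/
def coreOf (S : Set G) : Subgroup G :=
  (Cfsg.pCore 2 ↥(Subgroup.closure S)).map (Subgroup.closure S).subtype

/-- The quotient of the group generated by `S` by its 2-core. -/
abbrev Quot' (S : Set G) : Type u :=
  ↥(Subgroup.closure S) ⧸ Cfsg.pCore 2 ↥(Subgroup.closure S)

/-- The projection to the quotient. -/
def proj (S : Set G) : ↥(Subgroup.closure S) →* Quot' S := QuotientGroup.mk' _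

/-- The members of `S` inside the group they generate. -/
def lift (S : Set G) : Set ↥(Subgroup.closure S) := {x | (x : G) ∈ S}

/-- The image of `S` in the quotient. -/
def img (S : Set G) : Set (Quot' S) := proj S '' lift S

/-- A member of `S` as an element of the group generated by `S`. -/
def el {S : Set G} {a : G} (ha : a ∈ S) : ↥(Subgroup.closure S) :=
  ⟨a, Subgroup.subset_closure ha⟩

theorem el_mem {S : Set G} {a : G} (ha : a ∈ S) : proj S (el ha) ∈ img S := ⟨el ha, ha, rfl⟩

theorem proj_surjective (S : Set G) : Function.Surjective (proj S) :=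
  QuotientGroup.mk'_surjective _

theorem proj_eq_one_iff {S : Set G} {x : ↥(Subgroup.closure S)} :
    proj S x = 1 ↔ (x : G) ∈ coreOf S := by
  rw [proj, QuotientGroup.mk'_apply, QuotientGroup.eq_one_iff, coreOf]
  refine ⟨fun h => ⟨x, h, rfl⟩, ?_⟩
  rintro ⟨y, hy, e⟩
  rwa [Subtype.ext (show (y : G) = x from e)] at hy

theorem proj_eq_iff {S : Set G} {x y : ↥(Subgroup.closure S)} :
    proj S x = proj S y ↔ ((x : G))⁻¹ * y ∈ coreOf S := by
  rw [← inv_mul_eq_one, ← map_inv, ← map_mul, proj_eq_one_iff]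
  simp

theorem isPGroup_coreOf [Finite G] (S : Set G) : IsPGroup 2 ↥(coreOf S) := by
  haveI : Fact (Nat.Prime 2) := ⟨Nat.prime_two⟩
  exact (Solvable.Cores.isPGroup_pCore 2).map _

theorem ker_isPGroup [Finite G] (S : Set G) : IsPGroup 2 ↥(proj S).ker := by
  haveI : Fact (Nat.Prime 2) := ⟨Nat.prime_two⟩
  rw [proj, QuotientGroup.ker_mk']
  exact Solvable.Cores.isPGroup_pCore 2

theorem card_quot_lt [Finite G] {S : Set G} (h : Subgroup.closure S ≠ ⊤) :
    Nat.card (Quot' S) < Nat.card G := by
  refine lt_of_le_of_lt (Nat.card_le_card_of_surjective _ (proj_surjective S)) ?_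
  refine lt_of_le_of_ne (Nat.card_le_card_of_injective _ (Subgroup.closure S).subtype_injective)
    fun e => h (Subgroup.eq_top_of_card_eq _ e)

theorem tri_mem {S : Set G} {a b : G} (h : Tri S a b) : a ∈ S ∧ b ∈ S ∧ a * b ∈ S :=
  ⟨h.left, h.right, h.mem⟩

namespace Local

variable {S : Set G} (h : Local D S) (hD : IsOddTranspositionSet D)
include h hD

theorem exists_nc {s : G} (hs : s ∈ S) : ∃ e ∈ S, ¬ Commute s e := by
  by_contra hcon
  push Not at hcon
  have hall : ∀ e ∈ S, e = s := fun e he => by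
    rcases (h.linked s hs e he).cases_head with e' | ⟨r, hr, -⟩
    · exact e'.symm
    · exact absurd (hcon r hr.2.1) hr.2.2
  obtain ⟨a, b, hab⟩ := h.tri
  refine ne_one hD.1 (h.subset hab.mem) ?_
  rw [hall a hab.left, hall b hab.right, sq_one hD.1 (h.subset hs)]

theorem commute_of_rel [Finite G] {a b : G} (ha : a ∈ S) (hb : b ∈ S)
    (hc : a * b * (a * b) ∈ coreOf S) : Commute a b := by
  by_contra hnc
  obtain ⟨-, -, -, hodd⟩ := adj_of_not_commute hD (h.subset ha) (h.subset hb) hnc
  obtain ⟨k, hk⟩ := isPGroup_coreOf S ⟨_, hc⟩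
  have hk' : (a * b) ^ 2 ^ (k + 1) = 1 := by
    have := congrArg Subtype.val hk
    rw [pow_succ', pow_mul, pow_two]
    simpa using this
  have h1 : orderOf (a * b) = 1 := Nat.eq_one_of_dvd_coprimes
    (Nat.Coprime.pow_right (k + 1) (Nat.coprime_two_right.2 hodd)) dvd_rfl
    (orderOf_dvd_of_pow_eq_one hk')
  exact hnc (by
    rw [orderOf_eq_one_iff, mul_eq_one_iff_eq_inv, inv_eq hD.1 (h.subset hb)] at h1
    exact h1 ▸ Commute.refl b)

theorem commute_proj_iff [Finite G] {a b : G} (ha : a ∈ S) (hb : b ∈ S) :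
    Commute (proj S (el ha)) (proj S (el hb)) ↔ Commute a b := by
  refine ⟨fun hc => h.commute_of_rel hD ha hb ?_,
    fun hc => (show Commute (el ha) (el hb) from Subtype.ext hc).map _⟩
  have h1 : proj S (el ha * el hb * (el ha * el hb)) = 1 := by
    rw [map_mul, map_mul, hc.symm.mul_mul_mul_comm, ← map_mul, ← map_mul,
      show el ha * el ha = 1 from Subtype.ext (sq_one hD.1 (h.subset ha)),
      show el hb * el hb = 1 from Subtype.ext (sq_one hD.1 (h.subset hb)), map_one, one_mul]
  exact proj_eq_one_iff.1 h1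

theorem same_proj_iff [Finite G] {a b : G} (ha : a ∈ S) (hb : b ∈ S) :
    Same (img S) (proj S (el ha)) (proj S (el hb)) ↔ Same S a b := by
  constructor
  · intro hs
    refine same_iff.2 fun f hf => ?_
    rw [← h.commute_proj_iff hD hf ha, ← h.commute_proj_iff hD hf hb]
    exact hs.iff (el_mem hf)
  · intro hs
    refine same_iff.2 ?_
    rintro _ ⟨⟨f, hfc⟩, hf, rfl⟩
    exact (h.commute_proj_iff hD hf ha).trans ((hs.iff hf).trans (h.commute_proj_iff hD hf hb).symm)

theorem not_mem_core [Finite G] {s : G} (hs : s ∈ S) : s ∉ coreOf S := by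
  intro hc
  obtain ⟨e, he, hne⟩ := h.exists_nc hD hs
  refine hne ((h.commute_proj_iff hD hs he).1 ?_)
  rw [(proj_eq_one_iff (x := el hs)).2 hc]
  exact Commute.one_left _

theorem same_of_rel [Finite G] {a b : G} (ha : a ∈ S) (hb : b ∈ S) (hab : a * b ∈ coreOf S) :
    Same S a b := by
  rw [← h.same_proj_iff hD ha hb, (proj_eq_iff (x := el ha) (y := el hb)).2
    (show a⁻¹ * b ∈ coreOf S by rwa [inv_eq hD.1 (h.subset ha)])]
  exact Same.refl _ _

theorem rel_of_mem_core [Finite G] {v p : G} (hp : p ∈ S) (hv : v ∈ coreOf S) :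
    Commute (v * p * v⁻¹) p ∧ Same S (v * p * v⁻¹) p := by
  have hvH : v ∈ Subgroup.closure S := Subgroup.map_subtype_le _ hv
  have hp' : v * p * v⁻¹ ∈ S := closure_normalises hD.1 h.subset h.conj hvH hp
  have e : proj S (el hp') = proj S (el hp) := by
    rw [show el hp' = ⟨v, hvH⟩ * el hp * ⟨v, hvH⟩⁻¹ from rfl, map_mul, map_mul, map_inv,
      (proj_eq_one_iff (x := ⟨v, hvH⟩)).2 hv, one_mul, inv_one, mul_one]
  exact ⟨(h.commute_proj_iff hD hp' hp).1 (e ▸ Commute.refl _),
    (h.same_proj_iff hD hp' hp).1 (e ▸ Same.refl _ _)⟩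

theorem odd_lift : IsOddTranspositionSet (lift S) := by
  have hcoe : ∀ a b : ↥(Subgroup.closure S), orderOf (a * b) = orderOf ((a : G) * b) := fun a b => by
    rw [← Subgroup.orderOf_coe, Subgroup.coe_mul]
  refine ⟨⟨fun y hy => by rw [← Subgroup.orderOf_coe]; exact hD.1.orderOf_eq _ (h.subset hy),
    Subgroup.closure_closure_coe_preimage, fun y hy g =>
      closure_normalises hD.1 h.subset h.conj g.2 hy, fun a ha b hb => ?_⟩, fun a ha b hb => ?_⟩
  · by_cases hc : Commute (a : G) (b : G)
    · exact Or.inl (Subtype.ext hc)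
    · refine Or.inr (Or.inl ?_)
      rw [hcoe]
      exact (adj_of_not_commute hD (h.subset ha) (h.subset hb) hc).2.2.2
  · rw [hcoe]; exact hD.2 _ (h.subset ha) _ (h.subset hb)

theorem odd_img [Finite G] : IsOddTranspositionSet (img S) := by
  refine isOddTranspositionSet_map (proj S) (ker_isPGroup S) (h.odd_lift hD) (proj_surjective S) ?_
  rintro ⟨a, hac⟩ ha e
  exact h.not_mem_core hD ha (proj_eq_one_iff.1 e)

theorem isConj_lift [Finite G] {a b : ↥(Subgroup.closure S)} (ha : a ∈ lift S) (hb : b ∈ lift S) :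
    IsConj a b := by
  have key : ∀ r, Relation.ReflTransGen (NC S) (a : G) r →
      ∃ g ∈ Subgroup.closure S, g * a * g⁻¹ = r := by
    intro r hr
    induction hr with
    | refl => exact ⟨1, one_mem _, by simp⟩
    | @tail p q _ hpq ih =>
      obtain ⟨g, hg, he⟩ := ih
      obtain ⟨m, hm, hmx, -, -, -⟩ := exists_middle_in hD h.subset h.conj hpq.1 hpq.2.1 hpq.2.2
      refine ⟨m * g, mul_mem (Subgroup.subset_closure hm) hg, ?_⟩
      rw [show m * g * (a : G) * (m * g)⁻¹ = m * (g * a * g⁻¹) * m⁻¹ by group, he, hmx]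
  obtain ⟨g, hg, he⟩ := key b (h.linked a ha b hb)
  exact isConj_iff.2 ⟨⟨g, hg⟩, Subtype.ext he⟩

theorem tri_img [Finite G] : ∃ a b, Tri (img S) a b := by
  obtain ⟨a, b, hab⟩ := h.tri
  exact ⟨proj S (el hab.left), proj S (el hab.right), el_mem hab.left, el_mem hab.right,
    (show Commute (el hab.left) (el hab.right) from Subtype.ext hab.comm).map _,
    by rw [← map_mul]; exact ⟨_, hab.mem, rfl⟩⟩

theorem hyp_img [Finite G] (hc : IsConnectedSet (CommAdj (lift S)) (lift S)) : Hyp (img S) := by
  refine ⟨h.odd_img hD, ?_, ?_, h.tri_img hD, Components.SFT.pCore_quotient_eq_bot 2 _⟩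
  · rintro _ ⟨a, ha, rfl⟩ _ ⟨b, hb, rfl⟩
    exact (proj S).map_isConj (h.isConj_lift hD ha hb)
  · rintro _ ⟨a, ha, rfl⟩ _ ⟨b, hb, rfl⟩
    have hr := hc a ha b hb
    clear hb
    induction hr with
    | refl => exact .refl
    | @tail p q _ hpq ih =>
      by_cases he : proj S p = proj S q
      · rw [← he]; exact ih
      · exact ih.tail ⟨⟨p, hpq.1, rfl⟩, ⟨q, hpq.2.1, rfl⟩, he,
          ((show Commute p q from hpq.2.2.2).map _).eq⟩

theorem good_img [Finite G] (ih : GoodBelow.{u} (Nat.card G))
    (hc : IsConnectedSet (CommAdj (lift S)) (lift S)) : Good (img S) :=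
  ih _ _ (card_quot_lt h.proper) (h.hyp_img hD hc)

theorem exists_setup [Finite G] (hc : ¬ IsConnectedSet (CommAdj (lift S)) (lift S)) :
    ∃ R, LocalEven.RootReduction.Setup (img S) R := by
  refine LocalEven.RootReduction.exists_setup_quotient (h.odd_lift hD).1 ?_ hc
  obtain ⟨a, b, hab⟩ := h.tri
  refine ⟨el hab.left * el hab.right, hab.mem, el hab.left, hab.left, el hab.right, hab.right,
    Subtype.ext hab.comm, fun e => ?_, rfl⟩
  exact ne_one hD.1 (h.subset hab.mem) (congrArg Subtype.val e)

/-- Either the two properties are inherited, or commutation is transitive. -/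
theorem dich [Finite G] (ih : GoodBelow.{u} (Nat.card G)) :
    CommTrans S ∨ (Linked S ∧ Common S) := by
  by_cases hc : IsConnectedSet (CommAdj (lift S)) (lift S)
  · have hg := h.good_img hD ih hc
    refine Or.inr ⟨fun d k k' hd hk hk' hkd hk'd hn hn' => ?_, fun d x hd hx hdx => ?_⟩
    · have hr := hg.linked _ _ _ (el_mem hd) (el_mem hk) (el_mem hk')
        ((h.commute_proj_iff hD hk hd).2 hkd) ((h.commute_proj_iff hD hk' hd).2 hk'd)
        (fun e => hn ((h.same_proj_iff hD hk hd).1 e))
        (fun e => hn' ((h.same_proj_iff hD hk' hd).1 e))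
      -- lift the chain
      have key : ∀ z, Relation.ReflTransGen (NC {p | p ∈ img S ∧ Commute p (proj S (el hd))})
          (proj S (el hk)) z → ∀ q (hq : q ∈ S), proj S (el hq) = z →
            Relation.ReflTransGen (NC {p | p ∈ S ∧ Commute p d}) k q ∨ Commute k q ∧
              proj S (el hk) = proj S (el hq) := by
        intro z hz
        induction hz with
        | refl =>
          intro q hq e
          exact Or.inr ⟨(h.commute_proj_iff hD hk hq).1 (e ▸ Commute.refl _), e.symm⟩
        | @tail y z _ hyz ih' =>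
          intro q hq e
          obtain ⟨⟨⟨⟨p, hpc⟩, hp, rfl⟩, hpd⟩, ⟨-, hzd⟩, hnc⟩ := hyz
          have hpd' : Commute p d := (h.commute_proj_iff hD hp hd).1 hpd
          have hqd' : Commute q d := (h.commute_proj_iff hD hq hd).1 (e ▸ hzd)
          have hpq : ¬ Commute p q := fun hc' =>
            hnc (e ▸ (h.commute_proj_iff hD hp hq).2 hc')
          rcases ih' p hp rfl with h1 | ⟨-, h1⟩
          · exact Or.inl (h1.tail ⟨⟨hp, hpd'⟩, ⟨hq, hqd'⟩, hpq⟩)
          · refine Or.inl (.single ⟨⟨hk, hkd⟩, ⟨hq, hqd'⟩, fun hc' => hnc ?_⟩)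
            show Commute (proj S (el hp)) z
            rw [← h1, ← e]
            exact (h.commute_proj_iff hD hk hq).2 hc'
      rcases key _ hr k' hk' rfl with h1 | ⟨-, h1⟩
      · exact h1
      · -- two members with the same image are joined through a third one
        have hsame : Same S k k' := (h.same_proj_iff hD hk hk').1 (h1 ▸ Same.refl _ _)
        obtain ⟨e, he, hce, hek⟩ : ∃ e ∈ S, Commute e d ∧ ¬ Commute e k := by
          by_contra hcon
          push Not at hcon
          refine hn ((same_of_subset hD h.subset (fun g hg a ha => h.conj g hg a ha) h.linked hd hk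
            fun f hf hfd => hcon f hf hfd)).symm
        exact (Relation.ReflTransGen.single ⟨⟨hk, hkd⟩, ⟨he, hce⟩, fun e' => hek e'.symm⟩).tail
          ⟨⟨he, hce⟩, ⟨hk', hk'd⟩, fun e' => hek ((hsame.iff he).2 e')⟩
    · obtain ⟨_, ⟨⟨e, hec⟩, he, rfl⟩, _, ⟨⟨e', hec'⟩, he', rfl⟩, h1, h2, h3, h4, h5⟩ :=
        hg.common _ _ (el_mem hd) (el_mem hx) (fun e => hdx ((h.commute_proj_iff hD hd hx).1 e))
      exact ⟨e, he, e', he', (h.commute_proj_iff hD he hd).1 h1, (h.commute_proj_iff hD he hx).1 h2,
        (h.commute_proj_iff hD he' hd).1 h3, (h.commute_proj_iff hD he' hx).1 h4,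
        fun hc' => h5 ((h.commute_proj_iff hD he he').2 hc')⟩
  · obtain ⟨R, hR⟩ := h.exists_setup hD hc
    refine Or.inl fun a ha b hb c hc' hab hbc => ?_
    refine (h.commute_proj_iff hD ha hc').1 (hR.commutes _ (el_mem ha) _ (el_mem hc') ?_)
    exact hR.trans (hR.of_commute (el_mem ha) (el_mem hb) ((h.commute_proj_iff hD ha hb).2 hab))
      (hR.of_commute (el_mem hb) (el_mem hc') ((h.commute_proj_iff hD hb hc').2 hbc))

theorem img_mul_mem [Finite G] (ih : GoodBelow.{u} (Nat.card G)) : MulMem (img S) := by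
  by_cases hc : IsConnectedSet (CommAdj (lift S)) (lift S)
  · exact (h.good_img hD ih hc).mulMem
  · obtain ⟨R, hR⟩ := h.exists_setup hD hc
    exact fun a b ha hb hab hne => hR.mul_mem_of_commute ha hb (hab.commute ha) hne

/-- Two members with the same neighbours multiply to a third one or to `1` modulo the core. -/
theorem mul_rel [Finite G] (ih : GoodBelow.{u} (Nat.card G)) {a b : G} (ha : a ∈ S) (hb : b ∈ S)
    (hab : Same S a b) : a * b ∈ coreOf S ∨ ∃ c ∈ S, Same S a c ∧ a * b * c ∈ coreOf S := by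
  by_cases he : proj S (el ha) = proj S (el hb)
  · refine Or.inl ?_
    have := proj_eq_iff.1 he
    rwa [show ((el ha : ↥(Subgroup.closure S)) : G) = a from rfl, inv_eq hD.1 (h.subset ha)] at this
  · have hs := (h.same_proj_iff hD ha hb).2 hab
    have hm := h.img_mul_mem hD ih _ _ (el_mem ha) (el_mem hb) hs he
    have ht : Tri (img S) (proj S (el ha)) (proj S (el hb)) :=
      ⟨el_mem ha, el_mem hb, hs.commute (el_mem ha), hm⟩
    have hsame := Tri.same (h.odd_img hD) (ht.third' (h.odd_img hD).1)
    obtain ⟨⟨c, hcc⟩, hc, e⟩ := hm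
    replace hc : c ∈ S := hc
    refine Or.inr ⟨c, hc, ?_, ?_⟩
    · refine ((h.same_proj_iff hD hc ha).1 ?_).symm
      rwa [show proj S (el hc) = proj S (el ha) * proj S (el hb) from e]
    · refine (proj_eq_one_iff (x := el ha * el hb * el hc)).1 ?_
      rw [map_mul, map_mul, ← show proj S (el hc) = proj S (el ha) * proj S (el hb) from e,
        ← map_mul, show el hc * el hc = (1 : ↥(Subgroup.closure S)) from Subtype.ext (sq_one hD.1 (h.subset hc)), map_one]

/-- Commuting members moving `x` in the same way modulo the core are congruent. -/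
theorem mid [Finite G] {m c x : G} (hm : m ∈ S) (hc : c ∈ S) (hx : x ∈ S) (hmc : Commute m c)
    (hcx : ¬ Commute c x) (he : m * x * m * (c * x * c) ∈ coreOf S) : m * c ∈ coreOf S := by
  have h1 : proj S (el hm) = proj S (el hc) := by
    refine eq_of_conj_eq (h.odd_img hD) (el_mem hm) (el_mem hc) (el_mem hx)
      ((h.commute_proj_iff hD hm hc).2 hmc) (fun e => hcx ((h.commute_proj_iff hD hc hx).1 e)) ?_
    rw [← map_inv, ← map_inv, ← map_mul, ← map_mul, ← map_mul, ← map_mul, proj_eq_iff]
    simpa [el, mul_inv_rev, inv_eq hD.1 (h.subset hm), inv_eq hD.1 (h.subset hx),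
      inv_eq hD.1 (h.subset hc), mul_assoc] using he
  have := proj_eq_iff.1 h1
  rwa [show ((el hm : ↥(Subgroup.closure S)) : G) = m from rfl, inv_eq hD.1 (h.subset hm)] at this

/-- A product of two members with the same neighbours moving an outside member to a commuting one
lies in the core. -/
theorem mem_core_of_fixed [Finite G] (ih : GoodBelow.{u} (Nat.card G)) {a b f : G} (ha : a ∈ S)
    (hb : b ∈ S) (hf : f ∈ S) (hab : Same S a b) (hfa : ¬ Commute f a)
    (hfix : Commute (a * b * f * (a * b)⁻¹) f) : a * b ∈ coreOf S := by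
  rcases h.mul_rel hD ih ha hb hab with hu | ⟨c, hc, hsc, hu⟩
  · exact hu
  · exfalso
    obtain ⟨-, hsame⟩ := h.rel_of_mem_core hD (h.conj c hc f hf) hu
    have e : a * b * c * (c * f * c⁻¹) * (a * b * c)⁻¹ = a * b * f * (a * b)⁻¹ := by
      have h2 := sq_one hD.1 (h.subset hc)
      rw [inv_eq hD.1 (h.subset hc), mul_inv_rev, inv_eq hD.1 (h.subset hc)]
      calc a * b * c * (c * f * c) * (c * (a * b)⁻¹) =
            a * b * (c * c) * f * (c * c) * (a * b)⁻¹ := by group
        _ = a * b * f * (a * b)⁻¹ := by rw [h2, mul_one, mul_one]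
    rw [e] at hsame
    have h3 : Commute (c * f * c⁻¹) f := ((hsame.iff hf).1 hfix.symm).symm
    exact hfa ((hsc.iff hf).2 (commute_of_conj_commute hD (h.subset hc) (h.subset hf) h3).symm)

end Local

end CfsgLib.Perm.OddConnected
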