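import Cfsg.Agent.Lib.Perm.OddConnected.Distance

/-!
# The structure of a connected class of odd transpositions

By induction on the order of the group: two non-commuting members have two non-commuting common
neighbours, and the product of two members of one class is a member.
-/

set_option autoImplicit false
set_option linter.style.haveILetI false

namespace CfsgLib.Perm.OddConnected

open Cfsg CfsgLib.Perm.RootInvolution CfsgLib.Perm.OddTransposition

universe u

variable {G : Type u} [Group G] [Finite G] {D : Set G} (hyp : Hyp D)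
include hyp

theorem Hyp.common (ih : GoodBelow.{u} (Nat.card G)) : Common D := fun d x hd hx hdx => by
  obtain ⟨e, he, h1, h2⟩ := hyp.one_common ih hd hx hdx
  exact hyp.two_common ih hd hx hdx he h1 h2

theorem Hyp.mulMem (ih : GoodBelow.{u} (Nat.card G)) : MulMem D := by
  intro a b haD hbD hab hne
  have hD := hyp.odd
  have ha : a ∈ sameCommutingClass D a := ⟨haD, rfl⟩
  have hb : b ∈ sameCommutingClass D a := ⟨hbD, hab⟩
  obtain ⟨x, hx, hax⟩ := hyp.exists_nc haD
  obtain ⟨e, he, hea, hex⟩ := hyp.one_common ih haD hx hax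
  obtain ⟨m, hm, -, hcore⟩ := hyp.exists_third ih haD hx hax ha hb hne he hea hex
  have hcd : ∀ p ∈ D, Commute p a → Commute (a * b * m) p := fun p hp hpa =>
    ((hpa.mul_right ((hab.iff hp).1 hpa)).mul_right ((Same.iff hm.2 hp).1 hpa)).symm
  have heN : e ∈ Nbr D a := ⟨he, hea, fun hs => hax ((hs.iff hx).1 hex.symm).symm⟩
  have haN : a ∈ Nbr D e := ⟨haD, hea.symm, fun hs => hax ((hs.iff hx).2 hex.symm).symm⟩
  have hquiet : Quiet D (a * b * m) e := by
    intro f hf hfe
    by_cases hs : Same D f e
    · rw [(hcd f hf ((hs.iff haD).2 hea.symm).symm).eq, mul_inv_cancel_right]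
    · exact ((hyp.nbr_local ih he haN).rel_of_mem_core hD ⟨hf, hfe, hs⟩ hcore).1
  have hall : ∀ p ∈ D, Commute (a * b * m) p := by
    intro p hp
    by_cases hap : Commute a p
    · exact hcd p hp hap.symm
    obtain ⟨c, hc, hca, hcp⟩ := hyp.one_common ih haD hp hap
    have hcN : c ∈ Nbr D a := ⟨hc, hca, fun hs => hap ((hs.iff hp).1 hcp.symm).symm⟩
    obtain ⟨n, hn, hnp, -⟩ := hyp.exists_third ih haD hp hap ha hb hne hc hca hcp
    have hq := hyp.quiet_spread ih haD hcd heN hquiet c hcN p hp hcp.symm
    have hca' : Commute (a * b) m :=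
      (class_commute ha hm).mul_left (class_commute hb hm)
    have hcn : Commute (a * b) n :=
      (class_commute ha hn).mul_left (class_commute hb hn)
    have hab2 : a * b * (a * b) = 1 := by
      rw [(hab.commute haD).symm.mul_mul_mul_comm, sq_one hD.1 haD, sq_one hD.1 hbD, one_mul]
    have hmn : a * b * m * (a * b * n) = m * n := by
      rw [hca'.symm.mul_mul_mul_comm, hab2, one_mul]
    have heq : m = n := by
      refine hyp.eq_of_fixed ih haD hm hn hp hap ?_
      rw [← hmn]
      rwa [show a * b * m * (a * b * n) * p * (a * b * m * (a * b * n))⁻¹ =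
        a * b * m * (a * b * n * p * (a * b * n)⁻¹) * (a * b * m)⁻¹ by group,
        hnp.eq, mul_inv_cancel_right]
    exact heq ▸ hnp
  have hv : a * b * m = 1 := by
    by_contra hv1
    refine hyp.not_central ?_ hv1 (Subgroup.mem_center_iff.2 fun y => ?_)
    · rw [((class_commute hm ha).mul_right (class_commute hm hb)).mul_mul_mul_comm,
        (hab.commute haD).symm.mul_mul_mul_comm, sq_one hD.1 haD, sq_one hD.1 hbD,
        sq_one hD.1 hm.1, one_mul, one_mul]
    · have hle : Subgroup.closure D ≤ Subgroup.centralizer ({a * b * m} : Set G) :=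
        (Subgroup.closure_le _).2 fun p hp =>
          Subgroup.mem_centralizer_singleton_iff.2 (hall p hp).symm.eq
      rw [hD.1.generates] at hle
      exact Subgroup.mem_centralizer_singleton_iff.1 (hle (Subgroup.mem_top y))
  rw [mul_eq_one_iff_eq_inv, inv_eq hD.1 hm.1] at hv
  exact hv ▸ hm.1

omit hyp in
theorem good_of_hyp : ∀ (n : ℕ) (X : Type u) [Group X] [Finite X] (E : Set X),
    Nat.card X < n → Hyp E → Good E := by
  intro n
  induction n with
  | zero => exact fun X _ _ E h => absurd h (Nat.not_lt_zero _)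
  | succ n ihn =>
    intro X _ _ E hlt hE
    have ih : GoodBelow.{u} (Nat.card X) := fun Y _ _ F hF => ihn Y F (by omega)
    exact ⟨hE.linked ih, hE.common ih, hE.mulMem ih⟩

theorem Hyp.good : Good D := good_of_hyp _ G D (Nat.lt_succ_self _) hyp

theorem Hyp.below : GoodBelow.{u} (Nat.card G) := good_of_hyp _

end CfsgLib.Perm.OddConnected
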