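import Cfsg.Agent.Lib.Perm.OddConnected.Local

/-!
# The neighbours of a member outside its class

In a connected class of odd transpositions the neighbours of a member outside its class form one
component for non-commuting pairs: of two components the larger one and the members commuting with
all of it would split the class.
-/

set_option autoImplicit false
set_option linter.style.haveILetI false

namespace CfsgLib.Perm.OddConnected

open Cfsg CfsgLib.Perm.RootInvolution CfsgLib.Perm.OddTransposition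

universe u

variable {G : Type u} [Group G] {D : Set G}

/-- The neighbours of `d` outside its class. -/
def Nbr (D : Set G) (d : G) : Set G := {p | p ∈ D ∧ Commute p d ∧ ¬ Same D p d}

theorem nbr_subset {d : G} : Nbr D d ⊆ D := fun _ h => h.1

theorem linked_of_subset {A B : Set G} (hAB : A ⊆ B) {p q : G}
    (h : Relation.ReflTransGen (NC A) p q) : Relation.ReflTransGen (NC B) p q :=
  Relation.ReflTransGen.mono (fun _ _ h' => ⟨hAB h'.1, hAB h'.2.1, h'.2.2⟩) _ _ h

theorem nbr_conj_mem (hD : IsRootInvolutionSet D) {d p : G} (g : G) (hp : p ∈ Nbr D d) :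
    g * p * g⁻¹ ∈ Nbr D (g * d * g⁻¹) := by
  refine ⟨hD.conj_mem p hp.1 g, hp.2.1.conj g, fun e => hp.2.2 ?_⟩
  have := Same.conj hD e g⁻¹
  simpa [mul_assoc] using this

theorem nbr_inv (hD : IsRootInvolutionSet D) {d : G} :
    ∀ g ∈ Nbr D d, ∀ a ∈ Nbr D d, g * a * g⁻¹ ∈ Nbr D d := by
  intro g hg a ha
  have := nbr_conj_mem hD g ha
  rwa [hg.2.1.eq, mul_inv_cancel_right] at this

section Finite

variable [Finite G] (hyp : Hyp D)
include hyp

/-- An involution is not central. -/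
theorem Hyp.not_central {g : G} (hg : g * g = 1) (hg1 : g ≠ 1) : g ∉ Subgroup.center G := by
  intro hc
  haveI : Fact (Nat.Prime 2) := ⟨Nat.prime_two⟩
  have hn : (Subgroup.zpowers g).Normal := ⟨fun y hy k => by
    rwa [Subgroup.mem_center_iff.1 (Subgroup.zpowers_le.2 hc hy) k, mul_inv_cancel_right]⟩
  have hp : IsPGroup 2 ↥(Subgroup.zpowers g) :=
    IsPGroup.of_card (n := 1) (by
      rw [Nat.card_zpowers, orderOf_eq_prime (by rw [pow_two, hg]) hg1, pow_one])
  have h1 := Solvable.Cores.le_pCore (hn := hn) hp (Subgroup.mem_zpowers g)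
  rw [hyp.o2] at h1
  exact hg1 h1

/-- Members commuting with a non-trivial involution generate a proper subgroup. -/
theorem Hyp.closure_ne_top {S : Set G} {g : G} (hg : g * g = 1) (hg1 : g ≠ 1)
    (h : ∀ s ∈ S, Commute s g) : Subgroup.closure S ≠ ⊤ := by
  intro htop
  refine hyp.not_central hg hg1 (Subgroup.mem_center_iff.2 fun y => ?_)
  have hle : Subgroup.closure S ≤ Subgroup.centralizer ({g} : Set G) :=
    (Subgroup.closure_le _).2 fun s hs => Subgroup.mem_centralizer_singleton_iff.2 (h s hs).eq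
  exact Subgroup.mem_centralizer_singleton_iff.1 (hle (htop ▸ Subgroup.mem_top y))

theorem Hyp.exists_tri {a : G} (ha : a ∈ D) : ∃ b, Tri D a b := by
  obtain ⟨x, y, hxy⟩ := hyp.tri
  obtain ⟨g, rfl⟩ := isConj_iff.1 (hyp.class' x hxy.left a ha)
  exact ⟨_, hxy.conj hyp.odd.1 g⟩

theorem Hyp.exists_nc {a : G} (ha : a ∈ D) : ∃ e ∈ D, ¬ Commute a e := by
  by_contra hcon
  push Not at hcon
  exact hyp.closure_ne_top (sq_one hyp.odd.1 ha) (ne_one hyp.odd.1 ha)
    (fun s hs => (hcon s hs).symm) hyp.odd.1.generates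

/-- The class is connected by non-commuting pairs. -/
theorem Hyp.linkedAll : ∀ a ∈ D, ∀ b ∈ D, Relation.ReflTransGen (NC D) a b := by
  intro a ha b hb
  obtain ⟨g, rfl⟩ := isConj_iff.1 (hyp.class' a ha b hb)
  have hinv : ∀ g ∈ D, ∀ p ∈ D, g * p * g⁻¹ ∈ D := fun g _ p hp => hyp.odd.1.conj_mem p hp g
  suffices key : ∀ g : G, ∀ p ∈ oddComp D a, g * p * g⁻¹ ∈ oddComp D a from
    (key g a (self_mem_oddComp ha)).2
  intro g
  have hg : g ∈ Subgroup.closure D := hyp.odd.1.generates ▸ Subgroup.mem_top g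
  have hmem : ∀ x ∈ D, ∀ p ∈ oddComp D a, x * p * x⁻¹ ∈ oddComp D a := by
    intro x hx p hp
    by_cases hxc : x ∈ oddComp D a
    · exact oddComp_conj hinv hxc hp
    · rwa [(commute_of_not_mem_oddComp hp hx hxc).symm.eq, mul_inv_cancel_right]
  induction hg using Subgroup.closure_induction with
  | mem x hx => exact hmem x hx
  | one => intro p hp; simpa using hp
  | mul x y _ _ ihx ihy =>
    intro p hp
    have := ihx _ (ihy p hp)
    simpa [mul_assoc] using this
  | inv x _ ih =>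
    intro p hp
    -- conjugation by `x` is a bijection of the finite component
    have hbij := Set.eq_of_subset_of_ncard_le
      (show (fun p => x * p * x⁻¹) '' oddComp D a ⊆ oddComp D a from Set.image_subset_iff.2 ih)
      (Set.ncard_image_of_injective _ (MulAut.conj x).injective).ge (Set.toFinite _)
    rw [← hbij] at hp
    obtain ⟨q, hq, rfl⟩ := hp
    simpa [mul_assoc] using hq

theorem Hyp.same_of_subset {a b : G} (ha : a ∈ D) (hb : b ∈ D)
    (h : ∀ f ∈ D, Commute f a → Commute f b) : Same D a b :=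
  CfsgLib.Perm.OddConnected.same_of_subset hyp.odd (Set.Subset.refl D)
    (fun g _ p hp => hyp.odd.1.conj_mem p hp g) hyp.linkedAll ha hb h

theorem Hyp.exists_nc_nbr {d k : G} (hd : d ∈ D) (hk : k ∈ Nbr D d) :
    ∃ f ∈ Nbr D d, ¬ Commute k f := by
  by_contra hcon
  push Not at hcon
  refine hk.2.2 (hyp.same_of_subset hd hk.1 fun f hf hfd => ?_).symm
  by_cases hs : Same D f d
  · exact ((hs.iff hk.1).2 hk.2.1).symm
  · exact (hcon f ⟨hf, hfd, hs⟩).symm

/-- A component of members commuting with a non-trivial involution is local. -/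
theorem Hyp.local_oddComp {A : Set G} (hAD : A ⊆ D)
    (hA : ∀ g ∈ A, ∀ a ∈ A, g * a * g⁻¹ ∈ A) {c a e : G} (hc : c * c = 1) (hc1 : c ≠ 1)
    (hcA : ∀ p ∈ A, Commute p c) (ha : a ∈ A) (he : e ∈ A) (hae : ¬ Commute a e)
    (htri : ∀ b, Same D a b → b ∈ D → b ∈ A) : Local D (oddComp A a) := by
  refine ⟨oddComp_subset.trans hAD, fun g hg p hp => oddComp_conj hA hg hp,
    fun p hp q hq => oddComp_linked hp hq, ?_,
    hyp.closure_ne_top hc hc1 fun s hs => hcA s hs.1⟩
  obtain ⟨b, hb⟩ := hyp.exists_tri (hAD ha)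
  have hsame := Tri.same hyp.odd hb
  have hsame' : Same D a (a * b) := (Tri.same hyp.odd (hb.third' hyp.odd.1)).symm
  have he' : e ∈ oddComp A a := mem_oddComp_of_not_commute (self_mem_oddComp ha) he hae
  have hmem : ∀ p, Same D a p → p ∈ D → p ∈ oddComp A a := fun p hs hp =>
    mem_oddComp_of_not_commute he' (htri p hs hp) fun hc' =>
      hae ((hs.iff (hAD he)).2 hc').symm
  exact ⟨a, b, self_mem_oddComp ha, hmem b hsame hb.right, hb.comm, hmem _ hsame' hb.mem⟩

theorem Hyp.local_nbr {d k : G} (hd : d ∈ D) (hk : k ∈ Nbr D d) :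
    Local D (oddComp (Nbr D d) k) := by
  obtain ⟨f, hf, hkf⟩ := hyp.exists_nc_nbr hd hk
  refine hyp.local_oddComp nbr_subset (nbr_inv hyp.odd.1) (sq_one hyp.odd.1 hd)
    (ne_one hyp.odd.1 hd) (fun p hp => hp.2.1) hk hf hkf fun b hb hbD => ⟨hbD, ?_, fun e => ?_⟩
  · exact ((hb.iff hd).1 hk.2.1.symm).symm
  · exact hk.2.2 (hb.trans e : Same D k d)

theorem Hyp.ncard_comp_le {d z p : G} (hd : d ∈ D) (hz : z ∈ D) (hp : p ∈ Nbr D z) :
    ∃ q ∈ Nbr D d, (oddComp (Nbr D z) p).ncard ≤ (oddComp (Nbr D d) q).ncard := by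
  obtain ⟨g, rfl⟩ := isConj_iff.1 (hyp.class' z hz d hd)
  refine ⟨g * p * g⁻¹, nbr_conj_mem hyp.odd.1 g hp, ?_⟩
  rw [← Set.ncard_image_of_injective (oddComp (Nbr D z) p) (MulAut.conj g).injective]
  refine Set.ncard_le_ncard ?_ (Set.toFinite _)
  rintro _ ⟨q, hq, rfl⟩
  refine ⟨nbr_conj_mem hyp.odd.1 g hq.1, ?_⟩
  exact hq.2.lift (fun x => g * x * g⁻¹) fun x y hxy =>
    ⟨nbr_conj_mem hyp.odd.1 g hxy.1, nbr_conj_mem hyp.odd.1 g hxy.2.1,
      fun e => hxy.2.2 (by simpa [mul_assoc] using e.conj g⁻¹)⟩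

/-- The neighbours outside the class form one component. -/
theorem Hyp.nbr_linked (ih : GoodBelow.{u} (Nat.card G)) {d : G} (hd : d ∈ D) :
    ∀ k ∈ Nbr D d, ∀ k' ∈ Nbr D d, Relation.ReflTransGen (NC (Nbr D d)) k k' := by
  intro k hk k' hk'
  by_contra hcon
  obtain ⟨k1, hk1, hmax⟩ := Set.exists_max_image (Nbr D d)
    (fun q => (oddComp (Nbr D d) q).ncard) (Set.toFinite _) ⟨k, hk⟩
  set A := oddComp (Nbr D d) k1 with hA
  obtain ⟨k2, hk2, hk2A⟩ : ∃ k2 ∈ Nbr D d, k2 ∉ A := by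
    by_contra h
    push Not at h
    exact hcon ((reach_symm (h k hk).2).trans (h k' hk').2)
  obtain ⟨k3, hk3, hk23⟩ := hyp.exists_nc_nbr hd hk2
  have hk3A : k3 ∉ A := fun h => hk2A (mem_oddComp_of_not_commute h hk2 fun e => hk23 e.symm)
  have hAnc : ∀ a ∈ A, ∃ a0 ∈ A, ¬ Commute a a0 := fun a ha => by
    obtain ⟨a0, ha0, h⟩ := hyp.exists_nc_nbr hd ha.1
    exact ⟨a0, mem_oddComp_of_not_commute ha ha0 h, h⟩
  let Z : Set G := {z | z ∈ D ∧ ∀ a ∈ A, Commute z a}
  have hZA : ∀ z ∈ Z, z ∉ A := fun z hz hzA => by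
    obtain ⟨a0, ha0, h⟩ := hAnc z hzA
    exact h (hz.2 a0 ha0)
  have hnsame : ∀ a ∈ A, ∀ z ∈ Z, ¬ Same D a z := fun a ha z hz hs => by
    obtain ⟨a0, ha0, h⟩ := hAnc a ha
    exact h ((hs.iff ha0.1.1).2 (hz.2 a0 ha0).symm).symm
  have hdZ : d ∈ Z := ⟨hd, fun a ha => ha.1.2.1.symm⟩
  have hkZ : ∀ p ∈ Nbr D d, p ∉ A → p ∈ Z := fun p hp hpA =>
    ⟨hp.1, fun a ha => (commute_of_not_mem_oddComp ha hp hpA).symm⟩
  have h1 : ∀ z ∈ Z, ∀ f ∈ D, Commute f z → f ∈ A ∪ Z := by
    intro z hz f hf hfz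
    have hsub : A ⊆ Nbr D z := fun a ha => ⟨ha.1.1, (hz.2 a ha).symm, hnsame a ha z hz⟩
    have hk1A : k1 ∈ A := self_mem_oddComp hk1
    have hAz : A ⊆ oddComp (Nbr D z) k1 := fun a ha =>
      ⟨hsub ha, linked_of_subset hsub (oddComp_linked hk1A ha)⟩
    have heq : A = oddComp (Nbr D z) k1 := by
      obtain ⟨q, hq, hle⟩ := hyp.ncard_comp_le hd hz.1 (hsub hk1A)
      exact Set.eq_of_subset_of_ncard_le hAz (hle.trans (hmax q hq)) (Set.toFinite _)
    by_cases hs : Same D f z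
    · exact Or.inr ⟨hf, fun a ha => ((hs.iff ha.1.1).2 (hz.2 a ha).symm).symm⟩
    · by_cases hfA : f ∈ A
      · exact Or.inl hfA
      · exact Or.inr ⟨hf, fun a ha =>
          (commute_of_not_mem_oddComp (heq ▸ ha) (show f ∈ Nbr D z from ⟨hf, hfz, hs⟩) (heq ▸ hfA)).symm⟩
  have h2 : ∀ a ∈ A, ∀ f ∈ D, Commute f a → f ∈ A ∪ Z := by
    intro a ha f hf hfa
    by_contra hfAZ
    have hfZ : ∀ z ∈ Z, ¬ Commute f z := fun z hz hc => hfAZ (h1 z hz f hf hc)
    have hZn : ∀ z ∈ Z, z ∈ Nbr D a := fun z hz =>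
      ⟨hz.1, hz.2 a ha, fun e => hnsame a ha z hz e.symm⟩
    have hfa' : f ∈ Nbr D a :=
      ⟨hf, hfa, fun e => hfZ d hdZ ((e.iff hd).2 ha.1.2.1.symm).symm⟩
    set S := oddComp (Nbr D a) d with hS
    have hdS : d ∈ S := self_mem_oddComp (hZn d hdZ)
    have hfS : f ∈ S := mem_oddComp_of_not_commute hdS hfa' fun e => hfZ d hdZ e.symm
    have hk2S : k2 ∈ S :=
      mem_oddComp_of_not_commute hfS (hZn _ (hkZ k2 hk2 hk2A)) (hfZ _ (hkZ k2 hk2 hk2A))
    have hk3S : k3 ∈ S := mem_oddComp_of_not_commute hk2S (hZn _ (hkZ k3 hk3 hk3A)) hk23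
    have hloc : Local D S := hyp.local_nbr ha.1.1 (hZn d hdZ)
    rcases hloc.dich hyp.odd ih with ht | ⟨hlink, hcom⟩
    · exact hk23 (ht k2 hk2S d hdS k3 hk3S hk2.2.1 hk3.2.1.symm)
    obtain ⟨i, hiS, -, -, hid, hif, -⟩ := hcom d f hdS hfS fun e => hfZ d hdZ e.symm
    have hiA : i ∈ A := by
      rcases h1 d hdZ i hiS.1.1 hid with h | h
      · exact h
      · exact absurd hif.symm (hfZ i h)
    have hchain := hlink d i k2 hdS hiS hk2S hid hk2.2.1
      (fun e => hfZ d hdZ ((e.iff hfS).1 hif.symm)) (fun e => hk23 ((e.iff hk3S).2 hk3.2.1).symm)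
    refine hk2A (show k2 ∈ A from ?_)
    clear hk2S hk2A hk23 hk2
    induction hchain with
    | refl => exact hiA
    | @tail p q _ hpq ihp =>
      rcases h1 d hdZ q hpq.2.1.1.1.1 hpq.2.1.2 with h | h
      · exact h
      · exact absurd (h.2 p ihp).symm hpq.2.2
  have hall : ∀ p, Relation.ReflTransGen (CommAdj D) d p → p ∈ A ∪ Z := by
    intro p hp
    induction hp with
    | refl => exact Or.inr hdZ
    | @tail x y _ hxy ihx =>
      rcases ihx with h | h
      · exact h2 x h y hxy.2.1 hxy.2.2.2.symm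
      · exact h1 x h y hxy.2.1 hxy.2.2.2.symm
  have hzero : ∀ q, Relation.ReflTransGen (NC D) k1 q → q ∈ A := by
    intro q hq
    induction hq with
    | refl => exact self_mem_oddComp hk1
    | @tail x y _ hxy ihx =>
      rcases hall y (hyp.conn d hd y hxy.2.1) with h | h
      · exact h
      · exact absurd (h.2 x ihx).symm hxy.2.2
  exact hZA d hdZ (hzero d (hyp.linkedAll k1 hk1.1 d hd))

/-- The neighbours outside the class form a local subset. -/
theorem Hyp.nbr_local (ih : GoodBelow.{u} (Nat.card G)) {d k : G} (hd : d ∈ D) (hk : k ∈ Nbr D d) :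
    Local D (Nbr D d) := by
  have h := hyp.local_nbr hd hk
  rwa [show oddComp (Nbr D d) k = Nbr D d from
    Set.Subset.antisymm oddComp_subset fun p hp => ⟨hp, hyp.nbr_linked ih hd k hk p hp⟩] at h

theorem Hyp.linked (ih : GoodBelow.{u} (Nat.card G)) : Linked D := fun d k k' hd hk hk' h1 h2 n1 n2 =>
  linked_of_subset (fun _ (hp : _ ∈ Nbr D d) => show _ ∈ D ∧ _ from ⟨hp.1, hp.2.1⟩)
    (hyp.nbr_linked ih hd k ⟨hk, h1, n1⟩ k' ⟨hk', h2, n2⟩)

end Finite

end CfsgLib.Perm.OddConnected
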