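import Cfsg.Agent.Lib.Perm.OddConnected.ClassOdd

/-!
# Two members with a common neighbour

Non-commuting members with a common neighbour have two non-commuting ones. The products of two
members of the class of one of them are completed by a third member of the class to an element
centralising the other, so the class and `1` form a group modulo that centraliser.
-/

set_option autoImplicit false
set_option linter.style.haveILetI false

namespace CfsgLib.Perm.OddConnected

open Cfsg CfsgLib.Perm.RootInvolution CfsgLib.Perm.OddTransposition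

universe u

variable {G : Type u} [Group G] {D : Set G}

theorem core_conj {S : Set G} {g v : G} (hg : g ∈ Subgroup.closure S) (hv : v ∈ coreOf S) :
    g * v * g⁻¹ ∈ coreOf S := by
  obtain ⟨y, hy, rfl⟩ := hv
  exact ⟨⟨g, hg⟩ * y * ⟨g, hg⟩⁻¹,
    (inferInstance : (Cfsg.pCore 2 ↥(Subgroup.closure S)).Normal).conj_mem y hy _, rfl⟩

/-- The element `u m` of a member `m` exchanging `d` and its conjugate by the product `u` of two
commuting members. -/
theorem exists_fixer (hD : IsOddTranspositionSet D) {d a a' x : G} (hd : d ∈ D) (hx : x ∈ D)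
    (htri : Tri D a a') (hax : Commute a x) (hda : ¬ Commute d a) (hns : ¬ Same D a x) :
    ∃ m ∈ D, Commute m a ∧ Commute m x ∧ ¬ Commute m d ∧ ∃ g : G, g * g = 1 ∧ g ≠ 1 ∧ Commute g d ∧
      Commute g m ∧ ∀ p ∈ D, Commute p a → Commute p x → Commute p m → Commute p g := by
  have hsame := Tri.same hD htri
  obtain ⟨a0, ha0, hs0, hmv⟩ : ∃ a0 ∈ D, Same D a a0 ∧
      ¬ Commute d (a0 * x * d * (a0 * x)⁻¹) := by
    rcases exists_moving hD hd hx htri hax hda with h | h
    · exact ⟨a, htri.left, Same.refl _ _, h⟩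
    · exact ⟨a', htri.right, hsame, h⟩
  have hax0 : Commute a0 x := ((hs0.iff hx).1 hax.symm).symm
  have hne : a0 ≠ x := fun e => hns (e ▸ hs0)
  have hu2 : a0 * x * (a0 * x) = 1 := by
    rw [hax0.symm.mul_mul_mul_comm, sq_one hD.1 ha0, sq_one hD.1 hx, one_mul]
  obtain ⟨m, hm, hmx, hmd, -, hsw⟩ := exists_middle hD hd (hD.1.conj_mem d hd (a0 * x)) hmv
  have hum : Commute (a0 * x) m := hsw _ hu2 rfl
  have hma0 : Commute m a0 := commute_of_commute_mul hD ha0 hx hm hax0 hne hum.symm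
  have hmx' : Commute m x := commute_of_commute_mul hD hx ha0 hm hax0.symm (Ne.symm hne)
    (by rw [← hax0.eq]; exact hum.symm)
  refine ⟨m, hm, (hs0.iff hm).2 hma0, hmx', hmd, a0 * x * m, ?_, fun e => ?_, ?_,
    hum.mul_left (Commute.refl m), fun p hp h1 h2 h3 =>
      (((hs0.iff hp).1 h1).mul_right h2).mul_right h3⟩
  · rw [hum.symm.mul_mul_mul_comm, hu2, sq_one hD.1 hm, one_mul]
  · rw [mul_eq_one_iff_eq_inv, inv_eq hD.1 hm] at e
    exact hns (hs0.trans (Tri.same hD (⟨ha0, hx, hax0, e ▸ hm⟩ : Tri D a0 x)))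
  · refine mul_inv_eq_iff_eq_mul.1 ?_
    calc a0 * x * m * d * (a0 * x * m)⁻¹ = a0 * x * (m * d * m⁻¹) * (a0 * x)⁻¹ := by group
      _ = a0 * x * (a0 * x) * d * (a0 * x * (a0 * x))⁻¹ := by rw [hmx]; group
      _ = d := by rw [hu2, one_mul, inv_one, mul_one]

variable [Finite G] (hyp : Hyp D)
include hyp

/-- Non-commuting members with a common neighbour have two non-commuting ones. -/
theorem Hyp.two_common (ih : GoodBelow.{u} (Nat.card G)) {d x e : G} (hd : d ∈ D) (hx : x ∈ D)
    (hdx : ¬ Commute d x) (he : e ∈ D) (hed : Commute e d) (hex : Commute e x) :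
    ∃ f ∈ D, ∃ f' ∈ D, Commute f d ∧ Commute f x ∧ Commute f' d ∧ Commute f' x ∧ ¬ Commute f f' := by
  by_contra hno
  push Not at hno
  have hdN : d ∈ Nbr D e := ⟨hd, hed.symm, fun hs => hdx ((hs.iff hx).2 hex.symm).symm⟩
  have hxN : x ∈ Nbr D e := ⟨hx, hex.symm, fun hs => hdx ((hs.iff hd).2 hed.symm)⟩
  rcases (hyp.nbr_local ih he hdN).dich hyp.odd ih with ht | ⟨-, hcom⟩
  swap
  · obtain ⟨f, hf, f', hf', h1, h2, h3, h4, h5⟩ := hcom d x hdN hxN hdx
    exact h5 (hno f hf.1 f' hf'.1 h1 h2 h3 h4)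
  have hsub : ∀ f ∈ D, Commute f d → Commute f x → Same D f e := fun f hf hfd hfx => by
    by_contra hfe
    exact hdx (ht d hdN f ⟨hf, hno f hf e he hfd hfx hed hex, hfe⟩ x hxN hfd.symm hfx)
  obtain ⟨h, hh, hhx, hhe⟩ : ∃ h ∈ D, Commute h x ∧ ¬ Commute h e := by
    by_contra hcon
    push Not at hcon
    exact hxN.2.2 (hyp.same_of_subset hx he hcon)
  have hhd : ¬ Commute h d := fun hc => hhe (Same.commute (hsub h hh hc hhx) hh)
  have hns : ¬ Same D h x := fun hs => hhe ((hs.iff he).2 hex).symm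
  obtain ⟨h', htri⟩ := hyp.exists_tri hh
  obtain ⟨m, hm, hmh, hmx, -, g, hg2, hg1, hgd, -, hgc⟩ :=
    exists_fixer hyp.odd hd hx htri hhx (fun hc => hhd hc.symm) hns
  have hgi : g⁻¹ = g := inv_eq_of_mul_eq_one_left hg2
  have hxg : Commute x g := hgc x hx hhx.symm (Commute.refl x) hmx.symm
  have hhg : Commute h g := hgc h hh (Commute.refl h) hhx hmh.symm
  -- the class of `e` is permuted
  have hge : g * e * g⁻¹ ∈ sameCommutingClass D e := by
    refine ⟨hyp.odd.1.conj_mem e he g, (hsub _ (hyp.odd.1.conj_mem e he g) ?_ ?_).symm⟩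
    · have := hed.conj g
      rwa [hgd.eq, mul_inv_cancel_right] at this
    · have := hex.conj g
      rwa [hxg.symm.eq, mul_inv_cancel_right] at this
  obtain ⟨e0, he0, he0g⟩ : ∃ e0 ∈ sameCommutingClass D e, Commute e0 g := by
    by_contra hcon
    push Not at hcon
    have hev := even_ncard_fixed (s := sameCommutingClass D e) (fun p => g * p * g⁻¹)
      (fun p hp => class_conj_mem hyp.odd.1 hp
        (show Fixes D g e from (hge.2.symm : Same D (g * e * g⁻¹) e)))
      (fun p _ => by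
        rw [hgi]
        calc g * (g * p * g) * g = g * g * p * (g * g) := by group
          _ = p := by rw [hg2, one_mul, mul_one])
    rw [show {a ∈ sameCommutingClass D e | g * a * g⁻¹ = a} = ∅ from
      Set.eq_empty_of_forall_notMem fun p hp =>
        hcon p hp.1 (Commute.symm (mul_inv_eq_iff_eq_mul.1 hp.2)),
      Set.ncard_empty, add_zero] at hev
    exact (Nat.not_even_iff_odd.2 (hyp.odd_class ih he)) hev
  -- a local subset centralised by `g`
  have hcl : ∀ p ∈ {p | p ∈ D ∧ Commute p g}, ∀ q ∈ {p | p ∈ D ∧ Commute p g},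
      p * q * p⁻¹ ∈ {p | p ∈ D ∧ Commute p g} := fun p hp q hq =>
    ⟨hyp.odd.1.conj_mem q hq.1 p, (hp.2.mul_left hq.2).mul_left hp.2.inv_left⟩
  have hloc := hyp.local_oddComp (A := {p | p ∈ D ∧ Commute p g}) (fun p hp => hp.1) hcl hg2 hg1
    (fun p hp => hp.2) (a := x) ⟨hx, hxg⟩ (e := d) ⟨hd, hgd.symm⟩ (fun hc => hdx hc.symm)
    fun b hb hbD => ⟨hbD, hgc b hbD ((hb.iff hh).1 hhx).symm ((hb.iff hx).1 (Commute.refl x)).symm
      ((hb.iff hm).1 hmx).symm⟩
  set S := oddComp {p | p ∈ D ∧ Commute p g} x with hS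
  have hxS : x ∈ S := self_mem_oddComp ⟨hx, hxg⟩
  have hdS : d ∈ S := mem_oddComp_of_not_commute hxS ⟨hd, hgd.symm⟩ fun hc => hdx hc.symm
  have hhS : h ∈ S := mem_oddComp_of_not_commute hdS ⟨hh, hhg⟩ fun hc => hhd hc.symm
  have he0S : e0 ∈ S := mem_oddComp_of_not_commute hhS ⟨he0.1, he0g⟩ fun hc =>
    hhe ((Same.iff he0.2 hh).2 hc)
  rcases hloc.dich hyp.odd ih with ht' | ⟨-, hcom⟩
  · exact hdx (ht' d hdS e0 he0S x hxS ((Same.iff he0.2 hd).1 hed.symm)
      ((Same.iff he0.2 hx).1 hex.symm).symm)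
  · obtain ⟨f, hf, f', hf', h1, h2, h3, h4, h5⟩ := hcom d x hdS hxS hdx
    exact h5 (Same.commute ((hsub f hf.1.1 h1 h2).trans (hsub f' hf'.1.1 h3 h4).symm) hf.1.1)

/-- A product of two members of the class of `d` is completed by a third one to an element which
centralises `z` and is trivial modulo the core of each common neighbourhood. -/
theorem Hyp.exists_third (ih : GoodBelow.{u} (Nat.card G)) {d z a b e : G} (hd : d ∈ D) (hz : z ∈ D)
    (hdz : ¬ Commute d z) (ha : a ∈ sameCommutingClass D d) (hb : b ∈ sameCommutingClass D d)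
    (hne : a ≠ b) (he : e ∈ D) (hed : Commute e d) (hez : Commute e z) :
    ∃ m ∈ sameCommutingClass D d, Commute (a * b * m) z ∧ a * b * m ∈ coreOf (Nbr D e) := by
  have hD := hyp.odd
  have hu2 : a * b * (a * b) = 1 := by
    rw [(class_commute ha hb).symm.mul_mul_mul_comm, sq_one hD.1 ha.1, sq_one hD.1 hb.1, one_mul]
  have hmv : ¬ Commute z (a * b * z * (a * b)⁻¹) := fun hc =>
    hne (hyp.eq_of_fixed ih hd ha hb hz hdz hc.symm)
  obtain ⟨m, hm, hmz, hmnz, hmc, hsw⟩ := exists_middle hD hz (hD.1.conj_mem z hz (a * b)) hmv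
  have hum : Commute (a * b) m := hsw _ hu2 rfl
  have hmd : Commute m d := (commute_mul_iff hD ha hb hne hm).1 hum.symm
  have hvz : Commute (a * b * m) z := by
    refine mul_inv_eq_iff_eq_mul.1 ?_
    calc a * b * m * z * (a * b * m)⁻¹ = a * b * (m * z * m⁻¹) * (a * b)⁻¹ := by group
      _ = a * b * (a * b) * z * (a * b * (a * b))⁻¹ := by rw [hmz]; group
      _ = z := by rw [hu2, one_mul, inv_one, mul_one]
  have key : ∀ e ∈ D, Commute e d → Commute e z →
      m ∈ Nbr D e ∧ Same (Nbr D e) m a ∧ a * b * m ∈ coreOf (Nbr D e) := by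
    intro e he hed hez
    have heu : Commute e (a * b) :=
      ((Same.iff ha.2 he).1 hed).mul_right ((Same.iff hb.2 he).1 hed)
    have hez' : Commute e (a * b * z * (a * b)⁻¹) := (heu.mul_right hez).mul_right heu.inv_right
    have hem : Commute e m := hmc e hez hez'
    have hzN : z ∈ Nbr D e := ⟨hz, hez.symm, fun hs => hdz ((hs.iff hd).2 hed.symm)⟩
    have hmem : ∀ p ∈ sameCommutingClass D d, p ∈ Nbr D e := fun p hp =>
      ⟨hp.1, ((Same.iff hp.2 he).1 hed).symm,
        fun hs => hdz ((Same.iff hp.2 hz).2 ((hs.iff hz).2 hez.symm)).symm⟩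
    have hmN : m ∈ Nbr D e := ⟨hm, hem.symm, fun hs => hmnz ((hs.iff hz).2 hez.symm).symm⟩
    have hloc := hyp.nbr_local ih he hzN
    have hsab : Same (Nbr D e) a b := same_iff.2 fun f hf =>
      (Same.iff ha.2 hf.1).symm.trans (Same.iff hb.2 hf.1)
    rcases hloc.mul_rel hD ih (hmem a ha) (hmem b hb) hsab with hu | ⟨c, hc, hsc, hu⟩
    · exact absurd (hloc.rel_of_mem_core hD hzN hu).1.symm hmv
    have hcnz : ¬ Commute c z := fun hcc =>
      hdz ((Same.iff ha.2 hz).2 ((hsc.iff hzN).2 hcc.symm)).symm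
    have hmcc : Commute m c := (hsc.iff hmN).1 ((Same.iff ha.2 hm).1 hmd)
    have hm2 := inv_eq hD.1 hm
    have hc2 := sq_one hD.1 hc.1
    have hrel : m * z * m * (c * z * c) ∈ coreOf (Nbr D e) := by
      rw [show m * z * m = a * b * z * (a * b)⁻¹ by rw [← hmz, hm2],
        show a * b * z * (a * b)⁻¹ * (c * z * c) =
          a * b * c * (c * z * c * (a * b * c)⁻¹ * (c * z * c)⁻¹) by
          have hi : (c * z * c)⁻¹ = c * z * c := by
            rw [mul_inv_rev, mul_inv_rev, inv_eq hD.1 hc.1, inv_eq hD.1 hz, mul_assoc]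
          rw [hi, show (a * b * c)⁻¹ = c * (a * b)⁻¹ by rw [mul_inv_rev, inv_eq hD.1 hc.1]]
          calc a * b * z * (a * b)⁻¹ * (c * z * c) =
                a * b * 1 * z * 1 * (a * b)⁻¹ * (c * z * c) := by group
            _ = a * b * (c * c) * z * (c * c) * (a * b)⁻¹ * (c * z * c) := by rw [hc2]
            _ = _ := by group]
      refine mul_mem hu (core_conj ?_ (inv_mem hu))
      exact mul_mem (mul_mem (Subgroup.subset_closure hc) (Subgroup.subset_closure hzN))
        (Subgroup.subset_closure hc)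
    have hmcR := hloc.mid hD hmN hc hzN hmcc hcnz hrel
    refine ⟨hmN, (hloc.same_of_rel hD hmN hc hmcR).trans hsc.symm, ?_⟩
    have h2 := mul_mem hu (inv_mem hmcR)
    rwa [mul_inv_rev, inv_eq hD.1 hm, inv_eq hD.1 hc.1, ← mul_assoc, mul_assoc (a * b) c c, hc2,
      mul_one] at h2
  by_cases hmE : m ∈ sameCommutingClass D d
  · exact ⟨m, hmE, hvz, (key e he hed hez).2.2⟩
  exfalso
  have hmN : m ∈ Nbr D d := ⟨hm, hmd, fun hs => hmE ⟨hm, hs.symm⟩⟩
  have hsame : ∀ f ∈ D, Commute f d → Commute f z → f ∈ Nbr D d ∧ Same (Nbr D d) f m := by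
    intro f hf hfd hfz
    have hfN : f ∈ Nbr D d := ⟨hf, hfd, fun hs => hdz ((hs.iff hz).1 hfz.symm).symm⟩
    obtain ⟨hmf, hms, -⟩ := key f hf hfd hfz
    have hloc := hyp.nbr_local ih hd hfN
    refine ⟨hfN, CfsgLib.Perm.OddConnected.same_of_subset hD hloc.subset hloc.conj hloc.linked hfN hmN fun k hk hkf => ?_⟩
    by_cases hs : Same D k f
    · exact ((hs.iff hm).2 hmf.2.1).symm
    · exact (Same.iff hms (show k ∈ Nbr D f from ⟨hk.1, hkf, hs⟩)).2
        ((Same.iff ha.2 hk.1).1 hk.2.1)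
  obtain ⟨f, hf, f', hf', h1, h2, h3, h4, h5⟩ := hyp.two_common ih hd hz hdz he hed hez
  obtain ⟨hfN, hs⟩ := hsame f hf h1 h2
  obtain ⟨-, hs'⟩ := hsame f' hf' h3 h4
  exact h5 (Same.commute (hs.trans hs'.symm) hfN)

/-- With a second neighbour a class has `2 ^ n - 1` members for some `n ≥ 2`. -/
theorem Hyp.class_mod_four (ih : GoodBelow.{u} (Nat.card G)) {d z e : G} (hd : d ∈ D) (hz : z ∈ D)
    (hdz : ¬ Commute d z) (he : e ∈ D) (hed : Commute e d) (hez : Commute e z) :
    (sameCommutingClass D d).ncard % 4 = 3 := by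
  haveI : Fact (Nat.Prime 2) := ⟨Nat.prime_two⟩
  have hD := hyp.odd.1
  set E := sameCommutingClass D d with hE
  set F := sameCommutingSubgroup D d with hF
  have hEF : ∀ a ∈ E, a ∈ F := fun a ha => Subgroup.subset_closure ha
  have hcomm : ∀ y ∈ F, ∀ w ∈ F, Commute y w := fun y hy w hw => congrArg Subtype.val
    ((Subgroup.isMulCommutative_closure (fun a ha b hb => (class_commute ha hb).eq)).1.comm
      ⟨y, hy⟩ ⟨w, hw⟩)
  have hsq : ∀ y ∈ F, y * y = 1 := by
    intro y hy
    induction hy using Subgroup.closure_induction with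
    | mem y hy => exact sq_one hD hy.1
    | one => exact one_mul 1
    | mul y w hy hw ihy ihw =>
      rw [(hcomm w hw y hy).mul_mul_mul_comm, ihy, ihw, one_mul]
    | inv y _ ih => rw [← mul_inv_rev, ih, inv_one]
  have hnotC : ∀ a ∈ E, ¬ Commute a z := fun a ha hc => hdz ((Same.iff ha.2 hz).2 hc.symm).symm
  have hcover : ∀ y ∈ F, Commute y z ∨ ∃ a ∈ E, Commute (a * y) z := by
    intro y hy
    induction hy using Subgroup.closure_induction with
    | mem y hy => exact Or.inr ⟨y, hy, by rw [sq_one hD hy.1]; exact Commute.one_left z⟩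
    | one => exact Or.inl (Commute.one_left z)
    | inv y hy ih => rwa [inv_eq_of_mul_eq_one_left (hsq y hy)]
    | mul y w hy hw ihy ihw =>
      rcases ihy with hy' | ⟨a, ha, hay⟩ <;> rcases ihw with hw' | ⟨b, hb, hbw⟩
      · exact Or.inl (hy'.mul_left hw')
      · refine Or.inr ⟨b, hb, ?_⟩
        rw [← mul_assoc, (hcomm b (hEF b hb) y hy).eq, mul_assoc]
        exact hy'.mul_left hbw
      · refine Or.inr ⟨a, ha, ?_⟩
        rw [← mul_assoc]
        exact hay.mul_left hw'
      · have hprod := hay.mul_left hbw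
        rw [(hcomm y hy b (hEF b hb)).mul_mul_mul_comm] at hprod
        by_cases hab : a = b
        · left
          rwa [hab, sq_one hD hb.1, one_mul] at hprod
        · obtain ⟨m, hm, hmz, -⟩ := hyp.exists_third ih hd hz hdz ha hb hab he hed hez
          refine Or.inr ⟨m, hm, ?_⟩
          have hprod2 := hprod.mul_left hmz
          rwa [show a * b * (y * w) * (a * b * m) = m * (y * w) by
            rw [← (hcomm (y * w) (mul_mem hy hw) (a * b) (mul_mem (hEF a ha) (hEF b hb))).eq,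
              show y * w * (a * b) * (a * b * m) = y * w * ((a * b) * (a * b)) * m by group,
              hsq _ (mul_mem (hEF a ha) (hEF b hb)), mul_one,
              (hcomm (y * w) (mul_mem hy hw) m (hEF m hm)).eq]] at hprod2
  let H : Subgroup ↥F := (Subgroup.centralizer ({z} : Set G)).subgroupOf F
  have hH : ∀ y : ↥F, y ∈ H ↔ Commute (y : G) z := fun y => by
    rw [Subgroup.mem_subgroupOf, Subgroup.mem_centralizer_singleton_iff]
    exact Iff.rfl
  let f : Option ↥E → ↥F ⧸ H := fun o =>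
    o.elim (QuotientGroup.mk 1) fun a => QuotientGroup.mk ⟨a, hEF a a.2⟩
  have hbij : Function.Bijective f := by
    refine ⟨?_, fun q => ?_⟩
    · rintro (_ | ⟨a, ha⟩) (_ | ⟨b, hb⟩) hfe
      · rfl
      · have h1 := (hH _).1 (QuotientGroup.eq.1 hfe)
        simp only [inv_one, one_mul] at h1
        exact absurd h1 (hnotC b hb)
      · have h1 := (hH _).1 (QuotientGroup.eq.1 hfe)
        simp only [mul_one, Subgroup.coe_inv, inv_eq hD ha.1] at h1
        exact absurd h1 (hnotC a ha)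
      · have h1 := (hH _).1 (QuotientGroup.eq.1 hfe)
        simp only [Subgroup.coe_mul, Subgroup.coe_inv, inv_eq hD ha.1] at h1
        have h2 : a = b := hyp.eq_of_fixed ih hd ha hb hz hdz (by
          rw [h1.eq, mul_inv_cancel_right])
        simp [h2]
    · obtain ⟨⟨y, hy⟩, rfl⟩ := QuotientGroup.mk_surjective q
      rcases hcover y hy with h1 | ⟨a, ha, h1⟩
      · exact ⟨none, QuotientGroup.eq.2 ((hH _).2 (by simpa using h1))⟩
      · exact ⟨some ⟨a, ha⟩, QuotientGroup.eq.2 ((hH _).2 (by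
          simpa [inv_eq hD ha.1] using h1))⟩
  have hcard := Nat.card_eq_of_bijective f hbij
  rw [Finite.card_option, Nat.card_coe_set_eq, ← Subgroup.index_eq_card] at hcard
  obtain ⟨k, hk⟩ := IsPGroup.iff_card.1 (show IsPGroup 2 ↥F from fun y => ⟨1, Subtype.ext (by
    rw [pow_one, pow_two]
    exact hsq _ y.2)⟩)
  obtain ⟨n, -, hn⟩ := (Nat.dvd_prime_pow Nat.prime_two).1 (hk ▸ H.index_dvd_card)
  obtain ⟨b, hb⟩ := hyp.exists_tri hd
  have h2 : 2 ≤ E.ncard := by
    rw [← Set.ncard_pair (hb.ne hD)]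
    refine Set.ncard_le_ncard ?_ (Set.toFinite _)
    rintro _ (rfl | rfl)
    · exact ⟨hd, rfl⟩
    · exact ⟨hb.right, Tri.same hyp.odd hb⟩
  rw [hn] at hcard
  obtain ⟨j, rfl⟩ : ∃ j, n = j + 2 := by
    refine ⟨n - 2, ?_⟩
    by_contra hlt
    have : 2 ^ n ≤ 2 ^ 1 := Nat.pow_le_pow_right (by norm_num) (by omega)
    omega
  rw [pow_add] at hcard
  omega

end CfsgLib.Perm.OddConnected
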