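import Cfsg.Agent.Lib.KnownB.SuzukiAut
import Cfsg.Agent.Lib.KnownB.SuzukiFacts
import Cfsg.Agent.Lib.KnownB.SuzukiTori

/-!
# 2-elements of the Suzuki groups

The centraliser of a non-central element of a Sylow 2-subgroup is abelian, the centraliser of an
involution meets the 2-elements in the Sylow subgroup in which it is central, the order is prime to
three and automorphisms of 2-power order are inner.
-/

set_option autoImplicit false
set_option linter.style.haveILetI false

namespace CfsgLib.Perm.OddConnected.SzTwo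

open Cfsg.Lie CfsgLib.KnownB.SzElem CfsgLib.KnownB.Suzuki
open scoped commutatorElement

variable {F : Type*} [Field F] {e : ℕ}

theorem conj_commute_iff {G : Type*} [Group G] (x : G) {g k : G} :
    Commute (x * g * x⁻¹) (x * k * x⁻¹) ↔ Commute g k :=
  ⟨fun h => by simpa [mul_assoc] using h.conj x⁻¹, fun h => h.conj x⟩

theorem P_commute_iff (he : Twist F e) (a b c d : F) :
    Commute (P he a b) (P he c d) ↔ a ^ e * c = c ^ e * a := by
  refine ⟨fun h => ?_, fun h => ?_⟩
  · have h1 := h.eq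
    rw [P_mul, P_mul] at h1
    linear_combination (P_injective he h1).2
  · show P he a b * P he c d = P he c d * P he a b
    rw [P_mul, P_mul]
    congr 1
    · ring
    · linear_combination h

theorem eq_of_P_commute (he : Twist F e) {a b c d : F} (ha : a ≠ 0) (hc : c ≠ 0)
    (h : Commute (P he a b) (P he c d)) : c = a := by
  rw [P_commute_iff] at h
  have h1 : (c / a) ^ e = c / a := by
    rw [div_pow, div_eq_div_iff (pow_ne_zero _ ha) ha]
    linear_combination -h
  have h2 := he.pow_pow (c / a)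
  rw [h1, h1] at h2
  rcases mul_eq_zero.1 (show c / a * (c / a - 1) = 0 by linear_combination -h2) with h3 | h3
  · exact absurd ((div_eq_zero_iff.1 h3).resolve_right ha) hc
  · exact (div_eq_one_iff_eq ha).1 (sub_eq_zero.1 h3)

theorem ne_zero_of_not_commute (he : Twist F e) {a b c d : F}
    (h : ¬ Commute (P he a b) (P he c d)) : a ≠ 0 := by
  rintro rfl
  rw [P_commute_iff, zero_pow (Nat.ne_zero_of_lt he.one_lt)] at h
  exact h (by ring)

theorem units_eq_one (he : Twist F e) : ∀ (k : ℕ) (t : Fˣ), t ^ 2 ^ k = 1 → t = 1 := by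
  intro k
  induction k with
  | zero => intro t h; simpa using h
  | succ k ih =>
    intro t h
    rw [pow_succ', pow_mul] at h
    have h1 := congrArg Units.val (ih _ h)
    simp only [Units.val_pow_eq_pow_val, Units.val_one] at h1
    exact Units.ext (sq_inj he (by rw [h1]; simp))

theorem mem_u_of_mem_borel (he : Twist F e) {g : Sz F e} (hg : g ∈ borel F e) {k : ℕ}
    (hk : g ^ 2 ^ k = 1) : g ∈ uGroup he := by
  obtain ⟨a, b, t, rfl⟩ := exists_borel_eq he g hg
  have ht : t = 1 := by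
    refine units_eq_one he k t ?_
    rw [← torusHom_apply he a b t hg, ← map_pow,
      show (⟨_, hg⟩ : borel F e) ^ 2 ^ k = 1 from Subtype.ext hk, map_one]
  rw [ht, H_one, mul_one]
  exact P_mem_uGroup he a b

theorem exists_eq_centre (he : Twist F e) {g : Sz F e} (hg : g ∈ uGroup he) (h2 : g * g = 1) :
    ∃ b, g = P he 0 b := by
  obtain ⟨⟨a, b⟩, rfl⟩ := hg
  rw [P_mul, ← P_zero he] at h2
  have h := (P_injective he h2).2
  have h' : a ^ e * a = 0 := by linear_combination h - b * he.two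
  refine ⟨b, ?_⟩
  show P he a b = P he 0 b
  congr 1
  rcases mul_eq_zero.1 h' with h3 | h3
  · exact (pow_eq_zero_iff (Nat.ne_zero_of_lt he.one_lt)).1 h3
  · exact h3

theorem centre_commute (he : Twist F e) (b : F) {g : Sz F e} (hg : g ∈ uGroup he) :
    Commute (P he 0 b) g := by
  obtain ⟨⟨c, d⟩, rfl⟩ := hg
  rw [P_commute_iff, zero_pow (Nat.ne_zero_of_lt he.one_lt)]
  ring

/-- A 2-element centralising an involution of the centre of the standard Sylow subgroup lies in
that subgroup. -/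
theorem mem_u_of_commute (he : Twist F e) {b : F} (hb : b ≠ 0) {g : Sz F e} {k : ℕ}
    (hk : g ^ 2 ^ k = 1) (hc : Commute g (P he 0 b)) : g ∈ uGroup he := by
  refine mem_u_of_mem_borel he (inv_mem_iff.1 (mem_borel_of_conj_fix he (a := 0) (b := b)
    (h := g) (g := P he 0 b) (fun h => hb ?_) ?_ (P_mem_borel he 0 b))) hk
  · rw [← P_zero he] at h
    exact (P_injective he h).2
  · rw [hc.eq, mul_inv_cancel_right]

variable [Finite F]

theorem exists_conj_u (he : Twist F e) {K : Subgroup (Sz F e)} (hK : IsPGroup 2 ↥K) :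
    ∃ x : Sz F e, ∀ g ∈ K, x * g * x⁻¹ ∈ uGroup he := by
  have : Fact (Nat.Prime 2) := ⟨Nat.prime_two⟩
  obtain ⟨S, hS⟩ := hK.exists_le_sylow
  obtain ⟨x, hx⟩ := MulAction.exists_smul_eq (Sz F e) S (sylow2 he)
  refine ⟨x, fun g hg => ?_⟩
  rw [← coe_sylow2 he, ← hx, Sylow.coe_subgroup_smul]
  exact Subgroup.smul_mem_pointwise_smul _ (MulAut.conj x) _ (hS hg)

/-- An involution is conjugate into the centre of the standard Sylow subgroup. -/
theorem exists_conj_centre (he : Twist F e) {a : Sz F e} (ha : a * a = 1) (ha1 : a ≠ 1) :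
    ∃ x b, b ≠ (0 : F) ∧ x * a * x⁻¹ = P he 0 b := by
  have : Fact (Nat.Prime 2) := ⟨Nat.prime_two⟩
  obtain ⟨x, hx⟩ := exists_conj_u he (K := Subgroup.zpowers a)
    (IsPGroup.of_card (n := 1) (by
      rw [Nat.card_zpowers, pow_one, orderOf_eq_prime (by rw [pow_two, ha]) ha1]))
  obtain ⟨b, hb⟩ := exists_eq_centre he (hx a (Subgroup.mem_zpowers a))
    (by rw [show x * a * x⁻¹ * (x * a * x⁻¹) = x * (a * a) * x⁻¹ by group, ha, mul_one,
      mul_inv_cancel])
  refine ⟨x, b, fun e' => ha1 ?_, hb⟩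
  rw [e', P_zero, conj_eq_one_iff] at hb
  exact hb

/-- A 2-element centralising an involution centralises the involutions commuting with it. -/
theorem commute_of_commute (he : Twist F e) {a b g : Sz F e} (ha : a * a = 1) (ha1 : a ≠ 1)
    (hb : b * b = 1) (hab : Commute a b) {k : ℕ} (hk : g ^ 2 ^ k = 1) (hga : Commute g a) :
    Commute g b := by
  obtain ⟨x, β, hβ, hxa⟩ := exists_conj_centre he ha ha1
  have hgu := mem_u_of_commute he hβ (g := x * g * x⁻¹) (k := k)
    (by rw [conj_pow, hk, mul_one, mul_inv_cancel]) (hxa ▸ hga.conj x)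
  have hbu := mem_u_of_commute he hβ (g := x * b * x⁻¹) (k := 1)
    (by rw [conj_pow, pow_one, pow_two, hb, mul_one, mul_inv_cancel]) (hxa ▸ hab.symm.conj x)
  obtain ⟨γ, hγ⟩ := exists_eq_centre he hbu (by
    rw [show x * b * x⁻¹ * (x * b * x⁻¹) = x * (b * b) * x⁻¹ by group, hb, mul_one, mul_inv_cancel])
  exact (conj_commute_iff x).1 (hγ ▸ (centre_commute he γ hgu).symm)

/-- Two non-commuting involutions are centralised by no non-trivial 2-element. -/
theorem eq_one_of_commute_two (he : Twist F e) {a b g : Sz F e} (ha : a * a = 1) (hb : b * b = 1)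
    (hab : ¬ Commute a b) {k : ℕ} (hk : g ^ 2 ^ k = 1) (hga : Commute g a) (hgb : Commute g b) :
    g = 1 := by
  induction k generalizing g with
  | zero => simpa using hk
  | succ k ih =>
    have h2 : g ^ 2 = 1 := ih (by rw [← pow_mul, ← pow_succ']; exact hk) (hga.pow_left 2)
      (hgb.pow_left 2)
    by_contra h1
    exact hab (commute_of_commute he (g := a) (k := 1) (by rw [← pow_two, h2]) h1 hb hgb
      (by rw [pow_one, pow_two, ha]) hga.symm)

/-- The centraliser of a non-central element of a Sylow 2-subgroup is abelian. -/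
theorem not_two_pairs (he : Twist F e) {K : Subgroup (Sz F e)} (hK : IsPGroup 2 ↥K)
    {w₁ w₂ v₁ v₂ : Sz F e} (hw₁ : w₁ ∈ K) (hw₂ : w₂ ∈ K) (hv₁ : v₁ ∈ K) (hv₂ : v₂ ∈ K)
    (h₁ : Commute w₁ v₁) (h₂ : Commute w₂ v₁) (hw : ¬ Commute w₁ w₂) (hv : ¬ Commute v₁ v₂) :
    False := by
  obtain ⟨x, hx⟩ := exists_conj_u he hK
  obtain ⟨⟨a, b⟩, ha⟩ := hx w₁ hw₁
  obtain ⟨⟨a', b'⟩, ha'⟩ := hx w₂ hw₂
  obtain ⟨⟨c, d⟩, hc⟩ := hx v₁ hv₁
  obtain ⟨⟨c', d'⟩, hc'⟩ := hx v₂ hv₂
  rw [← conj_commute_iff x, ← ha, ← hc] at h₁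
  rw [← conj_commute_iff x, ← ha', ← hc] at h₂
  rw [← conj_commute_iff x, ← ha, ← ha'] at hw
  rw [← conj_commute_iff x, ← hc, ← hc'] at hv
  have e1 := eq_of_P_commute he (ne_zero_of_not_commute he hw) (ne_zero_of_not_commute he hv) h₁
  have e2 := eq_of_P_commute he (ne_zero_of_not_commute he fun h => hw h.symm)
    (ne_zero_of_not_commute he hv) h₂
  refine hw ((P_commute_iff he a b a' b').2 ?_)
  dsimp only at e1 e2
  rw [← e1, ← e2]

variable {m : ℕ}

theorem eq_one_of_pow_three [Fintype F] (he : Twist F e) (hm : 1 ≤ m)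
    (hF : Fintype.card F = 2 ^ (2 * m + 1)) {t : Sz F e} (ht : t ^ 3 = 1) : t = 1 := by
  have h3 := (params_of_card hm hF).mod_three
  have hnd : ¬ 3 ∣ Nat.card (Sz F e) := by
    rw [card_Sz he, Nat.dvd_iff_mod_eq_zero]
    have h1 : (Fintype.card F - 1) % 3 = 1 := by omega
    simp [Nat.mul_mod, Nat.pow_mod, Nat.add_mod, h3, h1]
  rw [← orderOf_eq_one_iff]
  rcases (Nat.dvd_prime Nat.prime_three).1 (orderOf_dvd_of_pow_eq_one ht) with h | h
  · exact h
  · exact absurd (h ▸ orderOf_dvd_natCard t) hnd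

/-- In the standard Sylow subgroup some commutator is moved by the torus. -/
theorem exists_moved_commutator [Fintype F] (he : Twist F e) (hm : 1 ≤ m)
    (hF : Fintype.card F = 2 ^ (2 * m + 1)) :
    ∃ g₁ ∈ uGroup he, ∃ g₂ ∈ uGroup he, ∃ (t : Sz F e) (β β' : F), β ≠ 0 ∧ β' ≠ 0 ∧ β' ≠ β ∧
      (∀ g ∈ uGroup he, t * g * t⁻¹ ∈ uGroup he) ∧ ⁅g₁, g₂⁆ = P he 0 β ∧
      t * P he 0 β * t⁻¹ = P he 0 β' := by
  obtain ⟨c, hc⟩ := exists_pow_ne he hm hF
  have hu : ∃ u : Fˣ, u ≠ 1 := by
    refine ⟨Units.mk0 c fun h => hc (by rw [h, zero_pow (Nat.ne_zero_of_lt he.one_lt)]), fun h => hc ?_⟩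
    rw [show c = 1 from congrArg Units.val h, one_pow]
  obtain ⟨u, hu⟩ := hu
  have h2 := he.two
  have hβ : c + c ^ e ≠ 0 := fun h => hc (by linear_combination h - h2 * c)
  have hu2 : (u : F) ^ (e + 2) ≠ 1 := fun h => hu (Units.ext (eq_one_of_pow_e2 he h))
  refine ⟨_, P_mem_uGroup he 1 0, _, P_mem_uGroup he c 0, H e he u, c + c ^ e,
    (u : F) ^ (e + 2) * (c + c ^ e), hβ, mul_ne_zero (pow_ne_zero _ u.ne_zero) hβ,
    fun h => hu2 (mul_right_cancel₀ hβ (by rw [one_mul]; exact h)), ?_, ?_, ?_⟩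
  · rintro _ ⟨⟨a, b⟩, rfl⟩
    rw [H_conj_P]
    exact P_mem_uGroup he _ _
  · simp only [commutatorElement_def, P_inv, P_mul, he.add_pow, one_pow]
    congr 1 <;> grind
  · rw [H_conj_P, mul_zero]

/-- The involutions of the centre of the standard Sylow subgroup are conjugate. -/
theorem exists_conj_eq (he : Twist F e) {b b' : F} (hb : b ≠ 0) (hb' : b' ≠ 0) :
    ∃ t : Sz F e, t * P he 0 b * t⁻¹ = P he 0 b' := by
  obtain ⟨t, ht⟩ := (units_pow_e2_bijective he).2 (Units.mk0 b' hb' / Units.mk0 b hb)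
  have ht' : (t : F) ^ (e + 2) = b' / b := by simpa using congrArg Units.val ht
  exact ⟨H e he t, by rw [H_conj_P, mul_zero, ht', div_mul_cancel₀ _ hb]⟩

/-- An automorphism of 2-power order is inner. -/
theorem inner_of_two_power [Fintype F] (he : Twist F e) (hm : 1 ≤ m)
    (hF : Fintype.card F = 2 ^ (2 * m + 1)) {α : MulAut (Sz F e)} {k : ℕ} (hk : α ^ 2 ^ k = 1) :
    ∃ y, α = MulAut.conj y := by
  haveI : Fact (Nat.Prime 2) := ⟨Nat.prime_two⟩
  haveI := charP_of_card_eq_prime_pow (p := 2) hF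
  letI := ZMod.algebra F 2
  haveI : Module.Finite (ZMod 2) F := Module.Finite.of_finite
  have hc := exists_pow_ne he hm hF
  obtain ⟨c, hc'⟩ := hc
  have hu : ∃ u : Fˣ, u ≠ 1 := by
    refine ⟨Units.mk0 c fun h => hc' (by rw [h, zero_pow (Nat.ne_zero_of_lt he.one_lt)]), fun h => hc' ?_⟩
    rw [show c = 1 from congrArg Units.val h, one_pow]
  obtain ⟨x, σ, rfl⟩ := exists_conj_fieldHom he ⟨c, hc'⟩ hu α
  have hpow : ∀ n : ℕ, ∃ y, (MulAut.conj x * fieldHom he σ) ^ n =
      MulAut.conj y * fieldHom he (σ ^ n) := by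
    intro n
    induction n with
    | zero => exact ⟨1, by simp⟩
    | succ n ih =>
      obtain ⟨y, hy⟩ := ih
      refine ⟨y * fieldHom he (σ ^ n) x, ?_⟩
      rw [pow_succ, hy, pow_succ, map_mul (fieldHom he), map_mul MulAut.conj]
      ext g
      simp [MulAut.mul_apply, map_mul, map_inv]
  obtain ⟨y, hy⟩ := hpow (2 ^ k)
  rw [hk] at hy
  have hσ : σ ^ 2 ^ k = 1 := fieldHom_eq_one_of_inner he _ y⁻¹ (by
    rw [map_inv]; exact eq_inv_of_mul_eq_one_right hy.symm)
  have hcard : Nat.card (F ≃+* F) = 2 * m + 1 := by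
    have h1 : Nat.card (F ≃+* F) = Module.finrank (ZMod 2) F := by
      rw [← IsGalois.card_aut_eq_finrank (ZMod 2) F]
      exact Nat.card_congr
        { toFun := fun σ => AlgEquiv.ofRingEquiv (f := σ) fun a =>
            RingHom.congr_fun (RingHom.ext_zmod ((σ : F →+* F).comp (algebraMap (ZMod 2) F)) _) a
          invFun := fun σ => σ.toRingEquiv
          left_inv := fun σ => RingEquiv.ext fun x => rfl
          right_inv := fun σ => AlgEquiv.ext fun x => rfl }
    have h2 : Nat.card F = 2 ^ Module.finrank (ZMod 2) F := by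
      rw [Module.natCard_eq_pow_finrank (K := ZMod 2), Nat.card_zmod]
    rw [Nat.card_eq_fintype_card, hF] at h2
    rw [h1, Nat.pow_right_injective le_rfl h2]
  have hσ1 : σ = 1 := by
    rw [← orderOf_eq_one_iff]
    refine Nat.eq_one_of_dvd_coprimes (Nat.Coprime.pow_left k ?_) (orderOf_dvd_of_pow_eq_one hσ)
      (hcard ▸ orderOf_dvd_natCard σ)
    exact Nat.coprime_two_left.2 (odd_two_mul_add_one m)
  exact ⟨x, by rw [hσ1, map_one, mul_one]⟩

end CfsgLib.Perm.OddConnected.SzTwo
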