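import Cfsg.Agent.Lib.Perm.OddTransposition.Unitary

/-!
# 2-elements generated by commuting involutions and one more in `PSU₃(2^k)`

Commuting involutions and one further involution fix a non-singular point, on whose orthogonal plane
a 2-element acts with square one.
-/

set_option autoImplicit false
set_option linter.unusedSectionVars false

open Module CfsgLib.Classical CfsgLib.KnownC.AutPSU

namespace CfsgLib.Perm.OddTransposition.Unitary

variable {F : Type*} [Field F] [CharP F 2] {V : Type*} [AddCommGroup V] [Module F V] {σ : F →+* F}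
  {B : V →ₛₗ[σ] V →ₗ[F] F} [hB : UCtx B]

include hB

/-- In the group of commuting involutions and one further involution 2-elements square to `1`. -/
theorem sq_eq_one (h3 : finrank F V = 3) (S : Set (PG B)) (hS : ∀ a ∈ S, a * a = 1)
    (hcomm : ∀ a ∈ S, ∀ b ∈ S, Commute a b) {d x : PG B} (hd : d ∈ S) (hx : x * x = 1)
    (hdx : ¬ Commute d x) {y : PG B} (hy : y ∈ Subgroup.closure (S ∪ {x})) {n : ℕ}
    (hn : y ^ 2 ^ n = 1) : y * y = 1 := by
  haveI := hB.fin; haveI := hB.findim
  have hlift : ∀ {a : PG B}, a * a = 1 → ∃ g : sIsom B, QuotientGroup.mk g = a ∧ g * g = 1 := by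
    intro a ha
    obtain ⟨g, h1, h2⟩ := exists_lift (B := B) (p := 2) (x := a) (by rwa [pow_two])
    exact ⟨g, h1, by rwa [pow_two] at h2⟩
  obtain ⟨g, rfl, hg⟩ := hlift (hS _ hd)
  obtain ⟨h, rfl, hh⟩ := hlift hx
  have hne : ∀ {k : sIsom B}, k = 1 → ∀ l : PG B, Commute (QuotientGroup.mk k) l := fun e l => by
    subst e; exact Commute.one_left l
  have hg1 : g ≠ 1 := fun e => hdx (hne e _)
  have hh1 : h ≠ 1 := fun e => hdx (hne e _).symm
  obtain ⟨r, hr0, hr, hgt, hgf⟩ := exists_centre h3 hg hg1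
  obtain ⟨s, hs0, hs, hht, hhf⟩ := exists_centre h3 hh hh1
  -- a line fixed by all generators
  have hrs : B r s ≠ 0 := by
    intro e
    obtain ⟨t, rfl⟩ := exists_smul_eq h3 hr0 hr hs e
    have ht : t ≠ 0 := fun e' => hs0 (by rw [e', zero_smul])
    have hff : ∀ z, h.1.1 z = z ↔ B r z = 0 := fun z => by
      rw [hhf, map_smulₛₗ, LinearMap.smul_apply, smul_eq_zero]
      exact or_iff_right ((map_ne_zero σ).2 ht)
    apply hdx
    have hc : Commute g h := by
      refine sisom_ext fun z => ?_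
      show g.1.1 (h.1.1 z) = h.1.1 (g.1.1 z)
      obtain ⟨a, ha⟩ := hgt z
      obtain ⟨b, hb⟩ := hht z
      simp only [hb, map_add, map_smul, ha, (hgf r).2 hr, (hff r).2 hr]
      abel
    exact hc.map (QuotientGroup.mk' (Subgroup.center (sIsom B)))
  have hind : LinearIndependent F ![r, s] := by
    rw [LinearIndependent.pair_iff' hr0]
    intro a e
    exact hrs (by rw [← e, map_smul, hr, smul_zero])
  set W := Submodule.span F (Set.range ![r, s]) with hW
  have hW1 : finrank F (perp B W) = 1 := by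
    have h1 := perp_finrank (B := B) W
    have h2 : finrank F W = 2 := by rw [hW, finrank_span_eq_card hind, Fintype.card_fin]
    omega
  obtain ⟨v, hv, hv0⟩ : ∃ v ∈ perp B W, v ≠ 0 := by
    refine Submodule.exists_mem_ne_zero_of_ne_bot fun e => ?_
    rw [e, finrank_bot] at hW1
    exact zero_ne_one hW1
  have hrv : B r v = 0 := (mem_perp.1 hv) r (Submodule.subset_span ⟨0, rfl⟩)
  have hsv : B s v = 0 := (mem_perp.1 hv) s (Submodule.subset_span ⟨1, rfl⟩)
  have hvv : B v v ≠ 0 := by
    intro e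
    obtain ⟨t, rfl⟩ := exists_smul_eq h3 hr0 hr e hrv
    rw [map_smul, smul_eq_mul] at hsv
    have ht : t ≠ 0 := fun e' => hv0 (by rw [e', zero_smul])
    exact hrs (form_refl (B := B) ((mul_eq_zero.1 hsv).resolve_left ht))
  -- the stabiliser of the line
  let L : Subgroup (sIsom B) :=
    { carrier := {k | ∃ a : F, k.1.1 v = a • v}
      one_mem' := ⟨1, (one_smul F v).symm⟩
      mul_mem' := by
        rintro k l ⟨a, ha⟩ ⟨b, hb⟩
        refine ⟨b * a, ?_⟩
        show k.1.1 (l.1.1 v) = _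
        rw [hb, map_smul, ha, smul_smul]
      inv_mem' := by
        rintro k ⟨a, ha⟩
        have ha0 : a ≠ 0 := fun e => hv0 (k.1.1.injective (by rw [ha, e, zero_smul, map_zero]))
        refine ⟨a⁻¹, k.1.1.injective ?_⟩
        show k.1.1 ((k⁻¹ : sIsom B).1.1 v) = k.1.1 (a⁻¹ • v)
        rw [map_smul, ha, inv_smul_smul₀ ha0]
        exact k.1.1.apply_symm_apply v }
  have hgen : Subgroup.closure (S ∪ {(QuotientGroup.mk h : PG B)}) ≤
      L.map (QuotientGroup.mk' (Subgroup.center (sIsom B))) := by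
    rw [Subgroup.closure_le]
    rintro a (ha | ha)
    · obtain ⟨k, rfl, hk⟩ := hlift (hS a ha)
      by_cases hk1 : k = 1
      · exact ⟨1, one_mem L, by rw [hk1]; rfl⟩
      obtain ⟨r', -, hr', -, hkf⟩ := exists_centre h3 hk hk1
      have hgk : g * k = k * g :=
        LocalEven.UnitaryThree.lift_commute (B := B) (p := 2) (g := g) (u := k)
          (by rw [show 2 * 2 = 2 + 2 from rfl, pow_add, pow_two, hk, one_mul]) (hcomm _ hd _ ha)
      obtain ⟨t, rfl⟩ := centre_eq h3 hk hgk hr0 hr hg1 hgt hr' hkf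
      refine ⟨k, ⟨1, ?_⟩, rfl⟩
      rw [one_smul, hkf, map_smulₛₗ, LinearMap.smul_apply, hrv, smul_zero]
    · rw [Set.mem_singleton_iff] at ha
      subst ha
      exact ⟨h, ⟨1, by rw [one_smul, hhf]; exact hsv⟩, rfl⟩
  haveI : Fact (Nat.Prime 2) := ⟨Nat.prime_two⟩
  -- a lift of 2-power order fixing the point
  obtain ⟨u, hu, hun⟩ := exists_lift_pow (B := B) (p := 2) (x := y) (i := n + 1) (Nat.succ_ne_zero n)
    (by rw [pow_succ, pow_mul, hn, one_pow])
  obtain ⟨k, ⟨a, ha⟩, hke⟩ := hgen hy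
  rw [← hu] at hke
  obtain ⟨z, hz, hkz⟩ : ∃ z ∈ Subgroup.center (sIsom B), u = k * z :=
    ⟨k⁻¹ * u, QuotientGroup.eq.1 hke, (mul_inv_cancel_left _ _).symm⟩
  obtain ⟨b, hb⟩ : ∃ b : F, z.1.1 v = b • v := by
    obtain ⟨a₁, ha₁⟩ := maps_centre (g := g) (k := z) (Subgroup.mem_center_iff.1 hz g) hg1 hgt
    obtain ⟨a₂, ha₂⟩ := maps_centre (g := h) (k := z) (Subgroup.mem_center_iff.1 hz h) hh1 hht
    have hz0 : ∀ {y : V} {a : F}, z.1.1 y = a • y → y ≠ 0 → B y v = 0 → B y (z.1.1 v) = 0 := by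
      intro y a hy hy0 hyv
      have ha0 : a ≠ 0 := fun e => hy0 (z.1.1.injective (by rw [hy, e, zero_smul, map_zero]))
      have h4 := z.1.2 y v
      rw [hy, map_smulₛₗ, LinearMap.smul_apply, hyv, smul_eq_zero] at h4
      exact h4.resolve_left ((map_ne_zero σ).2 ha0)
    have hzv : z.1.1 v ∈ perp B W := by
      rw [mem_perp]
      intro w hw
      induction hw using Submodule.span_induction with
      | mem y hy =>
        obtain ⟨i, rfl⟩ := hy
        fin_cases i
        · exact hz0 ha₁ hr0 hrv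
        · exact hz0 ha₂ hs0 hsv
      | zero => simp
      | add p q _ _ ihp ihq => rw [map_add, LinearMap.add_apply, ihp, ihq, add_zero]
      | smul e p _ ih => rw [map_smulₛₗ, LinearMap.smul_apply, ih, smul_zero]
    obtain ⟨b, hb⟩ := (finrank_eq_one_iff_of_nonzero' (⟨v, hv⟩ : perp B W)
      fun e => hv0 (congrArg Subtype.val e)).1 hW1 ⟨_, hzv⟩
    exact ⟨b, (congrArg Subtype.val hb).symm⟩
  have huv : u.1.1 v = (a * b) • v := by
    rw [hkz]
    show k.1.1 (z.1.1 v) = _
    rw [hb, map_smul, ha, smul_smul, mul_comm]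
  obtain ⟨N, hN⟩ : ∃ N : Module.End F V, ∀ w, N w = u.1.1 w + w :=
    ⟨u.1.1.toLinearMap + LinearMap.id, fun w => rfl⟩
  have hiter : ∀ (j : ℕ) (w : V), (N ^ 2 ^ j) w = (u ^ 2 ^ j).1.1 w + w := by
    intro j
    induction j with
    | zero => intro w; rw [pow_zero, pow_one, pow_one, hN]
    | succ j ih =>
      intro w
      rw [show 2 ^ (j + 1) = 2 ^ j + 2 ^ j by rw [pow_succ]; ring, pow_add, pow_add]
      show (N ^ 2 ^ j) ((N ^ 2 ^ j) w) = (u ^ 2 ^ j).1.1 ((u ^ 2 ^ j).1.1 w) + w
      rw [ih, ih, map_add]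
      have h2 := add_self_zero (F := F) ((u ^ 2 ^ j).1.1 w)
      calc _ = (u ^ 2 ^ j).1.1 ((u ^ 2 ^ j).1.1 w) +
            ((u ^ 2 ^ j).1.1 w + (u ^ 2 ^ j).1.1 w) + w := by abel
        _ = _ := by rw [h2, add_zero]
  have hnil : N ^ 2 ^ (n + 1) = 0 := by
    refine LinearMap.ext fun w => ?_
    rw [hiter, hun]
    exact add_self_zero (F := F) w
  have hNv : N v = 0 := by
    rw [hN, huv]
    have h1 : ∀ j : ℕ, ((u ^ j).1.1 v) = (a * b) ^ j • v := by
      intro j
      induction j with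
      | zero => rw [pow_zero, pow_zero, one_smul]; rfl
      | succ j ih =>
        rw [pow_succ, pow_succ]
        show (u ^ j).1.1 (u.1.1 v) = _
        rw [huv, map_smul, ih, smul_smul, mul_comm]
    have h2 := h1 (2 ^ (n + 1))
    rw [hun, show ((1 : sIsom B).1.1 v) = v from rfl] at h2
    have h5 : (a * b) ^ 2 ^ (n + 1) = 1 := smul_left_injective F hv0 (by simpa using h2.symm)
    have h6 : (a * b + 1) ^ 2 ^ (n + 1) = 0 := by
      rw [add_pow_char_pow, h5, one_pow, CharTwo.add_self_eq_zero]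
    have h7 : a * b = 1 := by
      linear_combination (pow_eq_zero_iff (pow_ne_zero _ (two_ne_zero (α := ℕ)))).1 h6 -
        CharTwo.two_eq_zero (R := F)
    rw [h7, one_smul, add_self_zero (F := F)]
  have hfix : u.1.1 v = v := by
    have h1 := hN v
    rw [hNv] at h1
    calc u.1.1 v = u.1.1 v + (v + v) := by rw [add_self_zero (F := F), add_zero]
      _ = v := by rw [← add_assoc, ← h1, zero_add]
  have hrng : ∀ w, B v (N w) = 0 := fun w => by
    rw [hN, map_add]
    have h1 := u.1.2 v w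
    rw [hfix] at h1
    rw [h1, CharTwo.add_self_eq_zero]
  set W' : Submodule F V := perp B (F ∙ v) with hW'
  have hmemW : ∀ w, w ∈ W' ↔ B v w = 0 := fun w => by
    rw [hW', mem_perp]
    refine ⟨fun h => h v (Submodule.mem_span_singleton_self v), fun h y hy => ?_⟩
    obtain ⟨c, rfl⟩ := Submodule.mem_span_singleton.1 hy
    rw [map_smulₛₗ, LinearMap.smul_apply, h, smul_zero]
  let M : Module.End F W' := N.restrict fun w _ => (hmemW _).2 (hrng w)
  have hM : ∀ (j : ℕ) (w : W'), (((M ^ j) w : W') : V) = (N ^ j) w := by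
    intro j
    induction j with
    | zero => intro w; rfl
    | succ j ih =>
      intro w
      rw [pow_succ, pow_succ]
      exact ih (M w)
  have hM2 : ∀ w : W', (M ^ 2) w = 0 := by
    intro w
    have hfr : finrank F W' = 2 := by
      have h1 := perp_finrank (B := B) (F ∙ v)
      rw [finrank_span_singleton hv0, h3] at h1
      rw [hW']; omega
    have hle := Module.End.ker_pow_le_ker_pow_finrank M (2 ^ (n + 1))
    rw [hfr] at hle
    exact hle (LinearMap.mem_ker.2 (Subtype.ext (by rw [hM, hnil]; rfl)))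
  have hN2 : ∀ w, N (N w) = 0 := by
    intro w
    have hw' : w - (B v w * (B v v)⁻¹) • v ∈ W' := by
      rw [hmemW, map_sub, map_smul, smul_eq_mul, mul_assoc, inv_mul_cancel₀ hvv, mul_one, sub_self]
    have h4 := congrArg Subtype.val (hM2 ⟨_, hw'⟩)
    rw [hM, pow_two] at h4
    simpa [map_sub, map_smul, hNv] using h4
  have hu2 : u * u = 1 := by
    refine sisom_ext fun w => ?_
    show u.1.1 (u.1.1 w) = w
    have h1 := hN2 w
    rw [hN w, map_add, hN, hN] at h1
    have h2 : u.1.1 (u.1.1 w) + w + (u.1.1 w + u.1.1 w) = 0 := by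
      rw [← h1]; abel
    rw [add_self_zero (F := F), add_zero] at h2
    calc u.1.1 (u.1.1 w) = u.1.1 (u.1.1 w) + (w + w) := by rw [add_self_zero (F := F), add_zero]
      _ = w := by rw [← add_assoc, h2, zero_add]
  rw [← hu, ← QuotientGroup.mk_mul, hu2]
  rfl

end CfsgLib.Perm.OddTransposition.Unitary
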