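import Cfsg.Agent.Lib.Perm.OddConnected.Span
import Cfsg.Agent.Lib.Perm.OddConnected.SuzukiTwo
import Cfsg.Agent.Lib.Perm.OddConnected.LTwo
import Cfsg.Agent.Lib.Perm.OddConnected.UnitaryTwo

/-!
# The rank one group of a disconnected local subset

A local subset generates a group whose quotient by the 2-core and the centre is a rank one group;
whatever normalises the subset acts on it. A pair with a 2-element of non-central square forces this
quotient to be a Suzuki group, where 2-groups act by inner automorphisms.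
-/

set_option autoImplicit false
set_option linter.style.haveILetI false

namespace CfsgLib.Perm.OddConnected

open Cfsg CfsgLib.Perm.RootInvolution CfsgLib.Perm.OddTransposition

universe u

variable {G : Type u} [Group G]

/-- The quotient of the group of `S` by its 2-core and then by the centre. -/
abbrev Quot0 (S : Set G) : Type u := Quot' S ⧸ Subgroup.center (Quot' S)

/-- The projection to the rank one quotient. -/
def proj0 (S : Set G) : ↥(Subgroup.closure S) →* Quot0 S :=
  (QuotientGroup.mk' _).comp (proj S)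

theorem proj0_surjective (S : Set G) : Function.Surjective (proj0 S) :=
  (QuotientGroup.mk'_surjective _).comp (proj_surjective S)

/-- The elements normalising `S`. -/
def stab (S : Set G) : Subgroup G where
  carrier := {g | (∀ a ∈ S, g * a * g⁻¹ ∈ S) ∧ ∀ a ∈ S, g⁻¹ * a * g ∈ S}
  one_mem' := ⟨fun a ha => by simpa, fun a ha => by simpa⟩
  mul_mem' := by
    rintro g k ⟨h1, h2⟩ ⟨h3, h4⟩
    refine ⟨fun a ha => ?_, fun a ha => ?_⟩
    · have := h1 _ (h3 a ha)
      simpa [mul_assoc] using this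
    · have := h4 _ (h2 a ha)
      simpa [mul_assoc] using this
  inv_mem' := by
    rintro g ⟨h1, h2⟩
    exact ⟨fun a ha => by simpa using h2 a ha, fun a ha => by simpa using h1 a ha⟩

theorem mem_stab_nbr {D : Set G} (hD : IsRootInvolutionSet D) {c g : G} (hg : Commute g c) :
    g ∈ stab (Nbr D c) := by
  constructor <;> intro a ha
  · have := nbr_conj_mem hD g ha
    rwa [hg.eq, mul_inv_cancel_right] at this
  · have := nbr_conj_mem hD g⁻¹ ha
    rwa [hg.inv_left.eq, mul_inv_cancel_right, inv_inv] at this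

theorem conj_mem_closure {S : Set G} {g y : G} (hg : g ∈ stab S) (hy : y ∈ Subgroup.closure S) :
    g * y * g⁻¹ ∈ Subgroup.closure S := by
  have : Subgroup.closure S ≤ (Subgroup.closure S).comap (MulAut.conj g).toMonoidHom :=
    (Subgroup.closure_le _).2 fun a ha => Subgroup.subset_closure (hg.1 a ha)
  exact this hy

/-- Conjugation by an element normalising `S` as an automorphism of its group. -/
def conjAut (S : Set G) (g : ↥(stab S)) : MulAut ↥(Subgroup.closure S) where
  toFun y := ⟨g * y * (g : G)⁻¹, conj_mem_closure g.2 y.2⟩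
  invFun y := ⟨(g : G)⁻¹ * y * g, by simpa using conj_mem_closure (inv_mem g.2) y.2⟩
  left_inv y := Subtype.ext (by simp [mul_assoc])
  right_inv y := Subtype.ext (by simp [mul_assoc])
  map_mul' y z := Subtype.ext (by simp [mul_assoc])

theorem conjAut_ker [Finite G] (S : Set G) (g : ↥(stab S)) :
    (Cfsg.pCore 2 ↥(Subgroup.closure S)).map (conjAut S g).toMonoidHom =
      Cfsg.pCore 2 ↥(Subgroup.closure S) := by
  haveI : Fact (Nat.Prime 2) := ⟨Nat.prime_two⟩
  have key : ∀ y, y ∈ Cfsg.pCore 2 ↥(Subgroup.closure S) ↔ (y : G) ∈ coreOf S := fun y => by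
    rw [← proj_eq_one_iff, proj, QuotientGroup.mk'_apply, QuotientGroup.eq_one_iff]
  ext z
  constructor
  · rintro ⟨y, hy, rfl⟩
    exact (key _).2 (conj_coreOf g.2.1 g.2.2 ((key y).1 hy))
  · intro hz
    refine ⟨(conjAut S g).symm z, (key _).2 ?_, (conjAut S g).apply_symm_apply z⟩
    have h := conj_coreOf (g := (g : G)⁻¹) (by simpa using g.2.2) (by simpa using g.2.1)
      ((key z).1 hz)
    simpa [conjAut] using h

theorem center_map {A : Type*} [Group A] (e : A ≃* A) :
    (Subgroup.center A).map e.toMonoidHom = Subgroup.center A := by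
  ext z
  constructor
  · rintro ⟨y, hy, rfl⟩
    refine Subgroup.mem_center_iff.2 fun w => ?_
    obtain ⟨w, rfl⟩ := e.surjective w
    show e w * e y = e y * e w
    rw [← map_mul, ← map_mul, Subgroup.mem_center_iff.1 hy w]
  · intro hz
    refine ⟨e.symm z, Subgroup.mem_center_iff.2 fun w => e.injective ?_, e.apply_symm_apply z⟩
    rw [map_mul, map_mul, e.apply_symm_apply, Subgroup.mem_center_iff.1 hz]

/-- The action on the rank one quotient. -/
noncomputable def act [Finite G] (S : Set G) : ↥(stab S) →* MulAut (Quot0 S) :=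
  MonoidHom.mk'
    (fun g => QuotientGroup.congr _ _
      (QuotientGroup.congr _ _ (conjAut S g) (conjAut_ker S g)) (center_map _))
    fun g k => by
      refine MulEquiv.ext fun q => ?_
      obtain ⟨y, rfl⟩ := proj0_surjective S q
      show QuotientGroup.mk (QuotientGroup.mk (conjAut S (g * k) y)) =
        QuotientGroup.mk (QuotientGroup.mk (conjAut S g (conjAut S k y)))
      congr 2
      exact Subtype.ext (by simp [conjAut, mul_assoc])

theorem act_apply [Finite G] (S : Set G) (g : ↥(stab S)) (y : ↥(Subgroup.closure S)) :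
    act S g (proj0 S y) = proj0 S ⟨g * y * (g : G)⁻¹, conj_mem_closure g.2 y.2⟩ := rfl

/-- A 2-element trivial in the rank one quotient lies in the core. -/
theorem mem_core_of_proj0 [Finite G] {S : Set G} {y : ↥(Subgroup.closure S)} {k : ℕ}
    (hk : y ^ 2 ^ k = 1) (h : proj0 S y = 1) : (y : G) ∈ coreOf S :=
  proj_eq_one_iff.1 (eq_one_of_central_two (k := k) (by rw [← map_pow, hk, map_one])
    ((QuotientGroup.eq_one_iff _).1 h))

variable [Finite G] {D : Set G}

namespace Local

variable {S : Set G} (h : Local D S) (hD : IsOddTranspositionSet D)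
include h hD

theorem commute_proj0_iff {a b : G} (ha : a ∈ S) (hb : b ∈ S) :
    Commute (proj0 S (el ha)) (proj0 S (el hb)) ↔ Commute a b := by
  refine ⟨fun hc => by_contra fun hn => ?_,
    fun hc => (show Commute (el ha) (el hb) from Subtype.ext hc).map _⟩
  obtain ⟨-, -, -, hodd⟩ := adj_of_not_commute hD (h.subset ha) (h.subset hb) hn
  have hsq : ∀ {c : G} (hc : c ∈ S), el hc * el hc = (1 : ↥(Subgroup.closure S)) :=
    fun hc => Subtype.ext (sq_one hD.1 (h.subset hc))
  have h2 : proj0 S (el ha * el hb) ^ 2 = 1 := by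
    rw [pow_two, map_mul, hc.symm.mul_mul_mul_comm, ← map_mul, ← map_mul, hsq ha, hsq hb,
      map_one, one_mul]
  have h1 : proj0 S (el ha * el hb) = 1 := by
    rw [← orderOf_eq_one_iff]
    refine Nat.eq_one_of_dvd_coprimes (Nat.coprime_two_right.2 hodd) ?_
      (orderOf_dvd_of_pow_eq_one h2)
    rw [show orderOf (a * b) = orderOf (el ha * el hb) from Subgroup.orderOf_coe (el ha * el hb)]
    exact orderOf_map_dvd _ _
  have hcen : proj S (el ha) * proj S (el hb) ∈ Subgroup.center (Quot' S) := by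
    rw [← map_mul]; exact (QuotientGroup.eq_one_iff _).1 h1
  refine hn ((h.commute_proj_iff hD ha hb).1 ?_)
  have e := Subgroup.mem_center_iff.1 hcen (proj S (el ha))
  rw [mul_assoc (proj S (el ha)) (proj S (el hb))] at e
  exact mul_left_cancel e

theorem eq_of_proj0 {a b : G} (ha : a ∈ S) (hb : b ∈ S) (hab : Commute a b)
    (he : proj0 S (el ha) = proj0 S (el hb)) : proj S (el ha) = proj S (el hb) := by
  have hsq : ∀ {c : G} (hc : c ∈ S), el hc * el hc = (1 : ↥(Subgroup.closure S)) :=
    fun hc => Subtype.ext (sq_one hD.1 (h.subset hc))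
  have h1 : proj S (el ha * el hb) = 1 := by
    refine eq_one_of_central_two (k := 1) ?_ ((QuotientGroup.eq_one_iff _).1 ?_)
    · rw [← map_pow, pow_one, pow_two,
        (show Commute (el hb) (el ha) from Subtype.ext hab.symm.eq).mul_mul_mul_comm, hsq ha, hsq hb,
        one_mul, map_one]
    · show proj0 S (el ha * el hb) = 1
      rw [map_mul, he, ← map_mul, hsq hb, map_one]
  rw [map_mul, mul_eq_one_iff_eq_inv, ← map_inv] at h1
  rw [h1]
  exact congrArg _ (inv_eq_of_mul_eq_one_left (hsq hb))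

theorem proj0_ne_one {a : G} (ha : a ∈ S) : proj0 S (el ha) ≠ 1 := fun e =>
  h.not_mem_core hD ha (mem_core_of_proj0 (k := 1)
    (Subtype.ext (by rw [pow_one, pow_two]; exact sq_one hD.1 (h.subset ha))) e)

theorem structure0 (hc : ¬ IsConnectedSet (CommAdj (lift S)) (lift S)) :
    (∃ (F : Type) (_ : Field F) (_ : Fintype F), CharP F 2 ∧ 4 ≤ Fintype.card F ∧
      Nonempty (Quot0 S ≃* Matrix.ProjectiveSpecialLinearGroup (Fin 2) F)) ∨
    Lie.IsoSuzuki (Quot0 S) ∨
    (∃ (F : Type) (_ : Field F) (_ : Fintype F) (q : ℕ), CharP F 2 ∧ Fintype.card F = q ^ 2 ∧ 4 ≤ q ∧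
      Nonempty (Quot0 S ≃* PSU 3 F q)) := by
  obtain ⟨R, hR⟩ := h.exists_setup hD hc
  exact hR.structure_mod_center LocalEven.TIEndgame.tiStep

end Local

theorem center_sz {F : Type} [Field F] [Fintype F] {m : ℕ} (hm : 1 ≤ m)
    (hF : Fintype.card F = 2 ^ (2 * m + 1)) :
    Subgroup.center (Cfsg.Lie.Sz F (2 ^ (m + 1))) = ⊥ := by
  have he := CfsgLib.KnownB.SzElem.twist_of_card hF
  obtain ⟨c, hc⟩ := KnownB.Suzuki.exists_pow_ne he hm hF
  have hu : ∃ u : Fˣ, u ≠ 1 := by
    refine ⟨Units.mk0 c fun h => hc (by rw [h, zero_pow (Nat.ne_zero_of_lt he.one_lt)]),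
      fun h => hc ?_⟩
    rw [show c = 1 from congrArg Units.val h, one_pow]
  haveI := KnownB.Suzuki.isSimpleGroup he hu
  rcases IsSimpleGroup.eq_bot_or_eq_top_of_normal _
    (inferInstance : (Subgroup.center (Cfsg.Lie.Sz F (2 ^ (m + 1)))).Normal) with h | h
  · exact h
  · exfalso
    have h1 := Subgroup.mem_center_iff.1 (h.symm ▸ Subgroup.mem_top (KnownB.Suzuki.P he c 0) :
      KnownB.Suzuki.P he c 0 ∈ Subgroup.center _) (KnownB.Suzuki.P he 1 0)
    have h2 := (SzTwo.P_commute_iff he 1 0 c 0).1 h1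
    rw [one_pow, one_mul, mul_one] at h2
    exact hc h2.symm

/-- A 2-group normalising `S` acts on a Suzuki quotient by inner automorphisms. -/
theorem exists_inner {S : Set G} {F : Type} [Field F] [Fintype F] {m : ℕ} (hm : 1 ≤ m)
    (hF : Fintype.card F = 2 ^ (2 * m + 1)) (φ : Quot0 S ≃* Cfsg.Lie.Sz F (2 ^ (m + 1)))
    {K : Subgroup G} (hK : IsPGroup 2 ↥K) (hKS : K ≤ stab S) :
    ∃ γ : ↥K →* Cfsg.Lie.Sz F (2 ^ (m + 1)),
      (∀ (k : ↥K) (y : ↥(Subgroup.closure S)),
        φ (proj0 S ⟨k * y * (k : G)⁻¹, conj_mem_closure (hKS k.2) y.2⟩) =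
          γ k * φ (proj0 S y) * (γ k)⁻¹) ∧
      ∀ (k : ↥K) (hk : (k : G) ∈ Subgroup.closure S), γ k = φ (proj0 S ⟨k, hk⟩) := by
  have he := CfsgLib.KnownB.SzElem.twist_of_card hF
  set χ : ↥K →* MulAut (Cfsg.Lie.Sz F (2 ^ (m + 1))) :=
    (MulAut.congr φ).toMonoidHom.comp ((act S).comp (Subgroup.inclusion hKS)) with hχ
  have hin : ∀ k, ∃ y, χ k = MulAut.conj y := fun k => by
    obtain ⟨j, hj⟩ := hK k
    exact SzTwo.inner_of_two_power he hm hF (k := j) (by rw [← map_pow, hj, map_one])
  choose γ hγ using hin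
  have hinj : ∀ y z : Cfsg.Lie.Sz F (2 ^ (m + 1)), MulAut.conj y = MulAut.conj z → y = z := by
    intro y z e
    have h1 : z⁻¹ * y ∈ Subgroup.center (Cfsg.Lie.Sz F (2 ^ (m + 1))) := by
      refine Subgroup.mem_center_iff.2 fun w => ?_
      have := DFunLike.congr_fun e w
      simp only [MulAut.conj_apply] at this
      calc w * (z⁻¹ * y) = z⁻¹ * (z * w * z⁻¹) * y := by group
        _ = z⁻¹ * (y * w * y⁻¹) * y := by rw [this]
        _ = z⁻¹ * y * w := by group
    rw [center_sz hm hF, Subgroup.mem_bot, inv_mul_eq_one] at h1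
    exact h1.symm
  refine ⟨MonoidHom.mk' γ fun k l => hinj _ _ ?_, fun k y => ?_, fun k hk => hinj _ _ ?_⟩
  · rw [← hγ, map_mul, map_mul, hγ, hγ]
  · have h := DFunLike.congr_fun (hγ k) (φ (proj0 S y))
    rw [MulAut.conj_apply] at h
    rw [show ((MonoidHom.mk' γ _ : ↥K →* _)) k = γ k from rfl, ← h]
    show _ = φ (act S (Subgroup.inclusion hKS k) (φ.symm (φ (proj0 S y))))
    rw [φ.symm_apply_apply]
    rfl
  · rw [show ((MonoidHom.mk' γ _ : ↥K →* _)) k = γ k from rfl, ← hγ]
    refine MulEquiv.ext fun w => ?_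
    obtain ⟨y, hy⟩ := proj0_surjective S (φ.symm w)
    show φ (act S (Subgroup.inclusion hKS k) (φ.symm w)) = _
    rw [MulAut.conj_apply, ← hy, act_apply]
    conv_rhs => rw [← φ.apply_symm_apply w, ← hy, ← map_inv, ← map_mul, ← map_mul, ← map_inv,
      ← map_mul, ← map_mul]
    rfl

end CfsgLib.Perm.OddConnected
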