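import Cfsg.Agent.Lib.Perm.OddConnected.Exclude

/-!
# A class and a partner generate `L₂(q)`

The group is `L₂(q)` modulo its central 2-core; its Sylow 2-subgroup, the class with the core, is
abelian, so the transfer kills the core, and the class with `1` is the full root group.
-/

set_option autoImplicit false
set_option linter.style.haveILetI false

namespace CfsgLib.Perm.OddConnected

open Cfsg CfsgLib.Perm.RootInvolution CfsgLib.Perm.OddTransposition CfsgLib.Classical
open scoped MatrixGroups

universe u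

variable {G : Type u} [Group G] [Finite G] {D : Set G} (hyp : Hyp D)
include hyp

theorem Hyp.class_subgroup {d : G} (hd : d ∈ D) :
    (sameCommutingSubgroup D d : Set G) = sameCommutingClass D d ∪ {1} := by
  refine Set.Subset.antisymm (fun g hg => ?_) ?_
  · induction hg using Subgroup.closure_induction with
    | mem y hy => exact Or.inl hy
    | one => exact Or.inr rfl
    | mul y z _ _ ihy ihz =>
      rcases ihy with hy | hy
      · rcases ihz with hz | hz
        · by_cases hyz : y = z
          · exact Or.inr (hyz ▸ sq_one hyp.odd.1 hy.1)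
          · have hm := hyp.good.mulMem y z hy.1 hz.1 (hy.2.symm.trans hz.2) hyz
            have ht : Tri D y z := ⟨hy.1, hz.1, class_commute hy hz, hm⟩
            exact Or.inl ⟨hm, hy.2.trans (Tri.same hyp.odd (ht.third' hyp.odd.1)).symm⟩
        · rw [Set.mem_singleton_iff.1 hz, mul_one]; exact Or.inl hy
      · rw [Set.mem_singleton_iff.1 hy, one_mul]; exact ihz
    | inv y _ ih =>
      rcases ih with hy | hy
      · exact Or.inl ((inv_eq hyp.odd.1 hy.1).symm ▸ hy)
      · exact Or.inr (by rw [Set.mem_singleton_iff.1 hy, inv_one]; rfl)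
  · rintro g (hg | hg)
    · exact Subgroup.subset_closure hg
    · exact Set.mem_singleton_iff.1 hg ▸ one_mem _

theorem Hyp.root_group {d x : G} (hd : d ∈ D) (hx : x ∈ D) (hdx : ¬ Commute d x) :
    ∃ (F : Type) (_ : Field F) (_ : Fintype F),
      Fintype.card F = Nat.card ↥(sameCommutingSubgroup D d) ∧
      Nonempty (↥(pairGroup D d x) ≃* Matrix.ProjectiveSpecialLinearGroup (Fin 2) F) := by
  classical
  obtain ⟨hxS, hES⟩ := hyp.mem_span hd hx hdx
  have hloc := hyp.local_span hd hx hdx
  rcases hyp.span_type hd hx hdx with ⟨F, iF, iF', hch, h4, ⟨φ⟩⟩ | hs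
  swap
  · exact absurd (hyp.bad_of_suzuki hd hx hdx hs) (hyp.not_bad hd hx hdx)
  refine ⟨F, iF, iF', ?_⟩
  haveI := hch
  obtain ⟨ψ⟩ := LTwo.exists_equiv (F := F)
  set S := span D d x with hS
  have hdS : d ∈ S := hES d ⟨hd, rfl⟩
  have hsq : ∀ {q : G} (hq : q ∈ S), el hq * el hq = (1 : ↥(Subgroup.closure S)) :=
    fun hq => Subtype.ext (sq_one hyp.odd.1 (hloc.subset hq))
  obtain ⟨s, c₀, hc₀, hs⟩ := LTwo.exists_conj_ne (a := ψ (φ (proj S (el hdS))))
    (by rw [← map_mul, ← map_mul, ← map_mul, hsq hdS, map_one, map_one, map_one])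
    fun h => hloc.not_mem_core hyp.odd hdS ((proj_eq_one_iff (x := el hdS)).1
      (φ.injective (ψ.injective (h.trans (by rw [map_one, map_one])))))
  set π : ↥(Subgroup.closure S) →* SL(2, F) :=
    ((φ.trans ψ).trans (MulAut.conj s)).toMonoidHom.comp (proj S) with hπ
  have hπs : Function.Surjective π :=
    ((φ.trans ψ).trans (MulAut.conj s)).surjective.comp (proj_surjective S)
  have hπk : ∀ {y z}, π y = π z → proj S y = proj S z := fun h =>
    ((φ.trans ψ).trans (MulAut.conj s)).injective h
  have hπd : π (el hdS) = uSL (Multiplicative.ofAdd c₀) := hs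
  -- the root group maps onto the unitriangular group
  have hU : ∀ w ∈ unipSL F, w = 1 ∨
      ∃ q, ∃ hq : q ∈ sameCommutingClass D d, π (el (hES q hq)) = w := by
    intro w hw
    by_cases hw1 : w = 1
    · exact Or.inl hw1
    refine Or.inr ?_
    obtain ⟨z, hz⟩ := isConj_iff.1 (LTwo.isConj_of_invol (a := π (el hdS)) (b := w)
      (by rw [← map_mul, hsq hdS, map_one])
      (fun h => hloc.not_mem_core hyp.odd hdS ((proj_eq_one_iff (x := el hdS)).1
        ((hπk (h.trans (map_one π).symm)).trans (map_one _)))) (LTwo.u_sq hw) hw1)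
    obtain ⟨⟨t, ht⟩, rfl⟩ := hπs z
    have hq : t * d * t⁻¹ ∈ S := closure_normalises hyp.odd.1 hloc.subset hloc.conj ht hdS
    have hqπ : π (el hq) = w := by
      rw [← hz, ← map_inv, ← map_mul, ← map_mul]
      rfl
    have hqd : Commute (t * d * t⁻¹) d := by
      refine (hloc.commute_proj_iff hyp.odd hq hdS).1 ?_
      have h := LTwo.u_commute hw (g := w) (k := π (el hdS))
        (hπd ▸ LTwo.mem_u_iff.2 ⟨c₀, rfl⟩)
      rw [← hqπ] at h
      have h' := h.map ((φ.trans ψ).trans (MulAut.conj s)).symm.toMonoidHom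
      simpa [hπ, mul_assoc] using h'
    exact ⟨_, ⟨hq.1.1, hyp.spanProp d x _ hd hx hdx hq.1.1 hq.1.2 hqd⟩, hqπ⟩
  have hEU : ∀ q (hq : q ∈ sameCommutingClass D d), π (el (hES q hq)) ∈ unipSL F := fun q hq => by
    refine LTwo.mem_u_of_commute hc₀ ?_
    rw [← hπd]
    exact (show Commute (el (hES q hq)) (el hdS) from
      Subtype.ext (class_commute hq ⟨hd, rfl⟩).eq).map π
  -- the preimage is abelian
  have hkercomm : ∀ {y : ↥(Subgroup.closure S)}, π y = 1 → ∀ z, Commute y z := fun {y} hy z =>
    Subtype.ext (hyp.core_central hd hx hdx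
      ((proj_eq_one_iff).1 ((hπk (hy.trans (map_one π).symm)).trans (map_one _)))
      (hyp.closure_span hd hx hdx ▸ z.2)).eq
  set P := (unipSL F).comap π with hP
  have hPdec : ∀ y ∈ P, ∃ q : ↥(Subgroup.closure S), ∃ z, π z = 1 ∧ y = q * z ∧
      (q : G) ∈ sameCommutingSubgroup D d := by
    intro y hy
    rcases hU _ hy with h1 | ⟨q, hq, hqy⟩
    · exact ⟨1, y, h1, (one_mul y).symm, one_mem _⟩
    · refine ⟨el (hES q hq), (el (hES q hq))⁻¹ * y, ?_, (mul_inv_cancel_left _ _).symm,
        Subgroup.subset_closure hq⟩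
      rw [map_mul, map_inv, hqy, inv_mul_cancel]
  have hPcomm : ∀ y ∈ P, ∀ w ∈ P, Commute y w := by
    intro y hy w hw
    obtain ⟨q, z, hz, rfl, hq⟩ := hPdec y hy
    obtain ⟨q', z', hz', rfl, hq'⟩ := hPdec w hw
    have h : Commute (q : G) (q' : G) := congrArg Subtype.val
      ((Subgroup.isMulCommutative_closure (fun a ha b hb => (class_commute ha hb).eq)).1.comm
        ⟨(q : G), hq⟩ ⟨(q' : G), hq'⟩)
    have hqq : Commute q q' := Subtype.ext h.eq
    exact (hqq.mul_right (hkercomm hz' q).symm).mul_left (hkercomm hz _)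
  have hodd : Odd P.index := by
    rw [hP, Subgroup.index_comap_of_surjective _ hπs]
    exact LTwo.index_odd
  -- the transfer kills the kernel
  have hcore : ∀ z : ↥(Subgroup.closure S), π z = 1 → z = 1 := by
    intro z hz
    have hzP : z ∈ P := show π z ∈ unipSL F from hz ▸ one_mem _
    letI : CommGroup ↥P :=
      { (inferInstance : Group ↥P) with mul_comm := fun a b => Subtype.ext (hPcomm a a.2 b b.2).eq }
    haveI : P.FiniteIndex := inferInstance
    set τ := MonoidHom.transfer (MonoidHom.id ↥P) with hτ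
    have hτd : ∀ q (hq : q ∈ S), τ (el hq) = τ (el hdS) := by
      intro q hq
      obtain ⟨w, hw⟩ := isConj_iff.1 (hloc.isConj_lift hyp.odd (show el hdS ∈ lift S from hdS)
        (show el hq ∈ lift S from hq))
      rw [← hw, map_mul, map_mul, map_inv, mul_inv_cancel_comm]
    obtain ⟨b, hb⟩ := hyp.exists_tri hd
    have hbE : b ∈ sameCommutingClass D d := ⟨hb.right, Tri.same hyp.odd hb⟩
    have hdbE : d * b ∈ sameCommutingClass D d :=
      ⟨hb.mem, (Tri.same hyp.odd (hb.third' hyp.odd.1)).symm⟩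
    have hd1 : τ (el hdS) = 1 := by
      have h1 := hτd _ (hES _ hdbE)
      rw [show el (hES _ hdbE) = el hdS * el (hES b hbE) from rfl, map_mul, hτd b (hES b hbE)] at h1
      exact mul_eq_left.1 h1
    have hτ1 : ∀ y : ↥(Subgroup.closure S), τ y = 1 := by
      intro y
      have htop : (Subgroup.closure (lift S) : Subgroup ↥(Subgroup.closure S)) = ⊤ :=
        Subgroup.closure_closure_coe_preimage
      have hy : y ∈ Subgroup.closure (lift S) := htop ▸ Subgroup.mem_top y
      have hle : Subgroup.closure (lift S) ≤ τ.ker :=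
        (Subgroup.closure_le _).2 fun q hq => MonoidHom.mem_ker.2
          ((hτd (q : G) hq).trans hd1 : τ q = 1)
      exact MonoidHom.mem_ker.1 (hle hy)
    have hkey : ∀ (k : ℕ) (g₀ : ↥(Subgroup.closure S)), g₀⁻¹ * z ^ k * g₀ ∈ P →
        g₀⁻¹ * z ^ k * g₀ = z ^ k := fun k g₀ _ => by
      rw [mul_assoc, ((hkercomm hz g₀).pow_left k).eq, inv_mul_cancel_left]
    have h2 := (MonoidHom.transfer_eq_pow (MonoidHom.id ↥P) z hkey).symm.trans (hτ1 z)
    have hzi : z ^ P.index = 1 := congrArg Subtype.val h2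
    obtain ⟨j, hj⟩ := isPGroup_coreOf S ⟨(z : G),
      proj_eq_one_iff.1 ((hπk (hz.trans (map_one π).symm)).trans (map_one _))⟩
    have hzj : z ^ 2 ^ j = 1 := Subtype.ext (by simpa using congrArg Subtype.val hj)
    rw [← orderOf_eq_one_iff]
    exact Nat.eq_one_of_dvd_coprimes ((Nat.coprime_two_left.2 hodd).pow_left j)
      (orderOf_dvd_of_pow_eq_one hzj) (orderOf_dvd_of_pow_eq_one hzi)
  have hinj : Function.Injective π := (injective_iff_map_eq_one π).2 hcore
  constructor
  · rw [← Nat.card_eq_fintype_card, ← card_unipSL]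
    have hle : ∀ g ∈ sameCommutingSubgroup D d, g ∈ Subgroup.closure S := fun g hg =>
      Subgroup.closure_mono hES hg
    refine Nat.card_congr (Equiv.ofBijective (fun g : ↥(sameCommutingSubgroup D d) =>
      (⟨π ⟨g, hle g g.2⟩, ?_⟩ : ↥(unipSL F))) ⟨?_, ?_⟩).symm
    · have hg : (g : G) ∈ (sameCommutingSubgroup D d : Set G) := g.2
      rw [hyp.class_subgroup hd] at hg
      rcases hg with hg | hg
      · exact hEU _ hg
      · rw [show (⟨(g : G), hle g g.2⟩ : ↥(Subgroup.closure S)) = 1 from
          Subtype.ext (Set.mem_singleton_iff.1 hg), map_one]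
        exact one_mem _
    · intro g k h
      have := congrArg Subtype.val (hinj (congrArg Subtype.val h))
      exact Subtype.ext this
    · rintro ⟨w, hw⟩
      rcases hU w hw with h1 | ⟨q, hq, hqw⟩
      · exact ⟨1, Subtype.ext ((map_one π).trans h1.symm)⟩
      · exact ⟨⟨q, Subgroup.subset_closure hq⟩, Subtype.ext hqw⟩
  · exact ⟨((MulEquiv.subgroupCongr (hyp.closure_span hd hx hdx)).symm.trans
      ((MulEquiv.ofBijective π ⟨hinj, hπs⟩).trans ψ.symm))⟩

end CfsgLib.Perm.OddConnected
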