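import Cfsg.Agent.Lib.Perm.OddConnected.Main
import Cfsg.Agent.Lib.LocalEven.RootReduction.Disconnected
import Cfsg.Agent.Lib.LocalEven.TIEndgame.Main

/-!
# The group of a class and one partner

Its members commuting with `d` are those of the class, so its fibres are single members and its
2-core is central; modulo that core it is spanned, hence `L₂(q)` or `Sz(q)`.
-/

set_option autoImplicit false
set_option linter.style.haveILetI false

namespace CfsgLib.Perm.OddConnected

open Cfsg CfsgLib.Perm.RootInvolution CfsgLib.Perm.OddTransposition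

universe u

/-- The group of the class of `d` and `x`. -/
abbrev pairGroup {G : Type*} [Group G] (D : Set G) (d x : G) : Subgroup G :=
  Subgroup.closure (sameCommutingClass D d ∪ {x})

/-- The members commuting with `d` of the group of its class and a partner are in the class. -/
def SpanProp {G : Type*} [Group G] (D : Set G) : Prop :=
  ∀ d x f, d ∈ D → x ∈ D → ¬ Commute d x → f ∈ D → f ∈ pairGroup D d x → Commute f d → Same D d f

/-- A 2-element of the group of a class and a partner has a non-central square. -/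
def Bad {G : Type*} [Group G] (D : Set G) (d x : G) : Prop :=
  ∃ g ∈ pairGroup D d x, (∃ k : ℕ, g ^ 2 ^ k = 1) ∧ ∃ f ∈ pairGroup D d x, ¬ Commute (g * g) f

variable {G : Type u} [Group G] {D : Set G}

theorem class_conj {a d : G} (hD : IsRootInvolutionSet D) (w : G)
    (ha : a ∈ sameCommutingClass D d) :
    w * a * w⁻¹ ∈ sameCommutingClass D (w * d * w⁻¹) :=
  ⟨hD.conj_mem a ha.1 w, Same.conj hD ha.2 w⟩

theorem pairGroup_conj (hD : IsRootInvolutionSet D) {d x g : G} (w : G)
    (hg : g ∈ pairGroup D d x) :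
    w * g * w⁻¹ ∈ pairGroup D (w * d * w⁻¹) (w * x * w⁻¹) := by
  have hle : pairGroup D d x ≤
      (pairGroup D (w * d * w⁻¹) (w * x * w⁻¹)).comap (MulAut.conj w).toMonoidHom := by
    rw [Subgroup.closure_le]
    rintro y (hy | hy)
    · exact Subgroup.subset_closure (Or.inl (class_conj hD w hy))
    · exact Subgroup.subset_closure (Or.inr (Set.mem_singleton_iff.1 hy ▸ rfl))
  exact hle hg

theorem Bad.conj (hD : IsRootInvolutionSet D) {d x : G} (w : G) (h : Bad D d x) :
    Bad D (w * d * w⁻¹) (w * x * w⁻¹) := by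
  obtain ⟨g, hg, ⟨k, hk⟩, f, hf, hnc⟩ := h
  refine ⟨_, pairGroup_conj hD w hg, ⟨k, by rw [conj_pow, hk, mul_one, mul_inv_cancel]⟩, _,
    pairGroup_conj hD w hf, fun hc => hnc ?_⟩
  rw [show w * g * w⁻¹ * (w * g * w⁻¹) = w * (g * g) * w⁻¹ by group] at hc
  simpa [mul_assoc] using hc.conj w⁻¹

/-- The group of a class and a partner centralises their common neighbours. -/
theorem pairGroup_commute {d x e g : G} (he : e ∈ D) (hed : Commute e d) (hex : Commute e x)
    (hg : g ∈ pairGroup D d x) : Commute g e := by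
  have hle : pairGroup D d x ≤ Subgroup.centralizer ({e} : Set G) := by
    rw [Subgroup.closure_le]
    rintro y (hy | hy)
    · exact Subgroup.mem_centralizer_singleton_iff.2 ((Same.iff hy.2 he).1 hed).symm.eq
    · exact Subgroup.mem_centralizer_singleton_iff.2 (Set.mem_singleton_iff.1 hy ▸ hex.symm).eq
  exact Subgroup.mem_centralizer_singleton_iff.1 (hle hg)

variable [Finite G]

/-- A central 2-element of a local quotient is trivial. -/
theorem eq_one_of_central_two {S : Set G} {z : Quot' S} {k : ℕ} (hk : z ^ 2 ^ k = 1)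
    (hz : z ∈ Subgroup.center (Quot' S)) : z = 1 := by
  haveI : Fact (Nat.Prime 2) := ⟨Nat.prime_two⟩
  have hn : (Subgroup.zpowers z).Normal := ⟨fun y hy w => by
    rwa [Subgroup.mem_center_iff.1 (Subgroup.zpowers_le.2 hz hy) w, mul_inv_cancel_right]⟩
  obtain ⟨j, -, hj⟩ := (Nat.dvd_prime_pow Nat.prime_two).1 (orderOf_dvd_of_pow_eq_one hk)
  have h1 := Solvable.Cores.le_pCore (hn := hn)
    (IsPGroup.of_card (n := j) (by rw [Nat.card_zpowers, hj])) (Subgroup.mem_zpowers z)
  rwa [Components.SFT.pCore_quotient_eq_bot 2 ↥(Subgroup.closure S), Subgroup.mem_bot] at h1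

/-- A normal 2-subgroup of the group generated by `S` lies in the core. -/
theorem mem_core_of_normal {S : Set G} {P : Subgroup G} (hP : IsPGroup 2 ↥P)
    (hle : P ≤ Subgroup.closure S) (hn : ∀ g ∈ Subgroup.closure S, ∀ n ∈ P, g * n * g⁻¹ ∈ P)
    {n : G} (h : n ∈ P) : n ∈ coreOf S := by
  haveI : (P.subgroupOf (Subgroup.closure S)).Normal := ⟨fun y hy g => hn g g.2 y hy⟩
  have h2 : IsPGroup 2 ↥(P.subgroupOf (Subgroup.closure S)) :=
    hP.comap_of_injective _ (Subgroup.closure S).subtype_injective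
  exact ⟨⟨n, hle h⟩, Solvable.Cores.le_pCore h2 (Subgroup.mem_subgroupOf.2 h), rfl⟩

/-- An element normalising `S` normalises its core. -/
theorem conj_coreOf {S : Set G} {g : G} (hg : ∀ a ∈ S, g * a * g⁻¹ ∈ S)
    (hg' : ∀ a ∈ S, g⁻¹ * a * g ∈ S) {n : G} (hn : n ∈ coreOf S) :
    g * n * g⁻¹ ∈ coreOf S := by
  set φ : G →* G := (MulAut.conj g).toMonoidHom with hφ
  have hcl : ∀ {w : G}, (∀ a ∈ S, w * a * w⁻¹ ∈ S) → ∀ y ∈ Subgroup.closure S,
      w * y * w⁻¹ ∈ Subgroup.closure S := by
    intro w hw y hy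
    have : Subgroup.closure S ≤ (Subgroup.closure S).comap (MulAut.conj w).toMonoidHom :=
      (Subgroup.closure_le _).2 fun a ha => Subgroup.subset_closure (hw a ha)
    exact this hy
  refine mem_core_of_normal (P := (coreOf S).map φ) ((isPGroup_coreOf S).map φ) ?_ ?_
    ⟨n, hn, rfl⟩
  · rintro _ ⟨y, hy, rfl⟩
    exact hcl hg y (Subgroup.map_subtype_le _ hy)
  · rintro w hw _ ⟨y, hy, rfl⟩
    have h2 : g⁻¹ * w * g ∈ Subgroup.closure S := by
      have := hcl (w := g⁻¹) (by simpa using hg') w hw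
      simpa using this
    refine ⟨g⁻¹ * w * g * y * (g⁻¹ * w * g)⁻¹, core_conj h2 hy, ?_⟩
    simp only [hφ, MulEquiv.coe_toMonoidHom, MulAut.conj_apply]
    group

/-- The image of the group of a class and a partner lies in that of their images. -/
theorem Local.pairGroup_image {S : Set G} (h : Local D S) (hD : IsOddTranspositionSet D) {d x : G}
    (hdS : d ∈ S) (hES : ∀ a ∈ sameCommutingClass D d, a ∈ S) (hxS : x ∈ S) {g : G}
    (hg : g ∈ pairGroup D d x) :
    ∃ hgS : g ∈ Subgroup.closure S,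
      proj S ⟨g, hgS⟩ ∈ pairGroup (img S) (proj S (el hdS)) (proj S (el hxS)) := by
  have hle : pairGroup D d x ≤
      ((pairGroup (img S) (proj S (el hdS)) (proj S (el hxS))).comap (proj S)).map
        (Subgroup.closure S).subtype := by
    rw [Subgroup.closure_le]
    rintro y (hy | hy)
    · refine ⟨el (hES y hy), Subgroup.subset_closure (Or.inl ⟨el_mem _, ?_⟩), rfl⟩
      exact (h.same_proj_iff hD hdS (hES y hy)).2 (same_iff.2 fun f hf => Same.iff hy.2 (h.subset hf))
    · obtain rfl := Set.mem_singleton_iff.1 hy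
      exact ⟨el hxS, Subgroup.subset_closure (Or.inr rfl), rfl⟩
  obtain ⟨y, hy, rfl⟩ := hle hg
  exact ⟨y.2, hy⟩

/-- In a disconnected local subset commutation is transitive. -/
theorem Local.commTrans_of_disconnected {S : Set G} (h : Local D S) (hD : IsOddTranspositionSet D)
    (hc : ¬ IsConnectedSet (CommAdj (lift S)) (lift S)) : CommTrans S := by
  obtain ⟨R, hR⟩ := h.exists_setup hD hc
  intro a ha b hb c hc' hab hbc
  refine (h.commute_proj_iff hD ha hc').1 (hR.commutes _ (el_mem ha) _ (el_mem hc') ?_)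
  exact hR.trans (hR.of_commute (el_mem ha) (el_mem hb) ((h.commute_proj_iff hD ha hb).2 hab))
    (hR.of_commute (el_mem hb) (el_mem hc') ((h.commute_proj_iff hD hb hc').2 hbc))

variable (hyp : Hyp D)
include hyp

theorem Hyp.mem_nbr_of_common {d x e : G} (hd : d ∈ D) (hx : x ∈ D) (hdx : ¬ Commute d x)
    (he : e ∈ D) (hed : Commute e d) (hex : Commute e x) :
    x ∈ Nbr D e ∧ ∀ a ∈ sameCommutingClass D d, a ∈ Nbr D e :=
  ⟨⟨hx, hex.symm, fun hs => hdx ((hs.iff hd).2 hed.symm)⟩, fun a ha =>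
    ⟨ha.1, ((Same.iff ha.2 he).1 hed).symm,
      fun hs => hdx ((Same.iff ha.2 hx).2 ((hs.iff hx).2 hex.symm)).symm⟩⟩

/-- A member commuting with `d` and two non-commuting common neighbours, which is congruent to `d`
in both neighbourhoods, is in the class of `d`. -/
theorem Hyp.same_of_two {d f e e' : G} (hd : d ∈ D) (hf : f ∈ D) (he : e ∈ D) (he' : e' ∈ D)
    (hed : Commute e d) (he'd : Commute e' d) (hee : ¬ Commute e e') (hfd : Commute f d)
    (hfe : Commute f e) (hfe' : Commute f e')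
    (hs : Same (Nbr D e) d f) (hs' : Same (Nbr D e') d f) : Same D d f := by
  by_contra hn
  have hfN : f ∈ Nbr D d := ⟨hf, hfd, fun h => hn h.symm⟩
  have key : ∀ {c c' : G}, c ∈ D → c' ∈ D → ¬ Commute c c' → Commute c d → Commute c' d →
      Commute f c → Same (Nbr D c) d f → c ∈ Nbr D d ∧ Same (Nbr D d) c f := by
    intro c c' hc hc' hcc hcd hc'd hfc hsc
    have hcN : c ∈ Nbr D d := ⟨hc, hcd, fun h => hcc ((h.iff hc').2 hc'd).symm⟩
    have hloc := hyp.nbr_local hyp.below hd hcN
    refine ⟨hcN, CfsgLib.Perm.OddConnected.same_of_subset hyp.odd hloc.subset hloc.conj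
      hloc.linked hcN hfN fun k hk hkc => ?_⟩
    by_cases h : Same D k c
    · exact ((h.iff hf).2 hfc).symm
    · exact (hsc.iff (show k ∈ Nbr D c from ⟨hk.1, hkc, h⟩)).1 hk.2.1
  obtain ⟨hcN, h1⟩ := key he he' hee hed he'd hfe hs
  obtain ⟨-, h2⟩ := key he' he (fun h => hee h.symm) he'd hed hfe' hs'
  exact hee (Same.commute (h1.trans h2.symm) hcN)

omit hyp in
theorem spanProp_of_hyp : ∀ (n : ℕ) (X : Type u) [Group X] [Finite X] (E : Set X),
    Nat.card X < n → Hyp E → SpanProp E := by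
  intro n
  induction n with
  | zero => exact fun X _ _ E h => absurd h (Nat.not_lt_zero _)
  | succ n ihn =>
    intro X _ _ E hlt hE d x f hd hx hdx hf hfX hfd
    obtain ⟨e, he, e', he', h1, h2, h3, h4, h5⟩ := hE.good.common d x hd hx hdx
    have key : ∀ {c c' : X}, c ∈ E → c' ∈ E → Commute c d → Commute c x → Commute c' d →
        Commute c' x → ¬ Commute c c' → Same (Nbr E c) d f := by
      intro c c' hc hc' hcd hcx hc'd hc'x hcc
      obtain ⟨hxN, hEN⟩ := hE.mem_nbr_of_common hd hx hdx hc hcd hcx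
      have hdN := hEN d ⟨hd, rfl⟩
      have hfN : f ∈ Nbr E c := ⟨hf, pairGroup_commute hc hcd hcx hfX, fun hs =>
        hcc ((hs.iff hc').1 (pairGroup_commute hc' hc'd hc'x hfX).symm).symm⟩
      have hloc := hE.nbr_local hE.below hc hdN
      by_cases hcon : IsConnectedSet (CommAdj (lift (Nbr E c))) (lift (Nbr E c))
      · obtain ⟨hfS, hfi⟩ := hloc.pairGroup_image hE.odd hdN hEN hxN hfX
        have hlt' := card_quot_lt hloc.proper
        refine (hloc.same_proj_iff hE.odd hdN hfN).1 (ihn _ _ (by omega) (hloc.hyp_img hE.odd hcon)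
          _ _ _ (el_mem hdN) (el_mem hxN) (fun h => hdx ((hloc.commute_proj_iff hE.odd hdN hxN).1 h))
          (el_mem hfN) hfi ((hloc.commute_proj_iff hE.odd hfN hdN).2 hfd))
      · exact (hloc.commTrans_of_disconnected hE.odd hcon).same hdN hfN hfd.symm
    exact hE.same_of_two hd hf he he' h1 h3 h5 hfd (pairGroup_commute he h1 h2 hfX)
      (pairGroup_commute he' h3 h4 hfX) (key he he' h1 h2 h3 h4 h5)
      (key he' he h3 h4 h1 h2 fun h => h5 h.symm)

theorem Hyp.spanProp : SpanProp D := spanProp_of_hyp _ G D (Nat.lt_succ_self _) hyp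

variable {d x : G} (hd : d ∈ D) (hx : x ∈ D) (hdx : ¬ Commute d x)
include hd hx hdx

theorem Hyp.closure_span : Subgroup.closure (span D d x) = pairGroup D d x := by
  obtain ⟨hxS, hES⟩ := hyp.mem_span hd hx hdx
  refine le_antisymm ((Subgroup.closure_le _).2 fun q hq => hq.1.2) (Subgroup.closure_mono ?_)
  rintro y (hy | hy)
  · exact hES y hy
  · exact Set.mem_singleton_iff.1 hy ▸ hxS

/-- The fibres of the group of a class and a partner are single members. -/
theorem Hyp.eq_of_congr {q q' : G} (hq : q ∈ span D d x) (hq' : q' ∈ span D d x)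
    (h : q * q' ∈ coreOf (span D d x)) : q = q' := by
  have hloc := hyp.local_span hd hx hdx
  obtain ⟨hxS, hES⟩ := hyp.mem_span hd hx hdx
  have hdS := hES d ⟨hd, rfl⟩
  have ht := hloc.commTrans_of_disconnected hyp.odd (hyp.span_disconnected hyp.below hd hx hdx)
  have hline : {p | p ∈ span D d x ∧ Same (span D d x) d p} = sameCommutingClass D d := by
    ext p
    refine ⟨fun hp => ⟨hp.1.1.1, hyp.spanProp d x p hd hx hdx hp.1.1.1 hp.1.1.2
      (hp.2.commute hdS).symm⟩, fun hp => ⟨hES p hp, ht.same hdS (hES p hp)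
        (Same.commute hp.2 hd)⟩⟩
  have hsub : fiber (span D d x) d ⊆ sameCommutingClass D d := fun p hp =>
    hline ▸ ⟨hp.1, hloc.same_of_rel hyp.odd hdS hp.1 hp.2⟩
  have hone : (fiber (span D d x) d).ncard = 1 := by
    have h1 : fiber (span D d x) d = {d} := Set.Subset.antisymm (fun p hp => by
      refine (hyp.eq_of_fixed hyp.below hd ⟨hd, rfl⟩ (hsub hp) hx hdx ?_).symm
      exact (hyp.fixed_iff hyp.below hd hx hdx ⟨hd, rfl⟩ (hsub hp)).2 hp.2)
      (Set.singleton_subset_iff.2 (hloc.self_mem_fiber hyp.odd hdS))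
    rw [h1, Set.ncard_singleton]
  rw [← hloc.ncard_fiber_eq hyp.odd hdS hq] at hone
  obtain ⟨p, hp⟩ := Set.ncard_eq_one.1 hone
  have e1 := hp.subset (hloc.self_mem_fiber hyp.odd hq)
  have e2 := hp.subset (show q' ∈ fiber (span D d x) q from ⟨hq', h⟩)
  exact (Set.mem_singleton_iff.1 e1).trans (Set.mem_singleton_iff.1 e2).symm

/-- The core of the group of a class and a partner is central. -/
theorem Hyp.core_central {n g : G} (hn : n ∈ coreOf (span D d x)) (hg : g ∈ pairGroup D d x) :
    Commute n g := by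
  have hloc := hyp.local_span hd hx hdx
  have hmem : ∀ q ∈ span D d x, Commute n q := fun q hq => by
    have hnH : n ∈ Subgroup.closure (span D d x) := Subgroup.map_subtype_le _ hn
    have hq' := closure_normalises hyp.odd.1 hloc.subset hloc.conj hnH hq
    refine mul_inv_eq_iff_eq_mul.1 (hyp.eq_of_congr hd hx hdx hq' hq ?_)
    have h := core_conj (Subgroup.subset_closure hq) (inv_mem hn)
    rw [show n * q * n⁻¹ * q = n * (q * n⁻¹ * q⁻¹) by
      rw [inv_eq hyp.odd.1 (hloc.subset hq)]; group]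
    exact mul_mem hn h
  rw [← hyp.closure_span hd hx hdx] at hg
  have hle : Subgroup.closure (span D d x) ≤ Subgroup.centralizer ({n} : Set G) :=
    (Subgroup.closure_le _).2 fun q hq => Subgroup.mem_centralizer_singleton_iff.2 (hmem q hq).symm.eq
  exact (show Commute g n from Subgroup.mem_centralizer_singleton_iff.1 (hle hg)).symm

/-- A 2-element whose square is central modulo the core has its square in the core. -/
theorem Hyp.sq_mem_core {g : G} (hg : g ∈ pairGroup D d x) {k : ℕ} (hk : g ^ 2 ^ k = 1)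
    (h : ∀ f ∈ pairGroup D d x, g * g * f * (g * g)⁻¹ * f⁻¹ ∈ coreOf (span D d x)) :
    g * g ∈ coreOf (span D d x) := by
  rw [← hyp.closure_span hd hx hdx] at hg
  set y : ↥(Subgroup.closure (span D d x)) := ⟨g, hg⟩ with hy
  refine (proj_eq_one_iff (x := y * y)).1 (eq_one_of_central_two (k := k) ?_ ?_)
  · have h1 : y ^ 2 ^ k = 1 := Subtype.ext (by simpa [hy] using hk)
    rw [← map_pow, (Commute.refl y).mul_pow, h1, one_mul, map_one]
  · rw [Subgroup.mem_center_iff]
    intro q
    obtain ⟨⟨f, hf⟩, rfl⟩ := proj_surjective (span D d x) q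
    have h2 : proj (span D d x) (y * y * ⟨f, hf⟩ * (y * y)⁻¹ * ⟨f, hf⟩⁻¹) = 1 :=
      proj_eq_one_iff.2 (h f (hyp.closure_span hd hx hdx ▸ hf))
    rw [map_mul, map_mul, map_mul, map_inv, map_inv, mul_inv_eq_one, mul_inv_eq_iff_eq_mul] at h2
    exact h2.symm

theorem Hyp.bad_iff : Bad D d x ↔
    ∃ g ∈ pairGroup D d x, (∃ k : ℕ, g ^ 2 ^ k = 1) ∧ g * g ∉ coreOf (span D d x) := by
  constructor
  · rintro ⟨g, hg, hk, f, hf, hnc⟩
    exact ⟨g, hg, hk, fun hm => hnc (hyp.core_central hd hx hdx hm hf)⟩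
  · rintro ⟨g, hg, ⟨k, hk⟩, hn⟩
    by_contra hcon
    refine hn (hyp.sq_mem_core hd hx hdx hg hk fun f hf => ?_)
    have hc : Commute (g * g) f := by_contra fun h => hcon ⟨g, hg, ⟨k, hk⟩, f, hf, h⟩
    rw [hc.eq, mul_inv_cancel_right, mul_inv_cancel]
    exact one_mem _

/-- Modulo its core the group of a class and a partner is spanned. -/
theorem Hyp.spanned_img {hdS : d ∈ span D d x} {hxS : x ∈ span D d x} :
    Spanned (img (span D d x)) (proj _ (el hdS)) (proj _ (el hxS)) := by
  have hloc := hyp.local_span hd hx hdx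
  obtain ⟨-, hES⟩ := hyp.mem_span hd hx hdx
  refine ⟨hloc.odd_img hyp.odd, Components.SFT.pCore_quotient_eq_bot 2 _, el_mem hdS, el_mem hxS,
    fun h => hdx ((hloc.commute_proj_iff hyp.odd hdS hxS).1 h), ?_⟩
  rw [eq_top_iff]
  intro q _
  obtain ⟨⟨g, hg⟩, rfl⟩ := proj_surjective (span D d x) q
  obtain ⟨_, h⟩ := hloc.pairGroup_image hyp.odd hdS hES hxS (hyp.closure_span hd hx hdx ▸ hg)
  exact h

theorem Hyp.span_type :
    (∃ (F : Type) (_ : Field F) (_ : Fintype F), CharP F 2 ∧ 4 ≤ Fintype.card F ∧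
      Nonempty (Quot' (span D d x) ≃* Matrix.ProjectiveSpecialLinearGroup (Fin 2) F)) ∨
    Cfsg.Lie.IsoSuzuki (Quot' (span D d x)) := by
  have hloc := hyp.local_span hd hx hdx
  obtain ⟨hxS, hES⟩ := hyp.mem_span hd hx hdx
  have hdS := hES d ⟨hd, rfl⟩
  obtain ⟨b, hb⟩ := hyp.exists_tri hd
  have hbE : b ∈ sameCommutingClass D d := ⟨hb.right, Tri.same hyp.odd hb⟩
  refine (hyp.spanned_img (hdS := hdS) (hxS := hxS) hd hx hdx).classify
    (LocalEven.RootReduction.disconnectedStructure_of_step LocalEven.TIEndgame.tiStep) ?_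
    (a := proj _ (el (hES b hbE))) ⟨el_mem _, ?_⟩ fun e => (hb.ne hyp.odd.1) ?_
  · rintro _ ⟨p, hp, rfl⟩ _ ⟨q, hq, rfl⟩
    exact (proj _).map_isConj (hloc.isConj_lift hyp.odd hp hq)
  · exact (hloc.same_proj_iff hyp.odd hdS (hES b hbE)).2
      (same_iff.2 fun f hf => Same.iff hbE.2 (hloc.subset hf))
  · exact (hyp.eq_of_congr hd hx hdx (hES b hbE) hdS
      ((hloc.mem_fiber hyp.odd (hES b hbE) hdS).2 e).2).symm

end CfsgLib.Perm.OddConnected
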